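import Groth.Agent.Coherent.Existence.Completion
import Groth.Agent.Coherent.Serre.AmpleAffine

/-!
# The kernel of an epimorphism of coherent formal modules

It need not be a coherent formal module, but its successive kernels are eventually generated.
-/

set_option autoImplicit false
set_option backward.isDefEq.respectTransparency false

universe u

open CategoryTheory CategoryTheory.Limits AlgebraicGeometry Opposite TopologicalSpace
open Groth.Agent.Coherent Groth.Agent.Coherent.Serre

namespace Groth.Agent.Coherent.Existence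

variable {X : Scheme.{u}}

theorem comp_app_eq {L M N : X.Modules} (f : L ⟶ M) (g : M ⟶ N) (U : X.Opens) (a : Γ(L, U)) :
    (f ≫ g).app U a = g.app U (f.app U a) := rfl

theorem app_congr {M N : X.Modules} {f g : M ⟶ N} (h : f = g) (U : X.Opens) (a : Γ(M, U)) :
    f.app U a = g.app U a := by rw [h]

/-- An epimorphism between quasi-coherent modules is onto on affine opens. -/
theorem app_surjective_of_epi {M N : X.Modules} (f : M ⟶ N) [Epi f] [Coh.IsQCoh M] [Coh.IsQCoh N]
    {U : X.Opens} (hU : IsAffineOpen U) : Function.Surjective (f.app U) := by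
  have : Coh.IsQCoh (ShortComplex.mk (kernel.ι f) f (kernel.condition f)).X₁ := isQCoh_kernel f
  exact sections_surjective (Serre.kerSeqEpi_shortExact f) hU

/-- Surjectivity on affine opens gives an epimorphism. -/
theorem epi_of_affine_surjective {M N : X.Modules} (f : M ⟶ N)
    (h : ∀ U : X.Opens, IsAffineOpen U → Function.Surjective (f.app U)) : Epi f :=
  epi_of_locally_surjective f fun W a y hy => by
    obtain ⟨U, hU, hyU, hUW⟩ := exists_isAffineOpen_mem_and_subset (x := y) (U := W) hy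
    exact ⟨U, fun z hz => hUW hz, hyU, h U hU _⟩

variable {A : Type u} [CommRing A] [X.Over (Spec (CommRingCat.of A))] {I : Ideal A}
  {P G : ℕᵒᵖ ⥤ X.Modules}

/-- A compatible family of maps. -/
def Compat (f : ∀ n, P.obj (op n) ⟶ G.obj (op n)) : Prop :=
  ∀ n, tr P n ≫ f n = f (n + 1) ≫ tr G n

variable {f : ∀ n, P.obj (op n) ⟶ G.obj (op n)} (hf : Compat f)

include hf

/-- The transition map of the kernels. -/
noncomputable def kTr (n : ℕ) : kernel (f (n + 1)) ⟶ kernel (f n) :=
  kernel.map _ _ (tr P n) (tr G n) (hf n).symm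

theorem kTr_ι (n : ℕ) : kTr hf n ≫ kernel.ι (f n) = kernel.ι (f (n + 1)) ≫ tr P n :=
  kernel.lift_ι _ _ _

/-- The map between the successive kernels. -/
noncomputable def kerMap (n : ℕ) : kernel (tr P n) ⟶ kernel (tr G n) :=
  kernel.map _ _ (f (n + 1)) (f n) (hf n)

theorem kerMap_ι (n : ℕ) : kerMap hf n ≫ kernel.ι (tr G n) = kernel.ι (tr P n) ≫ f (n + 1) :=
  kernel.lift_ι _ _ _

variable (hP : Formal.IsCohFormal I P) (hG : Formal.IsCohFormal I G) (he : ∀ n, Epi (f n))

include hP

theorem psi_natural (k : ℕ) {a : A} (ha : a ∈ I) :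
    psi hP k ha ≫ f (k + 2) = f (k + 1) ≫ psi hG k ha := by
  have := epi_tr hP (k + 1)
  rw [← cancel_epi (tr P (k + 1)), ← Category.assoc, tr_psi, ← Category.assoc, hf (k + 1),
    Category.assoc, tr_psi, smulMod_natural]

include hG he

theorem epi_kerMap (n : ℕ) : Epi (kerMap hf n) := by
  refine Preadditive.epi_of_cancel_zero _ fun g hg => ?_
  have hsm := smulFamily_tr hG n
  have := (exact_smulFamily_tr hG n).epi_kernelLift
  rw [← cancel_epi (kernel.lift (tr G n) _ hsm), comp_zero]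
  refine Sigma.hom_ext _ _ fun c => ?_
  rw [comp_zero, ← Category.assoc]
  have e : Sigma.ι (fun _ : (I ^ (n + 1) : Ideal A) => G.obj (op (n + 1))) c ≫
      kernel.lift (tr G n) _ hsm = kerElem hG n c.2 := by
    rw [← cancel_mono (kernel.ι _), Category.assoc, kernel.lift_ι, kerElem_ι, ι_smulFamily]
  rw [e]
  have := he (n + 1)
  rw [← cancel_epi (f (n + 1)), comp_zero, ← Category.assoc]
  have e2 : f (n + 1) ≫ kerElem hG n c.2 = kerElem hP n c.2 ≫ kerMap hf n := by
    rw [← cancel_mono (kernel.ι _), Category.assoc, Category.assoc, kerMap_ι, kerElem_ι,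
      ← Category.assoc, kerElem_ι, smulMod_natural]
  rw [e2, Category.assoc, hg, comp_zero]

omit hf he in
theorem isCoh_kernel_map [IsLocallyNoetherian X] (n : ℕ) : Coh.IsCoh (kernel (f n)) :=
  isCoh_kernel _ (hP.1 n) (hG.1 n).1

theorem epi_kTr [IsLocallyNoetherian X] (n : ℕ) : Epi (kTr hf n) := by
  refine epi_of_affine_surjective _ fun U hU x => ?_
  have := (hP.1 n).1
  have := (hP.1 (n + 1)).1
  have := epi_tr hP n
  have := epi_kerMap hf hP hG he n
  have := (isCoh_kernel_tr hP n).1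
  have := (isCoh_kernel_tr hG n).1
  obtain ⟨p, hp⟩ := app_surjective_of_epi (tr P n) hU ((kernel.ι (f n)).app U x)
  obtain ⟨q, hq⟩ := kernel_sections_exact (tr G n) ((f (n + 1)).app U p) (by
    rw [← comp_app_eq, ← app_congr (hf n), comp_app_eq, hp]
    exact kernel_ι_app_zero _ _ _)
  obtain ⟨q', hq'⟩ := app_surjective_of_epi (kerMap hf n) hU q
  obtain ⟨y, hy⟩ := kernel_sections_exact (f (n + 1)) (p - (kernel.ι (tr P n)).app U q') (by
    rw [map_sub, ← comp_app_eq (kernel.ι (tr P n)), ← app_congr (kerMap_ι hf n), comp_app_eq,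
      hq', hq, sub_self])
  refine ⟨y, app_injective_of_mono (kernel.ι (f n)) U ?_⟩
  rw [← comp_app_eq, app_congr (kTr_ι hf n), comp_app_eq, hy, map_sub, hp, kernel_ι_app_zero,
    sub_zero]

omit he in
/-- The operator `K_(k+1) → K_(k+2)` of an element of `I`. -/
noncomputable def kPsi (k : ℕ) {a : A} (ha : a ∈ I) : kernel (f (k + 1)) ⟶ kernel (f (k + 2)) :=
  kernel.map _ _ (psi hP k ha) (psi hG k ha) (psi_natural hf hP hG k ha).symm

omit he in
theorem kPsi_ι (k : ℕ) {a : A} (ha : a ∈ I) :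
    kPsi hf hP hG k ha ≫ kernel.ι (f (k + 2)) = kernel.ι (f (k + 1)) ≫ psi hP k ha :=
  kernel.lift_ι _ _ _

omit he in
theorem kTr_kPsi (k : ℕ) {a : A} (ha : a ∈ I) :
    kTr hf (k + 1) ≫ kPsi hf hP hG k ha = Formal.smulMod A _ a := by
  rw [← cancel_mono (kernel.ι _), Category.assoc, kPsi_ι, ← Category.assoc, kTr_ι, Category.assoc,
    tr_psi, smulMod_natural]

omit he hG in
/-- The inclusion of the successive kernels of `K` in those of `P`. -/
noncomputable def qι (n : ℕ) : kernel (kTr hf n) ⟶ kernel (tr P n) :=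
  kernel.lift _ (kernel.ι _ ≫ kernel.ι (f (n + 1))) (by
    rw [Category.assoc, ← kTr_ι hf, ← Category.assoc, kernel.condition, zero_comp])

omit he hG hP in
theorem qι_ι (n : ℕ) :
    qι hf n ≫ kernel.ι (tr P n) = kernel.ι (kTr hf n) ≫ kernel.ι (f (n + 1)) :=
  kernel.lift_ι _ _ _

omit he hG hP in
instance mono_qι (n : ℕ) : Mono (qι hf n) := by
  have : Mono (qι hf n ≫ kernel.ι (tr P n)) := by rw [qι_ι]; infer_instance
  exact mono_of_mono _ (kernel.ι (tr P n))

omit he in
/-- The operator on the successive kernels of `K`. -/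
noncomputable def qOp {a : A} (ha : a ∈ I) (k : ℕ) : kernel (kTr hf k) ⟶ kernel (kTr hf (k + 1)) :=
  kernel.lift _ (kernel.ι _ ≫ kPsi hf hP hG k ha) (by
    rw [← cancel_mono (kernel.ι (f (k + 1))), zero_comp, Category.assoc, Category.assoc, kTr_ι,
      ← Category.assoc (kPsi hf hP hG k ha), kPsi_ι, Category.assoc, psi_tr, ← Category.assoc,
      ← qι_ι hf k, Category.assoc, ι_smul_eq_zero hP k ha, comp_zero])

omit he in
theorem qOp_ι {a : A} (ha : a ∈ I) (k : ℕ) :
    qOp hf hP hG ha k ≫ kernel.ι (kTr hf (k + 1)) = kernel.ι (kTr hf k) ≫ kPsi hf hP hG k ha :=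
  kernel.lift_ι _ _ _

omit he in
theorem qOp_qι {a : A} (ha : a ∈ I) (k : ℕ) :
    qOp hf hP hG ha k ≫ qι hf (k + 1) = qι hf k ≫ kerOp hP ha k := by
  rw [← cancel_mono (kernel.ι _), Category.assoc, Category.assoc, qι_ι, kerOp_ι, ← Category.assoc,
    qOp_ι, Category.assoc, kPsi_ι, ← Category.assoc, ← qι_ι, Category.assoc]

omit he in
theorem qOp_comm {a b : A} (ha : a ∈ I) (hb : b ∈ I) (k : ℕ) :
    qOp hf hP hG ha k ≫ qOp hf hP hG hb (k + 1) = qOp hf hP hG hb k ≫ qOp hf hP hG ha (k + 1) := by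
  rw [← cancel_mono (qι hf (k + 1 + 1)), Category.assoc, Category.assoc, qOp_qι, qOp_qι,
    ← Category.assoc, ← Category.assoc, qOp_qι, qOp_qι, Category.assoc, Category.assoc, kerOp_comm]

variable [IsLocallyNoetherian X]

omit he in
theorem isCoh_kernel_kTr (n : ℕ) : Coh.IsCoh (kernel (kTr hf n)) :=
  isCoh_kernel _ (isCoh_kernel _ (hP.1 (n + 1)) (hG.1 (n + 1)).1) (isCoh_kernel _ (hP.1 n) (hG.1 n).1).1

omit he in
theorem secEG_qOp {r : ℕ} {a : Fin r → A} (ha : ∀ i, a i ∈ I)
    (hI : Submodule.span A (Set.range a) = I) :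
    SecEG (fun k => kernel (kTr hf k)) fun i k => qOp hf hP hG (ha i) k := fun U hU => by
  have := IsLocallyNoetherian.component_noetherian (X := X) ⟨U, hU⟩
  exact (secEG_kerOp hP ha hI U hU).sub
    (fun n => ((isCoh_iff_finite_sections _).1 (isCoh_kernel_tr hP n)).2 U hU)
    (fun i j n x => app_congr (kerOp_comm hP (ha j) (ha i) n) U x)
    (fun n => appLin (qι hf n) U) (fun n => app_injective_of_mono (qι hf n) U)
    (fun i n x => app_congr (qOp_qι hf hP hG (ha i) n) U x)

omit he [IsLocallyNoetherian X] in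
theorem kPsi_app_of_kTr (k : ℕ) {a : A} (ha : a ∈ I) (U : X.Opens)
    (z : Γ(kernel (f (k + 2)), U)) :
    (kPsi hf hP hG k ha).app U ((kTr hf (k + 1)).app U z) = (Formal.smulMod A _ a).app U z :=
  app_congr (kTr_kPsi hf hP hG k ha) U z

omit he in
/-- Beyond the degree of generation, maps onto one level of the kernels are onto all higher levels. -/
theorem epi_succ {r : ℕ} {a : Fin r → A} (ha : ∀ i, a i ∈ I) {U : X.Opens}
    {b : ℕ} (hb : ∀ n, b ≤ n → ∀ x : Γ(kernel (kTr hf (n + 1)), U),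
      ∃ y : Fin r → Γ(kernel (kTr hf n), U), x = ∑ i, (qOp hf hP hG (ha i) n).app U (y i))
    {E : X.Modules} (h : ∀ n, E ⟶ kernel (f n)) (hh : ∀ n, h (n + 1) ≫ kTr hf n = h n)
    {n : ℕ} (hn : b ≤ n) (hs : Function.Surjective ((h (n + 1)).app U)) :
    Function.Surjective ((h (n + 2)).app U) := fun x => by
  obtain ⟨y, hy⟩ := hs ((kTr hf (n + 1)).app U x)
  obtain ⟨z, hz⟩ := kernel_sections_exact (kTr hf (n + 1)) (x - (h (n + 2)).app U y) (by
    rw [map_sub, ← comp_app_eq (h (n + 2)), app_congr (hh (n + 1)), hy, sub_self])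
  obtain ⟨q, hq⟩ := hb n hn z
  choose w hw using fun i => hs ((kernel.ι (kTr hf n)).app U (q i))
  refine ⟨y + ∑ i, (Formal.smulMod A E (a i)).app U (w i), ?_⟩
  rw [map_add, map_sum, ← eq_sub_iff_add_eq', ← hz, hq, map_sum]
  refine Finset.sum_congr rfl fun i _ => ?_
  rw [← comp_app_eq (qOp hf hP hG (ha i) n), app_congr (qOp_ι hf hP hG (ha i) n), comp_app_eq, ← hw i,
    ← app_congr (hh (n + 1)), comp_app_eq, kPsi_app_of_kTr, ← comp_app_eq,
    app_congr (smulMod_natural (h (n + 2)) (a i)), comp_app_eq]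

end Groth.Agent.Coherent.Existence
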