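import Groth.Agent.Coherent.Existence.PullSys
import Groth.Agent.Coherent.RpushSupport
import Groth.Agent.AmpleLib.CounitEpi

/-!
# Formal functions over the affine opens of the target of a proper morphism
-/

set_option autoImplicit false
set_option backward.isDefEq.respectTransparency false

universe u

open CategoryTheory CategoryTheory.Limits AlgebraicGeometry Opposite TopologicalSpace
open Groth.Agent.Coherent Groth.Agent.Coherent.Serre

namespace Groth.Agent.Coherent.Existence

theorem isCoh_push_of_isProper {X X' : Scheme.{u}} (p : X' ⟶ X) [IsProper p] [IsLocallyNoetherian X]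
    {F : X'.Modules} (hF : Coh.IsCoh F) : Coh.IsCoh ((Coh.push p).obj F) := by
  have := hasInjectiveResolutions_modules X'
  exact isCoh_iso ((Coh.push p).rightDerivedZeroIsoSelf.app F) (isCoh_rpush p hF 0)

theorem smul_eq_zero_of_killedBy {A : Type u} [CommRing A] {X : Scheme.{u}}
    [X.Over (Spec (CommRingCat.of A))] {I : Ideal A} {n : ℕ} {M : X.Modules}
    (hM : Formal.KilledBy (I ^ n) M) (U : X.Opens) {r : Γ(X, U)} (hr : r ∈ openIdeal I U ^ n)
    (x : Γ(M, U)) : r • x = 0 := by
  rw [openIdeal, ← Ideal.map_pow] at hr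
  induction hr using Submodule.span_induction generalizing x with
  | mem r hr =>
    obtain ⟨a, ha, rfl⟩ := hr
    have h := congrArg (fun ψ : M ⟶ M => ψ.app U x) (hM a ha)
    dsimp only at h
    rw [smulMod_app] at h
    exact h
  | zero => rw [zero_smul]
  | add a b _ _ ha hb => rw [add_smul, ha, hb, add_zero]
  | smul c a _ ha => rw [smul_eq_mul, mul_smul, ha, smul_zero]

theorem restrict_smul {X' : Scheme.{u}} {V : X'.Opens} (M : X'.Modules) (W : (V : Scheme.{u}).Opens)
    (r : Γ(X', V.ι ''ᵁ W)) (x : Γ(M, V.ι ''ᵁ W)) :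
    (show Γ((V : Scheme.{u}), W) from r) • (show Γ(M.restrict V.ι, W) from x) = r • x := by
  show ((V.ι.appIso W).inv (show Γ((V : Scheme.{u}), W) from r)) • x = r • x
  rw [Scheme.Opens.ι_appIso]
  rfl

theorem surjective_app_of_restrict {X' : Scheme.{u}} {V : X'.Opens} {M Q : X'.Modules}
    {N : (V : Scheme.{u}).Modules} {π : M ⟶ Q} {q : M.restrict V.ι ⟶ N} {θ : N ⟶ Q.restrict V.ι}
    (h : q ≫ θ = (Scheme.Modules.restrictFunctor V.ι).map π) (W : (V : Scheme.{u}).Opens)
    (hs : Function.Surjective (π.app (V.ι ''ᵁ W))) : Function.Surjective (θ.app W) := fun x => by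
  obtain ⟨y, hy⟩ := hs x
  exact ⟨q.app W y, ((comp_app_eq q θ W y).symm.trans (app_congr h W y)).trans hy⟩

theorem app_eq_zero_of_restrict {X' : Scheme.{u}} {V : X'.Opens} {M Q : X'.Modules}
    {N : (V : Scheme.{u}).Modules} {π : M ⟶ Q} {q : M.restrict V.ι ⟶ N} {θ : N ⟶ Q.restrict V.ι}
    (h : q ≫ θ = (Scheme.Modules.restrictFunctor V.ι).map π) (W : (V : Scheme.{u}).Opens)
    (y : Γ(M.restrict V.ι, W)) (hy : θ.app W (q.app W y) = 0) :
    π.app (V.ι ''ᵁ W) (show Γ(M, V.ι ''ᵁ W) from y) = 0 :=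
  ((app_congr h W y).symm.trans (comp_app_eq q θ W y)).trans hy

theorem mem_restrict_of_mem {X' : Scheme.{u}} {V : X'.Opens} (M : X'.Modules)
    (W : (V : Scheme.{u}).Opens) (J : Ideal Γ(X', V.ι ''ᵁ W)) (y : Γ(M.restrict V.ι, W))
    (hy : (show Γ(M, V.ι ''ᵁ W) from y) ∈ J • (⊤ : Submodule Γ(X', V.ι ''ᵁ W) Γ(M, V.ι ''ᵁ W))) :
    y ∈ (show Ideal Γ((V : Scheme.{u}), W) from J) •
      (⊤ : Submodule Γ((V : Scheme.{u}), W) Γ(M.restrict V.ι, W)) := by
  refine Submodule.smul_induction_on (p := fun z : Γ(M, V.ι ''ᵁ W) =>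
    (show Γ(M.restrict V.ι, W) from z) ∈ _) hy (fun c hc w _ => ?_) fun a b ha hb => add_mem ha hb
  refine (congrArg (fun z : Γ(M.restrict V.ι, W) => z ∈ _) (restrict_smul M W c w)).mp ?_
  exact Submodule.smul_mem_smul (N := (⊤ : Submodule Γ((V : Scheme.{u}), W) Γ(M.restrict V.ι, W)))
    (n := (show Γ(M.restrict V.ι, W) from w)) hc trivial

section Compare

variable {A : Type u} [CommRing A] {X' : Scheme.{u}} [X'.Over (Spec (CommRingCat.of A))]
  {I : Ideal A} (V : X'.Opens) {R : Type u} [CommRing R]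
  [(V : Scheme.{u}).Over (Spec (CommRingCat.of R))] {J : Ideal R}
  (hJ : ∀ W : (V : Scheme.{u}).Opens, openIdeal J W = (openIdeal I (V.ι ''ᵁ W) : Ideal _))

include hJ

theorem killedBy_restrict {n : ℕ} {M : X'.Modules} (hM : Formal.KilledBy (I ^ n) M) :
    Formal.KilledBy (J ^ n) (M.restrict V.ι) := fun r hr => by
  refine Scheme.Modules.hom_ext _ _ fun W => ?_
  ext x
  rw [smulMod_app]
  show _ = (0 : Γ(M.restrict V.ι, W))
  have hmem : ((V : Scheme.{u}).presheaf.map (homOfLE (le_top (a := W))).op (baseHom R V r) :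
      Γ((V : Scheme.{u}), W)) ∈ openIdeal J W ^ n := by
    rw [openIdeal, ← Ideal.map_pow]
    exact Ideal.mem_map_of_mem ((rmap (le_top : W ≤ ⊤)).comp (baseHom R V)) hr
  rw [hJ W] at hmem
  exact (restrict_smul M W _ x).trans (smul_eq_zero_of_killedBy hM (V.ι ''ᵁ W) hmem x)

/-- The comparison `(F|V)/J^n → (F/I^n)|V`. -/
noncomputable def restrComp (n : ℕ) (F : X'.Modules) :
    Formal.modPow J n (F.restrict V.ι) ⟶ (Formal.modPow I n F).restrict V.ι :=
  modPowDesc J ((Scheme.Modules.restrictFunctor V.ι).map (Formal.modPowπ I n F))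
    (killedBy_restrict V hJ (killedBy_modPow I n F))

theorem π_restrComp (n : ℕ) (F : X'.Modules) :
    Formal.modPowπ J n (F.restrict V.ι) ≫ restrComp V hJ n F =
      (Scheme.Modules.restrictFunctor V.ι).map (Formal.modPowπ I n F) :=
  π_modPowDesc J _ _

theorem isIso_restrComp [IsNoetherianRing A] [IsNoetherianRing R] [IsLocallyNoetherian X'] (n : ℕ)
    {F : X'.Modules} (hF : Coh.IsCoh F) : IsIso (restrComp V hJ n F) := by
  have hFr : Coh.IsCoh (F.restrict V.ι) := AmpleLib.isCoh_restrict V.ι _ hF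
  have := (AmpleLib.isCoh_restrict V.ι _ (isCoh_modPow I hF n)).1
  have := (isCoh_modPow J hFr n).1
  have hπ := π_restrComp V hJ n F
  have he : Epi (restrComp V hJ n F) := epi_of_affine_surjective _ fun W hW =>
    surjective_app_of_restrict hπ W
      (modPowπ_app_surjective' I hF n (hW.image_of_isOpenImmersion V.ι))
  have hm : Mono (restrComp V hJ n F) := by
    refine Preadditive.mono_of_isZero_kernel _ ((IsZero.iff_id_eq_zero _).2 ?_)
    rw [← cancel_mono (kernel.ι _), Category.id_comp, zero_comp]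
    have := (isCoh_kernel (restrComp V hJ n F) (isCoh_modPow J hFr n)
      (AmpleLib.isCoh_restrict V.ι _ (isCoh_modPow I hF n)).1).1
    refine hom_eq_zero_of_cover (fun W : (V : Scheme.{u}).affineOpens => W.1) (fun W => W.2)
      (fun x => ?_) _ fun W k => ?_
    · obtain ⟨W, hW, hxW, -⟩ := exists_isAffineOpen_mem_and_subset (x := x)
        (U := (⊤ : (V : Scheme.{u}).Opens)) trivial
      exact ⟨⟨W, hW⟩, hxW⟩
    · obtain ⟨y, hy⟩ := modPowπ_app_surjective' J hFr n W.2 ((kernel.ι (restrComp V hJ n F)).app W.1 k)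
      have h0 := app_eq_zero_of_restrict hπ W.1 y (by rw [hy]; exact kernel_ι_app_zero _ _ _)
      rw [modPowπ_app_eq_zero_iff I hF n (W.2.image_of_isOpenImmersion V.ι)] at h0
      rw [← hy, modPowπ_app_eq_zero_iff J hFr n W.2, hJ W.1]
      exact mem_restrict_of_mem F W.1 _ y h0
  exact isIso_of_mono_of_epi _

theorem restrComp_natural (F : X'.Modules) {n k : ℕ} (h : n ≤ k) :
    trLE (Formal.completion J (F.restrict V.ι)) h ≫ restrComp V hJ (n + 1) F =
      restrComp V hJ (k + 1) F ≫
        (Scheme.Modules.restrictFunctor V.ι).map (trLE (Formal.completion I F) h) := by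
  refine (cancel_epi (Formal.modPowπ J (k + 1) (F.restrict V.ι))).1 ?_
  refine (Category.assoc _ _ _).symm.trans ((congrArg (· ≫ restrComp V hJ (n + 1) F)
    (modPowπ_completion_map J (F.restrict V.ι) h)).trans ((π_restrComp V hJ (n + 1) F).trans ?_))
  refine Eq.trans ?_ (Category.assoc _ _ _)
  refine Eq.trans ?_ (congrArg (· ≫ (Scheme.Modules.restrictFunctor V.ι).map
    (trLE (Formal.completion I F) h)) (π_restrComp V hJ (k + 1) F).symm)
  exact (congrArg (Scheme.Modules.restrictFunctor V.ι).map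
    (modPowπ_completion_map I F h).symm).trans (Functor.map_comp _ _ _)

end Compare

end Groth.Agent.Coherent.Existence
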