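import Groth.Agent.Coherent.InternalHomLocal
import Groth.Agent.Coherent.FinitePres

/-!
# The internal Hom of coherent modules: sections on affine opens
-/

set_option autoImplicit false
set_option backward.isDefEq.respectTransparency false

universe u

open CategoryTheory CategoryTheory.Limits AlgebraicGeometry Opposite TopologicalSpace
open Groth.Agent.Coherent Groth.Agent.PicLib Groth.Agent.AmpleLib

namespace Groth.Agent.Coherent.Existence

variable {X : Scheme.{u}} {F N : X.Modules} {U : X.Opens}

/-- Restriction of functions. -/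
noncomputable abbrev rmap {W V : X.Opens} (h : W ≤ V) : Γ(X, V) →+* Γ(X, W) :=
  (X.presheaf.map (homOfLE h).op).hom

theorem rmap_rmap {W' W V : X.Opens} (h : W ≤ V) (h' : W' ≤ W) (r : Γ(X, V)) :
    rmap h' (rmap h r) = rmap (h'.trans h) r :=
  (ConcreteCategory.congr_hom (X.presheaf.map_comp (homOfLE h).op (homOfLE h').op) r).symm

theorem isUnit_rmap {V W : X.Opens} (f : Γ(X, V)) (h : W ≤ X.basicOpen f) :
    IsUnit (rmap (h.trans (X.basicOpen_le f)) f) := by
  have h0 : IsUnit (rmap (X.basicOpen_le f) f) :=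
    RingedSpace.isUnit_res_basicOpen X.toLocallyRingedSpace.toRingedSpace f
  rw [← rmap_rmap (X.basicOpen_le f) h]
  exact h0.map _

variable [Coh.IsQCoh F]

/-- The family of maps on the opens inside `U` attached to a linear map of sections. -/
theorem exists_locHom (hU : IsAffineOpen U) (L : Γ(F, U) →ₗ[Γ(X, U)] Γ(N, U)) :
    ∃ φ : locHom F N U, ∀ a, ev φ U le_rfl a = L a := by
  have hpres : ∀ (f : Γ(X, U)) (W : X.Opens) (hW : W ≤ U) (hf : X.basicOpen f ≤ W) (a : Γ(F, W)),
      ∃ (k : ℕ) (b : Γ(F, U)), resM F (X.basicOpen_le f) b =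
        rmap (X.basicOpen_le f) (f ^ k) • resM F hf a := fun f W hW hf a =>
    qcoh_exists_pow_smul hU F f (resM F hf a)
  let P : ∀ (W : X.Opens), W ≤ U → Γ(F, W) → Γ(N, W) → Prop := fun W hW a v =>
    ∀ (f : Γ(X, U)) (hf : X.basicOpen f ≤ W) (k : ℕ) (b : Γ(F, U)),
      resM F (X.basicOpen_le f) b = rmap (X.basicOpen_le f) (f ^ k) • resM F hf a →
      resM N (X.basicOpen_le f) (L b) = rmap (X.basicOpen_le f) (f ^ k) • resM N hf v
  -- two presentations give the same value on the intersection
  have hover : ∀ (W : X.Opens) (a : Γ(F, W)) (f g : Γ(X, U)) (hf : X.basicOpen f ≤ W)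
      (hg : X.basicOpen g ≤ W) (k j : ℕ) (b b' : Γ(F, U)),
      resM F (X.basicOpen_le f) b = rmap (X.basicOpen_le f) (f ^ k) • resM F hf a →
      resM F (X.basicOpen_le g) b' = rmap (X.basicOpen_le g) (g ^ j) • resM F hg a →
      rmap (inf_le_left.trans (X.basicOpen_le f) : X.basicOpen f ⊓ X.basicOpen g ≤ U) (g ^ j) •
          resM N (inf_le_left.trans (X.basicOpen_le f) : X.basicOpen f ⊓ X.basicOpen g ≤ U) (L b) =
        rmap (inf_le_left.trans (X.basicOpen_le f) : X.basicOpen f ⊓ X.basicOpen g ≤ U) (f ^ k) •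
          resM N (inf_le_left.trans (X.basicOpen_le f) : X.basicOpen f ⊓ X.basicOpen g ≤ U) (L b') := by
    intro W a f g hf hg k j b b' hb hb'
    have e : X.basicOpen (f * g) = X.basicOpen f ⊓ X.basicOpen g := X.basicOpen_mul f g
    have hle : X.basicOpen (f * g) ≤ X.basicOpen f := e.le.trans inf_le_left
    have hle' : X.basicOpen (f * g) ≤ X.basicOpen g := e.le.trans inf_le_right
    have h1 := congrArg (resM F hle) hb
    have h2 := congrArg (resM F hle') hb'
    rw [resM_resM, resM_smul, resM_resM] at h1 h2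
    have h0 : resM F (X.basicOpen_le (f * g)) (g ^ j • b - f ^ k • b') = 0 := by
      rw [map_sub, resM_smul, resM_smul, sub_eq_zero]
      erw [h1, h2]
      erw [rmap_rmap, rmap_rmap]
      rw [← mul_smul, ← mul_smul]
      exact congrArg (· • _) (mul_comm _ _)
    obtain ⟨m, hm⟩ := qcoh_exists_pow_smul_eq_zero hU F (f * g) _ h0
    have hm' := congrArg (resM N (e.ge.trans (X.basicOpen_le (f * g)))) (congrArg L hm)
    rw [L.map_smul, L.map_sub, L.map_smul, L.map_smul, L.map_zero, map_zero, resM_smul, map_sub,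
      resM_smul, resM_smul] at hm'
    have hu : IsUnit (rmap (e.ge.trans (X.basicOpen_le (f * g))) ((f * g) ^ m)) := by
      rw [map_pow]
      exact (isUnit_rmap (f * g) e.ge).pow m
    exact sub_eq_zero.1 (hu.smul_eq_zero.1 hm')
  have hex : ∀ (W : X.Opens) (hW : W ≤ U) (a : Γ(F, W)), ∃ v, P W hW a v := by
    intro W hW a
    let ι := {f : Γ(X, U) // X.basicOpen f ≤ W}
    choose k b hb using fun f : ι => hpres f.1 W hW f.2 a
    choose u hu using fun f : ι => (isUnit_rmap (f.1) (le_refl (X.basicOpen f.1))).pow (k f)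
    let v : ∀ f : ι, Γ(N, X.basicOpen f.1) := fun f =>
      (↑(u f)⁻¹ : Γ(X, X.basicOpen f.1)) • resM N (X.basicOpen_le f.1) (L (b f))
    have hv : ∀ f : ι, rmap (X.basicOpen_le f.1) (f.1 ^ k f) • v f =
        resM N (X.basicOpen_le f.1) (L (b f)) := fun f => by
      show _ • ((↑(u f)⁻¹ : Γ(X, X.basicOpen f.1)) • _) = _
      rw [map_pow, ← hu f, ← mul_smul, Units.mul_inv, one_smul]
    have hcov : W ≤ ⨆ f : ι, X.basicOpen f.1 := fun x hx => by
      obtain ⟨f, hfW, hxf⟩ := hU.exists_basicOpen_le ⟨x, hx⟩ (hW hx)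
      exact Opens.mem_iSup.2 ⟨⟨f, hfW⟩, hxf⟩
    have compat : TopCat.Presheaf.IsCompatible (Coh.toAb N).obj (fun f : ι => X.basicOpen f.1) v := by
      intro f g
      change resM N inf_le_left (v f) = resM N inf_le_right (v g)
      have h := hover W a f.1 g.1 f.2 g.2 (k f) (k g) (b f) (b g) (hb f) (hb g)
      have h1 := congrArg (resM N (inf_le_left : X.basicOpen f.1 ⊓ X.basicOpen g.1 ≤ _)) (hv f)
      have h2 := congrArg (resM N (inf_le_right : X.basicOpen f.1 ⊓ X.basicOpen g.1 ≤ _)) (hv g)
      rw [resM_smul, resM_resM] at h1 h2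
      erw [rmap_rmap] at h1 h2
      rw [← h1, ← h2, ← mul_smul, ← mul_smul] at h
      have hu : IsUnit (rmap (inf_le_left.trans (X.basicOpen_le f.1) :
          X.basicOpen f.1 ⊓ X.basicOpen g.1 ≤ U) (g.1 ^ k g) *
          rmap (inf_le_left.trans (X.basicOpen_le f.1) :
            X.basicOpen f.1 ⊓ X.basicOpen g.1 ≤ U) (f.1 ^ k f)) := by
        rw [map_pow, map_pow]
        exact ((isUnit_rmap g.1 inf_le_right).pow _).mul ((isUnit_rmap f.1 inf_le_left).pow _)
      refine hu.smul_left_cancel.1 (h.trans ?_)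
      exact congrArg (· • _) (mul_comm _ _)
    obtain ⟨V₀, hV₀, -⟩ := TopCat.Sheaf.existsUnique_gluing' (X := X.toTopCat) (Coh.toAb N)
      (fun f : ι => X.basicOpen f.1) W (fun f => homOfLE f.2) hcov v compat
    obtain ⟨V, hV⟩ : ∃ V : Γ(N, W), ∀ f : ι, resM N f.2 V = v f := ⟨V₀, hV₀⟩
    refine ⟨V, fun f hf j c hc => ?_⟩
    rw [hV ⟨f, hf⟩]
    have h := hover W a f f hf hf (k ⟨f, hf⟩) j (b ⟨f, hf⟩) c (hb ⟨f, hf⟩) hc
    have h' := congrArg (resM N (le_inf le_rfl le_rfl : X.basicOpen f ≤ X.basicOpen f ⊓ X.basicOpen f)) h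
    rw [resM_smul, resM_smul, resM_resM, resM_resM] at h'
    erw [rmap_rmap, rmap_rmap] at h'
    rw [← hv ⟨f, hf⟩, ← mul_smul, mul_comm, mul_smul] at h'
    have hu : IsUnit (rmap (X.basicOpen_le f) (f ^ k ⟨f, hf⟩)) := by
      rw [map_pow]; exact (isUnit_rmap f le_rfl).pow _
    exact (hu.smul_left_cancel.1 h').symm
  have huniq : ∀ (W : X.Opens) (hW : W ≤ U) (a : Γ(F, W)) (v v' : Γ(N, W)),
      P W hW a v → P W hW a v' → v = v' := by
    intro W hW a v v' hv hv'
    refine AmpleLib.sec_ext N _ _ fun x hx => ?_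
    obtain ⟨f, hfW, hxf⟩ := hU.exists_basicOpen_le ⟨x, hx⟩ (hW hx)
    obtain ⟨k, b, hb⟩ := hpres f W hW hfW a
    refine ⟨_, hfW, hxf, ?_⟩
    have hu : IsUnit (rmap (X.basicOpen_le f) (f ^ k)) := by
      rw [map_pow]; exact (isUnit_rmap f le_rfl).pow k
    exact hu.smul_left_cancel.1 ((hv f hfW k b hb).symm.trans (hv' f hfW k b hb))
  choose φ hφ using hex
  have hadd : ∀ W hW a a', φ W hW (a + a') = φ W hW a + φ W hW a' := fun W hW a a' =>
    huniq W hW (a + a') _ _ (hφ W hW _) fun f hf k c hc => by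
      obtain ⟨i, b, hb⟩ := hpres f W hW hf a
      obtain ⟨j, b', hb'⟩ := hpres f W hW hf a'
      have e := hφ W hW a f hf i b hb
      have e' := hφ W hW a' f hf j b' hb'
      have h0 : resM F (X.basicOpen_le f)
          (f ^ (i + j) • c - (f ^ (j + k) • b + f ^ (i + k) • b')) = 0 := by
        rw [map_sub, map_add, resM_smul, resM_smul, resM_smul, hc, hb, hb', map_add]
        simp only [← mul_smul, ← map_mul, ← pow_add, smul_add]
        rw [show i + j + k = j + k + i by omega, show i + k + j = j + k + i by omega, sub_self]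
      obtain ⟨m, hm⟩ := qcoh_exists_pow_smul_eq_zero hU F f _ h0
      have h1 := congrArg (resM N (X.basicOpen_le f)) (congrArg L hm)
      simp only [map_smul, map_sub, map_add, map_zero, resM_smul] at h1
      have hu : ∀ p : ℕ, IsUnit (rmap (X.basicOpen_le f) (f ^ p)) := fun p => by
        rw [map_pow]; exact (isUnit_rmap f le_rfl).pow p
      have h2 := sub_eq_zero.1 ((hu m).smul_eq_zero.1 h1)
      refine (hu (i + j)).smul_left_cancel.1 (h2.trans ?_)
      rw [e, e', map_add]
      simp only [← mul_smul, ← map_mul, ← pow_add, smul_add]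
      rw [show i + j + k = j + k + i by omega, show i + k + j = j + k + i by omega]
  refine ⟨⟨fun W hW => AddMonoidHom.mk' (φ W hW) (hadd W hW), fun W hW r a => ?_, fun W W' hW h a => ?_⟩,
    fun a => ?_⟩
  · refine huniq W hW _ _ _ (hφ W hW _) fun f hf k c hc => ?_
    obtain ⟨i, b, hb⟩ := hpres f W hW hf a
    have e := hφ W hW a f hf i b hb
    have : Coh.IsQCoh (Coh.structureModule X) := isQCoh_structureModule (X := X)
    obtain ⟨l, s, hs⟩ : ∃ (l : ℕ) (s : Γ(X, U)), rmap (X.basicOpen_le f) s =
        rmap (X.basicOpen_le f) (f ^ l) * rmap hf r :=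
      qcoh_exists_pow_smul hU (Coh.structureModule X) f (rmap hf r)
    have h0 : resM F (X.basicOpen_le f) (f ^ (l + i) • c - (f ^ k * s) • b) = 0 := by
      rw [map_sub, resM_smul, resM_smul, hc, hb, resM_smul]
      simp only [← mul_smul, map_mul, hs, pow_add]
      rw [sub_eq_zero]
      refine congrArg (· • resM F hf a) ?_
      show rmap _ (f ^ l) * rmap _ (f ^ i) * (rmap _ (f ^ k) * rmap hf r) =
        rmap _ (f ^ k) * (rmap _ (f ^ l) * rmap hf r) * rmap _ (f ^ i)
      ring
    obtain ⟨m, hm⟩ := qcoh_exists_pow_smul_eq_zero hU F f _ h0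
    have h1 := congrArg (resM N (X.basicOpen_le f)) (congrArg L hm)
    simp only [map_smul, map_sub, map_zero, resM_smul] at h1
    have hu : ∀ p : ℕ, IsUnit (rmap (X.basicOpen_le f) (f ^ p)) := fun p => by
      rw [map_pow]; exact (isUnit_rmap f le_rfl).pow p
    have h2 := sub_eq_zero.1 ((hu m).smul_eq_zero.1 h1)
    refine (hu (l + i)).smul_left_cancel.1 (h2.trans ?_)
    rw [e, resM_smul]
    simp only [← mul_smul, map_mul, hs, pow_add]
    refine congrArg (· • resM N hf (φ W hW a)) ?_
    show rmap _ (f ^ k) * (rmap _ (f ^ l) * rmap hf r) * rmap _ (f ^ i) =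
      rmap _ (f ^ l) * rmap _ (f ^ i) * (rmap _ (f ^ k) * rmap hf r)
    ring
  · refine huniq W' (h.trans hW) _ _ _ (fun f hf k c hc => ?_) (hφ W' (h.trans hW) _)
    rw [resM_resM] at hc
    exact (hφ W hW a f (hf.trans h) k c hc).trans (congrArg _ (resM_resM N h hf _).symm)
  · refine huniq U le_rfl a _ _ (hφ U le_rfl a) fun f hf k c hc => ?_
    have h0 : resM F (X.basicOpen_le f) (c - f ^ k • a) = 0 := by
      rw [map_sub, resM_smul, hc, sub_self]
    obtain ⟨m, hm⟩ := qcoh_exists_pow_smul_eq_zero hU F f _ h0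
    have h1 := congrArg (resM N (X.basicOpen_le f)) (congrArg L hm)
    simp only [map_smul, map_sub, map_zero, resM_smul] at h1
    have hu : IsUnit (rmap (X.basicOpen_le f) (f ^ m)) := by
      rw [map_pow]; exact (isUnit_rmap f le_rfl).pow m
    exact sub_eq_zero.1 (hu.smul_eq_zero.1 h1)

/-- A family on the opens inside an affine open is determined by the value there. -/
theorem locHom_ext_affine (hU : IsAffineOpen U) {φ ψ : locHom F N U}
    (h : ∀ a, ev φ U le_rfl a = ev ψ U le_rfl a) : φ = ψ := by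
  refine locHom_ext fun W hW a => AmpleLib.sec_ext N _ _ fun x hx => ?_
  obtain ⟨f, hfW, hxf⟩ := hU.exists_basicOpen_le ⟨x, hx⟩ (hW hx)
  obtain ⟨k, b, hb⟩ := qcoh_exists_pow_smul hU F f (resM F hfW a)
  refine ⟨_, hfW, hxf, ?_⟩
  have key : ∀ φ : locHom F N U, resM N (X.basicOpen_le f) (ev φ U le_rfl b) =
      rmap (X.basicOpen_le f) (f ^ k) • resM N hfW (ev φ W hW a) := fun φ => by
    rw [ev_res, hb, ev_smul_arg, ev_res]
  have hu : IsUnit (rmap (X.basicOpen_le f) (f ^ k)) := by
    rw [map_pow]; exact (isUnit_rmap f le_rfl).pow k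
  refine hu.smul_left_cancel.1 ?_
  rw [← key, ← key, h]

/-- The value on `U` of a family, as a linear map. -/
noncomputable def evLin (φ : Γ(internalHom F N, U)) : Γ(F, U) →ₗ[Γ(X, U)] Γ(N, U) where
  toFun a := ev (secHom φ) U le_rfl a
  map_add' a b := map_add ((secHom φ).1 U le_rfl) a b
  map_smul' r a := ev_smul_arg (secHom φ) U le_rfl r a

/-- Sections of the internal Hom over an affine open. -/
noncomputable def secLinEquiv (hU : IsAffineOpen U) :
    Γ(internalHom F N, U) ≃ₗ[Γ(X, U)] (Γ(F, U) →ₗ[Γ(X, U)] Γ(N, U)) :=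
  LinearEquiv.ofBijective
    { toFun := evLin
      map_add' := fun _ _ => rfl
      map_smul' := fun r φ => LinearMap.ext fun a => by
        show ev (r • secHom φ) U le_rfl a = r • ev (secHom φ) U le_rfl a
        rw [ev_smul]
        exact congrArg (· • ev (secHom φ) U le_rfl a) (ConcreteCategory.congr_hom (X.presheaf.map_id (op U)) r) }
    ⟨fun φ ψ h => locHom_ext_affine hU fun a => LinearMap.congr_fun h a, fun L => by
      obtain ⟨φ, hφ⟩ := exists_locHom hU L
      exact ⟨φ, LinearMap.ext hφ⟩⟩

theorem secLinEquiv_apply (hU : IsAffineOpen U) (φ : Γ(internalHom F N, U)) (a : Γ(F, U)) :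
    secLinEquiv hU φ a = ev (secHom φ) U le_rfl a := rfl

theorem evLin_res {V : X.Opens} (h : V ≤ U) (φ : Γ(internalHom F N, U)) (a : Γ(F, U)) :
    evLin (resM (internalHom F N) h φ) (resM F h a) = resM N h (evLin φ a) :=
  (ev_res (secHom φ) le_rfl h a).symm

variable [IsLocallyNoetherian X]

/-- The internal Hom of coherent modules is coherent. -/
theorem isCoh_internalHom {F N : X.Modules} (hF : Coh.IsCoh F) (hN : Coh.IsCoh N) :
    Coh.IsCoh (internalHom F N) := by
  have := hF.1
  have := hN.1
  obtain ⟨-, hfF⟩ := (isCoh_iff_finite_sections F).1 hF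
  obtain ⟨-, hfN⟩ := (isCoh_iff_finite_sections N).1 hN
  have hq : Coh.IsQCoh (internalHom F N) := by
    refine (isQCoh_iff_localizesOn _).2 fun U hU => ?_
    have : IsNoetherianRing Γ(X, U) := IsLocallyNoetherian.component_noetherian ⟨U, hU⟩
    obtain ⟨r, e, he⟩ := (hfF U hU).exists_fin
    refine ⟨fun f s => ?_, fun f t ht => ?_⟩
    · -- clear the denominators of the images of the generators
      let Lf := evLin s
      choose n y hy using fun i : Fin r =>
        qcoh_exists_pow_smul hU N f (Lf (resM F (X.basicOpen_le f) (e i)))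
      let K := Finset.univ.sup n
      let y' : Fin r → Γ(N, U) := fun i => f ^ (K - n i) • y i
      have hy' : ∀ i, resM N (X.basicOpen_le f) (y' i) =
          rmap (X.basicOpen_le f) (f ^ K) • Lf (resM F (X.basicOpen_le f) (e i)) := fun i => by
        rw [resM_smul, hy, ← mul_smul]
        refine congrArg (· • _) ?_
        show rmap _ _ * rmap _ _ = _
        rw [← map_mul, ← pow_add, Nat.sub_add_cancel (Finset.le_sup (Finset.mem_univ i))]
      obtain ⟨T, hT⟩ : (LinearMap.ker (Fintype.linearCombination Γ(X, U) e)).FG := IsNoetherian.noetherian _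
      have hrel : ∀ c ∈ T, ∃ m : ℕ, f ^ m • (Fintype.linearCombination Γ(X, U) y') c = 0 := fun c hc => by
        refine qcoh_exists_pow_smul_eq_zero hU N f _ ?_
        have hc' : ∑ i, c i • e i = 0 := by
          have := LinearMap.mem_ker.1 (hT.le (Submodule.subset_span hc))
          rwa [Fintype.linearCombination_apply] at this
        rw [Fintype.linearCombination_apply, map_sum]
        have h := congrArg Lf (congrArg (resM F (X.basicOpen_le f)) hc')
        rw [map_sum, map_sum, map_zero, map_zero] at h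
        refine (Finset.sum_congr rfl fun i _ => ?_).trans
          ((Finset.smul_sum (r := rmap (X.basicOpen_le f) (f ^ K))).symm.trans
            ((congrArg (rmap (X.basicOpen_le f) (f ^ K) • ·) h).trans (smul_zero _)))
        rw [resM_smul, hy', resM_smul, map_smul, smul_comm]
      choose m hm using hrel
      let m₀ := T.attach.sup fun c => m c.1 c.2
      let g := (f ^ m₀) • Fintype.linearCombination Γ(X, U) y'
      have hsurj : LinearMap.range (Fintype.linearCombination Γ(X, U) e) = ⊤ := by
        rw [Fintype.range_linearCombination]; exact he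
      have hker : LinearMap.ker (Fintype.linearCombination Γ(X, U) e) ≤ LinearMap.ker g := by
        rw [← hT, Submodule.span_le]
        intro c hc
        refine LinearMap.mem_ker.2 ?_
        show f ^ m₀ • (Fintype.linearCombination Γ(X, U) y') c = 0
        have hd : m c hc ≤ m₀ := Finset.le_sup (f := fun c => m c.1 c.2) (Finset.mem_attach T ⟨c, hc⟩)
        rw [← Nat.sub_add_cancel hd, pow_add, mul_smul, hm c hc, smul_zero]
      let L : Γ(F, U) →ₗ[Γ(X, U)] Γ(N, U) :=
        (Submodule.liftQ _ g hker).comp ((Fintype.linearCombination Γ(X, U) e).quotKerEquivOfSurjective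
          (LinearMap.range_eq_top.1 hsurj)).symm.toLinearMap
      have hL : ∀ i, L (e i) = f ^ m₀ • y' i := fun i => by
        classical
        have h1 : (Fintype.linearCombination Γ(X, U) e).quotKerEquivOfSurjective
            (LinearMap.range_eq_top.1 hsurj) (Submodule.Quotient.mk (Pi.single i 1)) = e i := by
          simp
        show Submodule.liftQ _ g hker (((Fintype.linearCombination Γ(X, U) e).quotKerEquivOfSurjective
          (LinearMap.range_eq_top.1 hsurj)).symm (e i)) = _
        rw [← h1, LinearEquiv.symm_apply_apply]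
        simp [g]
      refine ⟨m₀ + K, (secLinEquiv hU).symm L, ?_⟩
      refine locHom_ext_affine (hU.basicOpen f) fun b => ?_
      have hb : b ∈ Submodule.span Γ(X, X.basicOpen f)
          (Set.range fun i => resM F (X.basicOpen_le f) (e i)) := by
        obtain ⟨k, b', hb'⟩ := qcoh_exists_pow_smul hU F f b
        obtain ⟨c, hc⟩ := (Submodule.mem_span_range_iff_exists_fun _).1 (he.ge (Submodule.mem_top (x := b')))
        have hu : IsUnit (rmap (X.basicOpen_le f) (f ^ k)) := by
          rw [map_pow]; exact (isUnit_rmap f le_rfl).pow k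
        refine (Submodule.smul_mem_iff_of_isUnit _ hu).1 ?_
        rw [← hb', ← hc, map_sum]
        exact Submodule.sum_mem _ fun i _ => by
          rw [resM_smul]
          exact Submodule.smul_mem _ _ (Submodule.subset_span ⟨i, rfl⟩)
      show evLin (resM (internalHom F N) (X.basicOpen_le f) ((secLinEquiv hU).symm L)) b =
        evLin (rmap (X.basicOpen_le f) (f ^ (m₀ + K)) • s) b
      induction hb using Submodule.span_induction with
      | mem x hx =>
        obtain ⟨i, rfl⟩ := hx
        rw [evLin_res]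
        show resM N _ (secLinEquiv hU ((secLinEquiv hU).symm L) (e i)) = _
        rw [LinearEquiv.apply_symm_apply, hL, resM_smul, hy', ← mul_smul, ← map_mul, ← pow_add]
        show _ = ev (rmap (X.basicOpen_le f) (f ^ (m₀ + K)) • secHom s) _ le_rfl _
        rw [ev_smul]
        exact congrArg (· • Lf (resM F (X.basicOpen_le f) (e i)))
          (ConcreteCategory.congr_hom (X.presheaf.map_id (op (X.basicOpen f))) _).symm
      | zero => rw [map_zero, map_zero]
      | add x y _ _ hx hy => rw [map_add, map_add, hx, hy]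
      | smul c x _ hx => rw [map_smul, map_smul, hx]
    · have h0 : ∀ i, resM N (X.basicOpen_le f) (evLin t (e i)) = 0 := fun i => by
        rw [← evLin_res, ht]
        rfl
      choose m hm using fun i => qcoh_exists_pow_smul_eq_zero hU N f _ (h0 i)
      refine ⟨Finset.univ.sup m, (secLinEquiv hU).injective ?_⟩
      rw [map_zero, map_smul]
      refine LinearMap.ext_on he fun x hx => ?_
      obtain ⟨i, rfl⟩ := hx
      show f ^ Finset.univ.sup m • evLin t (e i) = 0
      rw [← Nat.sub_add_cancel (Finset.le_sup (f := m) (Finset.mem_univ i)), pow_add, mul_smul, hm,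
        smul_zero]
  refine (isCoh_iff_finite_sections _).2 ⟨hq, fun U hU => ?_⟩
  have : IsNoetherianRing Γ(X, U) := IsLocallyNoetherian.component_noetherian ⟨U, hU⟩
  have := hfF U hU
  have := hfN U hU
  exact Module.Finite.equiv (secLinEquiv hU).symm

end Groth.Agent.Coherent.Existence
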