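import Mathlib.RingTheory.Filtration
import Mathlib.RingTheory.Noetherian.Basic
import Mathlib.LinearAlgebra.Finsupp.LinearCombination
import Mathlib.RingTheory.Finiteness.Cardinality

/-!
# Artin–Rees for modules of linear maps
-/

set_option autoImplicit false

universe u

namespace Groth.Agent.Coherent.Existence

variable {R : Type u} [CommRing R] {M N : Type u} [AddCommGroup M] [Module R M] [AddCommGroup N]
  [Module R N]

theorem pi_mem_smul {ι : Type*} [Fintype ι] (K : Ideal R) (v : ι → N)
    (h : ∀ i, v i ∈ K • (⊤ : Submodule R N)) : v ∈ K • (⊤ : Submodule R (ι → N)) := by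
  classical
  rw [← Finset.univ_sum_single v]
  refine Submodule.sum_mem _ fun i _ => ?_
  exact Submodule.smul_mono le_rfl (le_top (a := _)) (Submodule.map_smul'' K ⊤ (LinearMap.single R (fun _ => N) i) ▸
    Submodule.mem_map_of_mem (f := LinearMap.single R (fun _ => N) i) (h i))

theorem exists_pow_inf_le {P : Type u} [AddCommGroup P] [Module R P] [IsNoetherianRing R]
    [Module.Finite R P] (J : Ideal R) (P' : Submodule R P) :
    ∃ k, ∀ n, (J ^ (n + k) • ⊤ ⊓ P' : Submodule R P) ≤ J ^ n • P' := by
  obtain ⟨k, hk⟩ := Ideal.exists_pow_inf_eq_pow_smul J P'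
  refine ⟨k, fun n => ?_⟩
  rw [hk (n + k) (Nat.le_add_left k n), Nat.add_sub_cancel]
  exact Submodule.smul_mono le_rfl inf_le_right

/-- Linear maps into high powers are high multiples, and linear maps modulo high powers lift
modulo high powers. -/
theorem exists_hom_pro [IsNoetherianRing R] [Module.Finite R M] [Module.Finite R N] (J : Ideal R) :
    ∃ c : ℕ, ∀ n : ℕ, (∀ φ : M →ₗ[R] N, (∀ m, φ m ∈ J ^ (n + c) • (⊤ : Submodule R N)) →
        φ ∈ J ^ n • (⊤ : Submodule R (M →ₗ[R] N))) ∧
      ∀ ψ : M → N, (∀ a b, ψ (a + b) - ψ a - ψ b ∈ J ^ (n + c) • (⊤ : Submodule R N)) →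
        (∀ (r : R) a, ψ (r • a) - r • ψ a ∈ J ^ (n + c) • (⊤ : Submodule R N)) →
        ∃ φ : M →ₗ[R] N, ∀ m, φ m - ψ m ∈ J ^ n • (⊤ : Submodule R N) := by
  classical
  obtain ⟨r, e, he⟩ := Module.Finite.exists_fin (R := R) (M := M)
  let π := Fintype.linearCombination R e
  have hπ : Function.Surjective π := LinearMap.range_eq_top.1 (by
    rw [Fintype.range_linearCombination]; exact he)
  obtain ⟨T, hT⟩ : (LinearMap.ker π).FG := IsNoetherian.noetherian _
  -- relations evaluated on a tuple
  let D : (Fin r → N) →ₗ[R] (T → N) := LinearMap.pi fun c => ∑ i, c.1 i • LinearMap.proj i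
  have hD : ∀ v c, D v c = ∑ i, c.1 i • v i := fun v c => by simp [D]
  let ev : (M →ₗ[R] N) →ₗ[R] (Fin r → N) := LinearMap.pi fun i => LinearMap.applyₗ (e i)
  have hev : ∀ φ i, ev φ i = φ (e i) := fun φ i => rfl
  have hev_inj : Function.Injective ev := fun φ φ' h =>
    LinearMap.ext_on he (by rintro _ ⟨i, rfl⟩; exact congrFun h i)
  have hev_range : LinearMap.range ev = LinearMap.ker D := by
    refine le_antisymm ?_ fun v hv => ?_
    · rintro _ ⟨φ, rfl⟩
      refine LinearMap.mem_ker.2 (funext fun c => ?_)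
      rw [hD]
      simp only [hev, ← map_smul, ← map_sum]
      have hc := LinearMap.mem_ker.1 (hT.le (Submodule.subset_span c.2))
      rw [Fintype.linearCombination_apply] at hc
      rw [hc, map_zero]
      rfl
    · let g := Fintype.linearCombination R v
      have hg : LinearMap.ker π ≤ LinearMap.ker g := by
        rw [← hT, Submodule.span_le]
        intro c hc
        refine LinearMap.mem_ker.2 ?_
        rw [Fintype.linearCombination_apply, ← hD v ⟨c, hc⟩, LinearMap.mem_ker.1 hv]
        rfl
      refine ⟨(Submodule.liftQ _ g hg).comp (π.quotKerEquivOfSurjective hπ).symm.toLinearMap,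
        funext fun i => ?_⟩
      have h1 : π.quotKerEquivOfSurjective hπ (Submodule.Quotient.mk (Pi.single i 1)) = e i := by
        simp [π]
      rw [hev]
      show Submodule.liftQ _ g hg ((π.quotKerEquivOfSurjective hπ).symm (e i)) = v i
      rw [← h1, LinearEquiv.symm_apply_apply]
      simp [g]
  obtain ⟨k₁, hk₁⟩ := exists_pow_inf_le J (LinearMap.ker D)
  obtain ⟨k₂, hk₂⟩ := exists_pow_inf_le J (LinearMap.range D)
  have hmono : ∀ {P : Type u} [AddCommGroup P] [Module R P] {a b : ℕ}, a ≤ b →
      (J ^ b • ⊤ : Submodule R P) ≤ J ^ a • ⊤ := fun h =>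
    Submodule.smul_mono_left (Ideal.pow_le_pow_right h)
  refine ⟨max k₁ k₂, fun n => ⟨fun φ hφ => ?_, fun ψ hadd hsmul => ?_⟩⟩
  · have h1 : ev φ ∈ J ^ (n + k₁) • (⊤ : Submodule R (Fin r → N)) :=
      hmono (by omega) (pi_mem_smul _ (ev φ) fun i => hφ (e i))
    have h2 : ev φ ∈ (J ^ n • ⊤ : Submodule R (M →ₗ[R] N)).map ev := by
      rw [Submodule.map_smul'', Submodule.map_top, hev_range]
      exact hk₁ n ⟨h1, hev_range.le ⟨φ, rfl⟩⟩
    obtain ⟨φ', hφ', e'⟩ := h2
    rwa [← hev_inj e']
  · let K : Submodule R N := J ^ (n + max k₁ k₂) • ⊤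
    let q : M →ₗ[R] N ⧸ K :=
      { toFun := fun m => Submodule.Quotient.mk (ψ m)
        map_add' := fun a b => by
          rw [← Submodule.Quotient.mk_add, Submodule.Quotient.eq, ← sub_sub]
          exact hadd a b
        map_smul' := fun t a => by
          rw [RingHom.id_apply, ← Submodule.Quotient.mk_smul, Submodule.Quotient.eq]
          exact hsmul t a }
    let v : Fin r → N := fun i => ψ (e i)
    have hDv : D v ∈ J ^ (n + k₂) • (⊤ : Submodule R (T → N)) := by
      refine hmono (by omega) (pi_mem_smul (J ^ (n + max k₁ k₂)) (D v) fun c => ?_)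
      rw [← Submodule.Quotient.mk_eq_zero (p := K)]
      have hc := LinearMap.mem_ker.1 (hT.le (Submodule.subset_span c.2))
      rw [Fintype.linearCombination_apply] at hc
      have := congrArg q hc
      rw [map_sum, map_zero] at this
      refine Eq.trans ?_ this
      rw [hD, ← Submodule.mkQ_apply, map_sum]
      exact Finset.sum_congr rfl fun i _ => by rw [map_smul, map_smul]; rfl
    have h2 : D v ∈ (J ^ n • ⊤ : Submodule R (Fin r → N)).map D := by
      rw [Submodule.map_smul'', Submodule.map_top]
      exact hk₂ n ⟨hDv, ⟨v, rfl⟩⟩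
    obtain ⟨w, hw, hDw⟩ := h2
    obtain ⟨φ, hφ⟩ : v - w ∈ LinearMap.range ev := by
      rw [hev_range, LinearMap.mem_ker, map_sub, hDw, sub_self]
    refine ⟨φ, fun m => ?_⟩
    let K' : Submodule R N := J ^ n • ⊤
    have hKK : K ≤ K' := hmono (by omega)
    have key : (Submodule.mkQ K').comp φ = (Submodule.liftQ K (Submodule.mkQ K')
        (by rw [Submodule.ker_mkQ]; exact hKK)).comp q := by
      refine LinearMap.ext_on he ?_
      rintro _ ⟨i, rfl⟩
      show Submodule.Quotient.mk (φ (e i)) = Submodule.Quotient.mk (ψ (e i))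
      rw [Submodule.Quotient.eq, show φ (e i) = v i - w i from congrFun hφ i]
      simp only [v, sub_sub_cancel_left, Submodule.neg_mem_iff]
      have := Submodule.mem_map_of_mem (f := LinearMap.proj (R := R) (φ := fun _ : Fin r => N) i) hw
      rw [Submodule.map_smul''] at this
      exact Submodule.smul_mono le_rfl le_top this
    exact (Submodule.Quotient.eq K').1 (LinearMap.congr_fun key m)

end Groth.Agent.Coherent.Existence
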