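import Groth.Agent.Coherent.Existence.HomAffine
import Groth.Agent.Coherent.Existence.HomPro
import Groth.Agent.Coherent.InternalHomAdj
import Groth.Agent.Coherent.FormalFunctions
import Groth.Agent.H8Top.SchemeBasic

/-!
# Completion of coherent modules is fully faithful
-/

set_option autoImplicit false
set_option backward.isDefEq.respectTransparency false

universe u

open CategoryTheory CategoryTheory.Limits AlgebraicGeometry Opposite TopologicalSpace
open Groth.Agent.Coherent Groth.Agent.PicLib Groth.Agent.AmpleLib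

namespace Groth.Agent.Coherent.Existence

attribute [local instance] hasFiniteBiproducts

variable {A : Type u} [CommRing A] [IsNoetherianRing A] {X : Scheme.{u}}
  [X.Over (Spec (CommRingCat.of A))] (I : Ideal A)

/-- The ideal of functions on `U` generated by `I`. -/
noncomputable def openIdeal (U : X.Opens) : Ideal Γ(X, U) :=
  I.map (rmap (le_top : U ≤ ⊤) |>.comp (baseHom A X))

/-- Degree zero cohomology is global sections. -/
noncomputable def hSec (M : X.Modules) : Coh.HH X M 0 ≃+ Γ(M, (⊤ : X.Opens)) :=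
  (H'TopEquiv (X := X.toTopCat) (Coh.toAb M) 0).symm.trans (secH (X := X.toTopCat) (Coh.toAb M) ⊤)

theorem hSec_map {M N : X.Modules} (f : M ⟶ N) (x : Coh.HH X M 0) :
    hSec N (Sheaf.H.map ((SheafOfModules.toSheaf X.ringCatSheaf).map f) 0 x) =
      f.app ⊤ (hSec M x) := by
  obtain ⟨y, rfl⟩ := (H'TopEquiv (X := X.toTopCat) (Coh.toAb M) 0).surjective x
  refine (congrArg (hSec N) (H'TopEquiv_naturality (X := X.toTopCat)
    ((toAbFunctor X).map f) 0 y).symm).trans ?_
  show secH (X := X.toTopCat) (Coh.toAb N) ⊤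
      ((H'TopEquiv (X := X.toTopCat) (Coh.toAb N) 0).symm (H'TopEquiv (X := X.toTopCat) (Coh.toAb N) 0 _)) =
    f.app ⊤ (secH (X := X.toTopCat) (Coh.toAb M) ⊤
      ((H'TopEquiv (X := X.toTopCat) (Coh.toAb M) 0).symm (H'TopEquiv (X := X.toTopCat) (Coh.toAb M) 0 y)))
  rw [AddEquiv.symm_apply_apply, AddEquiv.symm_apply_apply]
  exact secH_postH (X := X.toTopCat) (F := Coh.toAb M) (G := Coh.toAb N) ((toAbFunctor X).map f) ⊤ y

variable [IsLocallyNoetherian X]

theorem modPowπ_eqToHom (M : X.Modules) {a b : ℕ} (h : a = b) :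
    Formal.modPowπ I a M ≫ eqToHom (by rw [h]) = Formal.modPowπ I b M := by
  subst h
  simp

theorem modPowπ_app_surjective' {M : X.Modules} (hM : Coh.IsCoh M) (n : ℕ) {U : X.Opens}
    (hU : IsAffineOpen U) : Function.Surjective ((Formal.modPowπ I n M).app U) :=
  have : Coh.IsQCoh (powSeq I M n).X₁ := (isCoh_powSub I hM n).1
  sections_surjective (powSeq_shortExact I M n) hU

theorem modPowπ_app_eq_zero_iff {M : X.Modules} (hM : Coh.IsCoh M) (n : ℕ) {U : X.Opens}
    (hU : IsAffineOpen U) (s : Γ(M, U)) :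
    (Formal.modPowπ I n M).app U s = 0 ↔ s ∈ openIdeal I U ^ n • (⊤ : Submodule Γ(X, U) Γ(M, U)) := by
  rw [openIdeal, ← Ideal.map_pow]
  constructor
  · intro hs
    obtain ⟨r, g, hg⟩ := Submodule.fg_iff_exists_fin_generating_family.1
      (IsNoetherian.noetherian (I ^ n))
    let Ψ := biproduct.desc fun i : Fin r => Formal.smulMod A M (g i)
    have hbc := (isCoh_biproduct (fun _ : Fin r => M) fun _ => hM).1
    have := hM.1
    have hv : ∃ v : Formal.modPow I n M ⟶ cokernel Ψ, Formal.modPowπ I n M ≫ v = cokernel.π Ψ := by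
      refine ⟨cokernel.desc _ (cokernel.π Ψ) (Sigma.hom_ext _ _ fun c => ?_), cokernel.π_desc _ _ _⟩
      rw [comp_zero, ← Category.assoc,
        show Sigma.ι (fun _ : (I ^ n : Ideal A) => M) c ≫ Formal.smulFamily (I ^ n) M =
          Formal.smulMod A M (c : A) by simp [Formal.smulFamily]]
      obtain ⟨t, ht⟩ := (Submodule.mem_span_range_iff_exists_fun A).1 (hg.ge c.2)
      let sm : A →+ (M ⟶ M) := AddMonoidHom.mk' (Formal.smulMod A M) (smulMod_add _)
      show sm (c : A) ≫ _ = 0
      rw [← ht, map_sum, Preadditive.sum_comp]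
      refine Finset.sum_eq_zero fun i _ => ?_
      show Formal.smulMod A M (t i • g i) ≫ _ = 0
      rw [smul_eq_mul, mul_comm, smulMod_mul, Category.assoc,
        ← biproduct.ι_desc (fun i : Fin r => Formal.smulMod A M (g i)) i, Category.assoc,
        cokernel.condition, comp_zero, comp_zero]
    obtain ⟨v, hv⟩ := hv
    have h0 : (cokernel.π Ψ).app U s = 0 := by
      rw [← hv]
      exact (congrArg (v.app U) hs).trans (map_zero (v.app U).hom)
    obtain ⟨t, rfl⟩ := sections_exact (imSeq_shortExact Ψ) (U := U) s h0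
    let T : ShortComplex X.Modules :=
      ShortComplex.mk (kernel.ι (Abelian.factorThruImage Ψ)) (Abelian.factorThruImage Ψ) (kernel.condition _)
    have hT : T.ShortExact :=
      { mono_f := inferInstanceAs (Mono (kernel.ι _))
        epi_g := inferInstanceAs (Epi (Abelian.factorThruImage Ψ))
        exact := ShortComplex.exact_of_f_is_kernel _ (kernelIsKernel _) }
    have := isQCoh_image Ψ
    have : Coh.IsQCoh T.X₁ := isQCoh_kernel (Abelian.factorThruImage Ψ)
    obtain ⟨y, rfl⟩ := sections_surjective hT hU t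
    have e : (Abelian.image.ι Ψ).app U ((Abelian.factorThruImage Ψ).app U y) = Ψ.app U y :=
      ConcreteCategory.congr_hom
        (congrArg (fun φ : (⨁ fun _ : Fin r => M) ⟶ M => φ.app U) (Abelian.image.fac Ψ)) y
    change (Abelian.image.ι Ψ).app U ((Abelian.factorThruImage Ψ).app U y) ∈ _
    rw [e, ← biproduct_sections_total (fun _ : Fin r => M) U y, map_sum]
    refine Submodule.sum_mem _ fun i _ => ?_
    have h1 := congrArg (fun ψ : M ⟶ M => ψ.app U ((biproduct.π (fun _ : Fin r => M) i).app U y))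
      (biproduct.ι_desc (fun i : Fin r => Formal.smulMod A M (g i)) i)
    refine (show Ψ.app U ((biproduct.ι (fun _ : Fin r => M) i).app U
      ((biproduct.π (fun _ : Fin r => M) i).app U y)) = _ from h1) ▸ ?_
    rw [smulMod_app]
    exact Submodule.smul_mem_smul (Ideal.mem_map_of_mem _ (hg.le (Submodule.subset_span ⟨i, rfl⟩))) trivial
  · intro hs
    refine Submodule.smul_induction_on hs (fun r hr m hm => ?_) fun a b ha hb => by
      rw [map_add, ha, hb, add_zero]
    clear hm
    induction hr using Submodule.span_induction generalizing m with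
    | mem x hx =>
      obtain ⟨c, hc, rfl⟩ := hx
      have h := congrArg (fun ψ : M ⟶ Formal.modPow I n M => ψ.app U m) (smulMod_modPowπ I M hc)
      exact h
    | zero => rw [zero_smul, map_zero]
    | add x y _ _ hx hy => rw [add_smul, map_add, hx, hy, add_zero]
    | smul c x _ hx =>
      rw [smul_eq_mul, mul_smul, Scheme.Modules.Hom.app_smul, hx, smul_zero]

/-- A morphism as a global family. -/
noncomputable def homSec {F G : X.Modules} (φ : F ⟶ G) : Γ(internalHom F G, (⊤ : X.Opens)) :=
  (show locHom F G ⊤ from ⟨fun W _ => (φ.app W).hom,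
    fun _ _ r a => Scheme.Modules.Hom.app_smul φ r a,
    fun _ _ _ h a => (app_resM φ h a).symm⟩)

theorem ev_homSec {F G : X.Modules} (φ : F ⟶ G) (W : X.Opens) (a : Γ(F, W)) :
    ev (secHom (homSec φ)) W le_top a = φ.app W a := rfl

/-- A global family as a morphism. -/
noncomputable def secMor {F G : X.Modules} (s : Γ(internalHom F G, (⊤ : X.Opens))) : F ⟶ G :=
  ⟨PresheafOfModules.homMk
    { app := fun W => AddCommGrpCat.ofHom ((secHom s).1 W.unop le_top)
      naturality := fun W W' g => ConcreteCategory.hom_ext _ _ fun a => by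
        rw [show g = (homOfLE (leOfHom g.unop)).op from Subsingleton.elim _ _]
        exact (ev_res (secHom s) le_top (leOfHom g.unop) a).symm }
    fun W r a => ev_smul_arg (secHom s) W.unop le_top r a⟩

theorem secMor_app {F G : X.Modules} (s : Γ(internalHom F G, (⊤ : X.Opens))) (W : X.Opens) (a : Γ(F, W)) :
    (secMor s).app W a = ev (secHom s) W le_top a := rfl

section Main

variable [CompactSpace X] [X.IsSeparated] {M N : X.Modules} (hM : Coh.IsCoh M) (hN : Coh.IsCoh N)
include hM hN

/-- Artin–Rees constants for the affine opens of a finite family. -/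
theorem exists_const {ι : Type*} [Finite ι] (U : ι → X.Opens) (hU : ∀ i, IsAffineOpen (U i)) :
    ∃ c : ℕ, ∀ i n, (∀ φ : Γ(internalHom M N, U i),
        (∀ m, (Formal.modPowπ I (n + c) N).app (U i) (evLin φ m) = 0) →
        (Formal.modPowπ I n (internalHom M N)).app (U i) φ = 0) ∧
      ∀ τ : M ⟶ Formal.modPow I (n + c) N, ∃ φ : Γ(internalHom M N, U i), ∀ (m : Γ(M, U i))
        (y : Γ(N, U i)), (Formal.modPowπ I (n + c) N).app (U i) y = τ.app (U i) m →
          (Formal.modPowπ I n N).app (U i) (evLin φ m) = (Formal.modPowπ I n N).app (U i) y := by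
  classical
  have := Fintype.ofFinite ι
  have := hM.1
  have := hN.1
  obtain ⟨-, hfM⟩ := (isCoh_iff_finite_sections M).1 hM
  obtain ⟨-, hfN⟩ := (isCoh_iff_finite_sections N).1 hN
  have hH := isCoh_internalHom hM hN
  have key : ∀ i, ∃ c, ∀ n, (∀ φ : Γ(M, U i) →ₗ[Γ(X, U i)] Γ(N, U i),
      (∀ m, φ m ∈ openIdeal I (U i) ^ (n + c) • (⊤ : Submodule Γ(X, U i) Γ(N, U i))) →
        φ ∈ openIdeal I (U i) ^ n • (⊤ : Submodule Γ(X, U i) _)) ∧
      ∀ ψ : Γ(M, U i) → Γ(N, U i),
        (∀ a b, ψ (a + b) - ψ a - ψ b ∈ openIdeal I (U i) ^ (n + c) • (⊤ : Submodule Γ(X, U i) Γ(N, U i))) →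
        (∀ (r : Γ(X, U i)) a, ψ (r • a) - r • ψ a ∈
          openIdeal I (U i) ^ (n + c) • (⊤ : Submodule Γ(X, U i) Γ(N, U i))) →
        ∃ φ : Γ(M, U i) →ₗ[Γ(X, U i)] Γ(N, U i),
          ∀ m, φ m - ψ m ∈ openIdeal I (U i) ^ n • (⊤ : Submodule Γ(X, U i) Γ(N, U i)) := fun i => by
    have : IsNoetherianRing Γ(X, U i) := IsLocallyNoetherian.component_noetherian ⟨_, hU i⟩
    have := hfM _ (hU i)
    have := hfN _ (hU i)
    exact exists_hom_pro (openIdeal I (U i))
  choose c hc using key
  refine ⟨Finset.univ.sup c, fun i n => ⟨fun φ hφ => ?_, fun τ => ?_⟩⟩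
  · have hle : n + c i ≤ n + Finset.univ.sup c := Nat.add_le_add_left (Finset.le_sup (Finset.mem_univ i)) n
    have h := (hc i n).1 (secLinEquiv (hU i) φ) fun m =>
      Submodule.smul_mono_left (Ideal.pow_le_pow_right hle)
        ((modPowπ_app_eq_zero_iff I hN _ (hU i) _).1 (hφ m))
    rw [modPowπ_app_eq_zero_iff I hH n (hU i)]
    have h' := Submodule.mem_map_of_mem (f := (secLinEquiv (F := M) (N := N) (hU i)).symm.toLinearMap) h
    rw [Submodule.map_smul''] at h'
    have h'' := Submodule.smul_mono (le_refl (openIdeal I (U i) ^ n)) (le_top (a := Submodule.map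
      (secLinEquiv (F := M) (N := N) (hU i)).symm.toLinearMap ⊤)) h'
    simpa using h''
  · have hle : n + c i ≤ n + Finset.univ.sup c := Nat.add_le_add_left (Finset.le_sup (Finset.mem_univ i)) n
    have hs := modPowπ_app_surjective' I hN (n + Finset.univ.sup c) (hU i)
    choose ψ hψ using fun m : Γ(M, U i) => hs (τ.app (U i) m)
    have hmem : ∀ z, (Formal.modPowπ I (n + Finset.univ.sup c) N).app (U i) z = 0 →
        z ∈ openIdeal I (U i) ^ (n + c i) • (⊤ : Submodule Γ(X, U i) Γ(N, U i)) := fun z hz =>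
      Submodule.smul_mono_left (Ideal.pow_le_pow_right hle) ((modPowπ_app_eq_zero_iff I hN _ (hU i) _).1 hz)
    obtain ⟨φ, hφ⟩ := (hc i n).2 ψ
      (fun a b => hmem _ (by rw [map_sub, map_sub, hψ, hψ, hψ, map_add, add_sub_cancel_left, sub_self]))
      (fun r a => hmem _ (by
        rw [map_sub, Scheme.Modules.Hom.app_smul, hψ, hψ, Scheme.Modules.Hom.app_smul, sub_self]))
    refine ⟨(secLinEquiv (hU i)).symm φ, fun m y hy => ?_⟩
    rw [← sub_eq_zero, ← map_sub, modPowπ_app_eq_zero_iff I hN n (hU i)]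
    show secLinEquiv (hU i) ((secLinEquiv (hU i)).symm φ) m - y ∈ _
    rw [LinearEquiv.apply_symm_apply, ← sub_add_sub_cancel (φ m) (ψ m) y]
    refine Submodule.add_mem _ (hφ m) (Submodule.smul_mono_left (Ideal.pow_le_pow_right (by omega))
      (hmem _ (by rw [map_sub, hψ, hy, sub_self])))

omit [CompactSpace X] [X.IsSeparated] hM hN in
variable (M N) in
/-- A local family agreeing with `T` modulo a power of `I`. -/
def Good (k : ℕ) (T : M ⟶ Formal.modPow I k N) (W : X.Opens) (φ : Γ(internalHom M N, W)) : Prop :=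
  ∀ (W' : X.Opens) (hW : W' ≤ W) (m : Γ(M, W')),
    (Formal.modPowπ I k N).app W' (ev (secHom φ) W' hW m) = T.app W' m

omit [CompactSpace X] [X.IsSeparated] hN in
theorem good_of_affine {k : ℕ} {T : M ⟶ Formal.modPow I k N} {W : X.Opens} (hW : IsAffineOpen W)
    {φ : Γ(internalHom M N, W)} (h : ∀ m, (Formal.modPowπ I k N).app W (evLin φ m) = T.app W m) :
    Good I M N k T W φ := by
  have := hM.1
  intro W' hW' m
  have e := locHom_ext_affine hW (φ := secHom ((internalHomMap M (Formal.modPowπ I k N)).app W φ))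
    (ψ := secHom (resM (internalHom M (Formal.modPow I k N)) le_top (homSec T))) fun a => by
      rw [ev_internalHomMap]
      exact h a
  have e' := congrArg (fun ψ => ev ψ W' hW' m) e
  exact (ev_internalHomMap M (Formal.modPowπ I k N) φ W' hW' m).symm.trans e'

omit [CompactSpace X] [X.IsSeparated] hM hN in
theorem Good.res {k : ℕ} {T : M ⟶ Formal.modPow I k N} {W W' : X.Opens} (h : W' ≤ W)
    {φ : Γ(internalHom M N, W)} (hφ : Good I M N k T W φ) :
    Good I M N k T W' (resM (internalHom M N) h φ) :=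
  fun W'' hW m => hφ W'' (hW.trans h) m

omit [CompactSpace X] [X.IsSeparated] in
/-- Lifting with a loss of `c` levels. -/
theorem exists_good {c n : ℕ} {W : X.Opens} (hW : IsAffineOpen W)
    (hc : ∀ τ : M ⟶ Formal.modPow I (n + c) N, ∃ φ : Γ(internalHom M N, W), ∀ (m : Γ(M, W))
      (y : Γ(N, W)), (Formal.modPowπ I (n + c) N).app W y = τ.app W m →
        (Formal.modPowπ I n N).app W (evLin φ m) = (Formal.modPowπ I n N).app W y)
    (T' : M ⟶ Formal.modPow I (n + c) N) (T : M ⟶ Formal.modPow I n N)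
    (π : Formal.modPow I (n + c) N ⟶ Formal.modPow I n N)
    (hπ : Formal.modPowπ I (n + c) N ≫ π = Formal.modPowπ I n N) (hT : T' ≫ π = T) :
    ∃ φ, Good I M N n T W φ := by
  obtain ⟨φ, hφ⟩ := hc T'
  refine ⟨φ, good_of_affine I hM hW fun m => ?_⟩
  obtain ⟨y, hy⟩ := modPowπ_app_surjective' I hN (n + c) hW (T'.app W m)
  refine (hφ m y hy).trans ?_
  rw [← hT, ← hπ]
  exact congrArg (π.app W) hy

omit [CompactSpace X] [X.IsSeparated] hM hN in
/-- Uniqueness with a loss of `c` levels. -/
theorem good_unique {c n : ℕ} {W : X.Opens}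
    (hc : ∀ φ : Γ(internalHom M N, W), (∀ m, (Formal.modPowπ I (n + c) N).app W (evLin φ m) = 0) →
        (Formal.modPowπ I n (internalHom M N)).app W φ = 0)
    {T : M ⟶ Formal.modPow I (n + c) N} {φ φ' : Γ(internalHom M N, W)}
    (h : Good I M N (n + c) T W φ) (h' : Good I M N (n + c) T W φ') :
    (Formal.modPowπ I n (internalHom M N)).app W φ =
      (Formal.modPowπ I n (internalHom M N)).app W φ' := by
  rw [← sub_eq_zero, ← map_sub]
  refine hc _ fun m => ?_
  have e : evLin (φ - φ') m = evLin φ m - evLin φ' m := rfl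
  rw [e, map_sub, sub_eq_zero]
  exact (h _ le_rfl m).trans (h' _ le_rfl m).symm

variable [IsAdicComplete I A] [FiniteOnSupp A (internalHom M N)]

set_option maxHeartbeats 800000 in
/-- A compatible family of morphisms modulo the powers of `I` comes from a unique morphism. -/
theorem existsUnique_hom (τ : Formal.completion I M ⟶ Formal.completion I N) :
    ∃! φ : M ⟶ N, ∀ n : ℕ,
      Formal.modPowπ I (n + 1) M ≫ τ.app (op n) = φ ≫ Formal.modPowπ I (n + 1) N := by
  classical
  have := hM.1
  have := hN.1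
  have hH := isCoh_internalHom hM hN
  obtain ⟨s, hs⟩ := Groth.Agent.H8Top.exists_finite_affine_cover X
  let κ := s ⊕ (s × s)
  let V : κ → X.Opens := Sum.elim (fun i => i.1.1) (fun p => p.1.1.1 ⊓ p.2.1.1)
  have hV : ∀ k, IsAffineOpen (V k) := fun k => by
    rcases k with i | p
    · exact i.1.2
    · exact p.1.1.2.inf p.2.1.2
  obtain ⟨c, hc⟩ := exists_const I hM hN V hV
  have hcov : ∀ x : X, ∃ i : s, x ∈ (i.1.1 : X.Opens) := fun x => Opens.mem_iSup.1 (hs.ge (Opens.mem_top x))
  -- the target morphisms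
  let T : ∀ k, M ⟶ Formal.modPow I (k + 1) N := fun k => Formal.modPowπ I (k + 1) M ≫ τ.app (op k)
  have hT : ∀ {n k : ℕ} (h : n ≤ k), T k ≫ (Formal.completion I N).map (homOfLE h).op = T n := by
    intro n k h
    show (Formal.modPowπ I (k + 1) M ≫ τ.app (op k)) ≫ _ = _
    rw [Category.assoc]
    erw [← τ.naturality (homOfLE h).op]
    rw [← Category.assoc]
    exact congrArg (· ≫ τ.app (op n)) (modPowπ_completion_map I M h)
  -- compatibility of the projections on `N`
  have hπ : ∀ {n k : ℕ} (h : n ≤ k) (W : X.Opens) (y : Γ(N, W)),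
      ((Formal.completion I N).map (homOfLE h).op).app W ((Formal.modPowπ I (k + 1) N).app W y) =
        (Formal.modPowπ I (n + 1) N).app W y := fun h W y =>
    congrArg (fun ψ : N ⟶ Formal.modPow I (_ + 1) N => ψ.app W y) (modPowπ_completion_map I N h)
  have hTm : ∀ {n k a b : ℕ} (ha : k + 1 = a) (hb : n + 1 = b) (h : n ≤ k), ∃ π : Formal.modPow I a N ⟶ Formal.modPow I b N,
      Formal.modPowπ I a N ≫ π = Formal.modPowπ I b N ∧
        (T k ≫ eqToHom (by rw [ha])) ≫ π = T n ≫ eqToHom (by rw [hb]) := by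
    rintro n k a b rfl rfl h
    refine ⟨(Formal.completion I N).map (homOfLE h).op, modPowπ_completion_map I N h, ?_⟩
    simp only [eqToHom_refl, Category.comp_id]
    exact hT h
  -- the level of the local lifts
  let L : ℕ → ℕ := fun n => n + c
  let T₁ : ∀ n, M ⟶ Formal.modPow I (n + 1 + c) N := fun n =>
    T (n + c) ≫ eqToHom (by rw [Nat.add_right_comm])
  have hexist : ∀ (n : ℕ) (i : s), ∃ φ, Good I M N (n + 1 + c) (T₁ n) i.1.1 φ := fun n i => by
    obtain ⟨π, hπ', hT'⟩ := hTm (n := n + c) (k := n + c + c) (a := n + 1 + c + c) (b := n + 1 + c)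
      (by omega) (by omega) (Nat.le_add_right _ _)
    exact exists_good I hM hN i.1.2 ((hc (Sum.inl i) (n + 1 + c)).2) _ _ π hπ' hT'
  have hunique : ∀ (n : ℕ) (k : κ) (φ φ' : Γ(internalHom M N, V k)),
      Good I M N (n + 1 + c) (T₁ n) (V k) φ → Good I M N (n + 1 + c) (T₁ n) (V k) φ' →
      (Formal.modPowπ I (n + 1) (internalHom M N)).app (V k) φ =
        (Formal.modPowπ I (n + 1) (internalHom M N)).app (V k) φ' := fun n k φ φ' h h' =>
    good_unique I (hc k (n + 1)).1 h h'
  have hGood_down : ∀ {n k : ℕ}, n ≤ k → ∀ {W : X.Opens} {φ : Γ(internalHom M N, W)},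
      Good I M N (k + 1 + c) (T₁ k) W φ → Good I M N (n + 1 + c) (T₁ n) W φ := by
    intro n k h W φ hφ W' hW m
    obtain ⟨π, hπ', hT'⟩ := hTm (n := n + c) (k := k + c) (a := k + 1 + c) (b := n + 1 + c)
      (by omega) (by omega) (by omega)
    rw [← hπ']
    refine (congrArg (π.app W') (hφ W' hW m)).trans ?_
    exact congrArg (fun ψ : M ⟶ Formal.modPow I (n + 1 + c) N => ψ.app W' m) hT'
  have hGood_zero : ∀ {n : ℕ} {W : X.Opens} {φ : Γ(internalHom M N, W)},
      Good I M N (n + 1 + c) (T₁ n) W φ → ∀ (W' : X.Opens) (hW : W' ≤ W) (m : Γ(M, W')),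
        (Formal.modPowπ I (n + 1) N).app W' (ev (secHom φ) W' hW m) = (T n).app W' m := by
    intro n W φ hφ W' hW m
    obtain ⟨π, hπ', hT'⟩ := hTm (n := n) (k := n + c) (a := n + 1 + c) (b := n + 1)
      (by omega) rfl (Nat.le_add_right _ _)
    rw [← hπ']
    refine (congrArg (π.app W') (hφ W' hW m)).trans ?_
    have hT'' := hT'.trans (Category.comp_id _)
    exact congrArg (fun ψ : M ⟶ Formal.modPow I (n + 1) N => ψ.app W' m) hT''
  choose φ hφ using hexist
  -- glue modulo the powers
  have hglue : ∀ n, ∃ z : Γ(Formal.modPow I (n + 1) (internalHom M N), (⊤ : X.Opens)), ∀ i : s,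
      resM _ le_top z = (Formal.modPowπ I (n + 1) (internalHom M N)).app i.1.1 (φ n i) := fun n => by
    have compat : TopCat.Presheaf.IsCompatible (Coh.toAb (Formal.modPow I (n + 1) (internalHom M N))).obj
        (fun i : s => i.1.1) fun i => (Formal.modPowπ I (n + 1) (internalHom M N)).app i.1.1 (φ n i) := by
      intro i j
      change resM _ inf_le_left ((Formal.modPowπ I (n + 1) (internalHom M N)).app i.1.1 (φ n i)) =
        resM _ inf_le_right ((Formal.modPowπ I (n + 1) (internalHom M N)).app j.1.1 (φ n j))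
      rw [← app_resM, ← app_resM]
      exact hunique n (Sum.inr (i, j)) _ _ (Good.res I inf_le_left (hφ n i)) (Good.res I inf_le_right (hφ n j))
    obtain ⟨z, hz, -⟩ := TopCat.Sheaf.existsUnique_gluing' (X := X.toTopCat)
      (Coh.toAb (Formal.modPow I (n + 1) (internalHom M N))) (fun i : s => i.1.1) ⊤
      (fun i => homOfLE le_top) (fun x _ => Opens.mem_iSup.2 (hcov x)) _ compat
    exact ⟨z, hz⟩
  choose z hz using hglue
  let ξ : Formal.HHlim I (internalHom M N) 0 :=
    ⟨fun n => (hSec _).symm (z n), fun n => (hSec _).injective (by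
      refine (hSec_map (Formal.modPowTrans I (n + 1) (internalHom M N)) _).trans ?_
      rw [AddEquiv.apply_symm_apply, AddEquiv.apply_symm_apply]
      refine AmpleLib.sec_ext _ _ _ fun x _ => ?_
      obtain ⟨i, hxi⟩ := hcov x
      refine ⟨i.1.1, le_top, hxi, ?_⟩
      rw [← app_resM, hz, hz]
      refine (congrArg (fun ψ : internalHom M N ⟶ Formal.modPow I (n + 1) (internalHom M N) =>
        ψ.app i.1.1 (φ (n + 1) i)) (Formal.modPowπ_trans I (n + 1) (internalHom M N))).trans ?_
      exact hunique n (Sum.inl i) _ _ (hGood_down (Nat.le_succ n) (hφ (n + 1) i)) (hφ n i))⟩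
  obtain ⟨x, hx⟩ := (toHHlim_bijective I hH 0).2 ξ
  let h₀ := hSec (internalHom M N) x
  have hh₀ : ∀ n, (Formal.modPowπ I (n + 1) (internalHom M N)).app ⊤ h₀ = z n := fun n => by
    have := congrArg (fun η : Formal.HHlim I (internalHom M N) 0 => hSec _ (η.1 n)) hx
    refine ((hSec_map (Formal.modPowπ I (n + 1) (internalHom M N)) x).symm.trans this).trans ?_
    exact AddEquiv.apply_symm_apply _ _
  refine ⟨secMor h₀, fun n => ?_, fun φ' hφ' => ?_⟩
  · refine Scheme.Modules.hom_ext _ _ fun W => ?_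
    ext m
    refine AmpleLib.sec_ext _ _ _ fun x hx => ?_
    obtain ⟨i, hxi⟩ := hcov x
    refine ⟨W ⊓ i.1.1, inf_le_left, ⟨hx, hxi⟩, ?_⟩
    show resM _ _ ((T n).app W m) = resM _ _ ((Formal.modPowπ I (n + 1) N).app W ((secMor h₀).app W m))
    rw [← app_resM, ← app_resM, ← app_resM]
    refine Eq.trans (hGood_zero (hφ n i) (W ⊓ i.1.1) inf_le_right (resM M inf_le_left m)).symm ?_
    -- the difference lies in `I^(n+1) Hom`, hence has values in `I^(n+1) N`
    have hd : (Formal.modPowπ I (n + 1) (internalHom M N)).app i.1.1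
        (φ n i - resM (internalHom M N) le_top h₀) = 0 := by
      rw [map_sub, ← hz n i, app_resM, hh₀, sub_self]
    rw [modPowπ_app_eq_zero_iff I hH (n + 1) i.1.2] at hd
    rw [← sub_eq_zero, ← map_sub]
    have hval : ∀ (a : Γ(M, i.1.1)),
        (Formal.modPowπ I (n + 1) N).app i.1.1 (evLin (φ n i - resM (internalHom M N) le_top h₀) a) = 0 := by
      intro a
      rw [modPowπ_app_eq_zero_iff I hN (n + 1) i.1.2]
      have h1 := Submodule.mem_map_of_mem
        (f := ((LinearMap.applyₗ a).comp (secLinEquiv (F := M) (N := N) i.1.2).toLinearMap)) hd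
      rw [Submodule.map_smul''] at h1
      exact Submodule.smul_mono le_rfl le_top h1
    let d := φ n i - resM (internalHom M N) (le_top : i.1.1 ≤ ⊤) h₀
    have e := locHom_ext_affine (F := M) i.1.2
      (φ := secHom ((internalHomMap M (Formal.modPowπ I (n + 1) N)).app i.1.1 d)) (ψ := 0) fun a => by
        rw [ev_internalHomMap]
        exact hval a
    have e' := congrArg (fun ψ => ev ψ (W ⊓ i.1.1) inf_le_right (resM M inf_le_left m)) e
    exact (ev_internalHomMap M (Formal.modPowπ I (n + 1) N) d (W ⊓ i.1.1) inf_le_right _).symm.trans e'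
  · have hzero : ∀ n, (Formal.modPowπ I (n + 1) (internalHom M N)).app ⊤ (homSec φ') = z n := fun n => by
      refine AmpleLib.sec_ext _ _ _ fun x _ => ?_
      obtain ⟨i, hxi⟩ := hcov x
      refine ⟨i.1.1, le_top, hxi, ?_⟩
      rw [hz, ← app_resM]
      refine hunique n (Sum.inl i) _ _ (fun W' hW m => ?_) (hφ n i)
      obtain ⟨π, hπ', hT'⟩ := hTm (n := n + c) (k := n + c) (a := n + 1 + c) (b := n + 1 + c)
        (by omega) (by omega) le_rfl
      refine Eq.trans ?_ (congrArg (fun ψ : M ⟶ Formal.modPow I (n + 1 + c) N => ψ.app W' m)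
        (show φ' ≫ Formal.modPowπ I (n + 1 + c) N = T₁ n from ?_))
      · rfl
      · show _ = (Formal.modPowπ I (n + c + 1) M ≫ τ.app (op (n + c))) ≫ eqToHom _
        rw [hφ' (n + c), Category.assoc]
        exact congrArg (φ' ≫ ·) (modPowπ_eqToHom I N (show n + c + 1 = n + 1 + c by omega)).symm
    have hx' : Formal.toHHlim I (internalHom M N) 0 ((hSec _).symm (homSec φ')) = ξ := by
      refine Subtype.ext (funext fun n => (hSec _).injective ?_)
      refine (hSec_map (Formal.modPowπ I (n + 1) (internalHom M N)) _).trans ?_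
      rw [AddEquiv.apply_symm_apply, hzero]
      exact (AddEquiv.apply_symm_apply _ _).symm
    have e : homSec φ' = h₀ := by
      exact ((hSec (internalHom M N)).apply_symm_apply _).symm.trans
        (congrArg (hSec (internalHom M N)) ((toHHlim_bijective I hH 0).1 (hx'.trans hx.symm)))
    rw [← e]
    rfl

end Main

end Groth.Agent.Coherent.Existence
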