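import Groth.Agent.Coherent.Existence.Extend
import Groth.Agent.PicLib.LiftGen
import Groth.Agent.PicLib.FlatTriv

/-!
# Coherent modules invertible on all thickenings of the special fibre are invertible
-/

set_option autoImplicit false
set_option backward.isDefEq.respectTransparency false

universe u

open CategoryTheory CategoryTheory.Limits AlgebraicGeometry Opposite TopologicalSpace
open Groth.Agent.Coherent Groth.Agent.PicLib Groth.Agent.AmpleLib

namespace Groth.Agent.Coherent.Existence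

section Algebra

open TensorProduct

theorem mem_ker_smul_of_isBaseChange {R S N P : Type u} [CommRing R] [CommRing S] [Algebra R S]
    [AddCommGroup N] [Module R N] [AddCommGroup P] [Module R P] [Module S P] [IsScalarTower R S P]
    (hs : Function.Surjective (algebraMap R S)) {μ : N →ₗ[R] P} (hb : IsBaseChange S μ) {m : N}
    (hm : μ m = 0) : m ∈ RingHom.ker (algebraMap R S) • (⊤ : Submodule R N) := by
  let e : (R ⧸ RingHom.ker (Algebra.ofId R S)) ≃ₐ[R] S :=
    Ideal.quotientKerAlgEquivOfSurjective (f := Algebra.ofId R S) hs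
  have h1 : (1 : S) ⊗ₜ[R] m = 0 := hb.equiv.injective (by rw [hb.equiv_tmul, one_smul, hm, map_zero])
  have h2 := congrArg (TensorProduct.map e.symm.toLinearMap (LinearMap.id (R := R) (M := N))) h1
  rw [TensorProduct.map_tmul, map_zero] at h2
  have h3 := congrArg (TensorProduct.quotTensorEquivQuotSMul N (RingHom.ker (Algebra.ofId R S))) h2
  rw [map_zero] at h3
  have h4 : e.symm.toLinearMap (1 : S) = Ideal.Quotient.mk _ (1 : R) := by
    show e.symm 1 = _
    rw [map_one, map_one]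
  rw [h4, TensorProduct.quotTensorEquivQuotSMul_mk_tmul, one_smul, LinearMap.id_apply] at h3
  exact (Submodule.Quotient.mk_eq_zero _).1 h3

/-- A module cyclic modulo `K` with annihilator in all powers of `K` is free of rank one near `V(K)`. -/
theorem exists_free_localizer {R N : Type u} [CommRing R] [IsNoetherianRing R] [AddCommGroup N]
    [Module R N] [Module.Finite R N] (K : Ideal R) (n : N)
    (hgen : ∀ m : N, ∃ c : R, m - c • n ∈ K • (⊤ : Submodule R N))
    (hann : ∀ r : R, r • n = 0 → ∀ k : ℕ, r ∈ K ^ (k + 1)) :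
    ∃ g : R, g - 1 ∈ K ∧ (∀ m : N, ∃ c : R, g • m = c • n) ∧ ∀ r : R, r • n = 0 → g * r = 0 := by
  obtain ⟨f, hf, hf0⟩ := Submodule.exists_sub_one_mem_and_smul_eq_zero_of_fg_of_le_smul K
    (⊤ : Submodule R (N ⧸ R ∙ n)) Module.Finite.fg_top (fun x _ => by
      obtain ⟨m, rfl⟩ := Submodule.mkQ_surjective _ x
      obtain ⟨c, hc⟩ := hgen m
      have h := Submodule.mem_map_of_mem (f := (R ∙ n).mkQ) hc
      rw [Submodule.map_smul'', Submodule.map_top, Submodule.range_mkQ, map_sub,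
        show (R ∙ n).mkQ (c • n) = 0 from (Submodule.Quotient.mk_eq_zero _).2
          (Submodule.smul_mem _ _ (Submodule.mem_span_singleton_self n)), sub_zero] at h
      exact h)
  let Z : Submodule R R := ⨅ i : ℕ, K ^ i • ⊤
  obtain ⟨e, he, he0⟩ := Submodule.exists_sub_one_mem_and_smul_eq_zero_of_fg_of_le_smul K Z
    (IsNoetherian.noetherian _) (fun x hx => by
      obtain ⟨r, hr⟩ := (Ideal.mem_iInf_smul_pow_eq_bot_iff K x).1 hx
      rw [← hr]
      exact Submodule.smul_mem_smul r.2 hx)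
  refine ⟨f * e, ?_, fun m => ?_, fun r hr => ?_⟩
  · rw [show f * e - 1 = f * (e - 1) + (f - 1) by ring]
    exact add_mem (Ideal.mul_mem_left _ _ he) hf
  · obtain ⟨c, hc⟩ := Submodule.mem_span_singleton.1
      ((Submodule.Quotient.mk_eq_zero _).1 (hf0 ((R ∙ n).mkQ m) trivial))
    exact ⟨e * c, by rw [mul_comm f, mul_smul, mul_smul, hc]⟩
  · have hZ : r ∈ Z := Submodule.mem_iInf _ |>.2 fun i => by
      rw [smul_eq_mul, ← Ideal.one_eq_top, mul_one]
      exact Ideal.pow_le_pow_right (Nat.le_succ i) (hann r hr i)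
    have h := he0 r hZ
    rw [smul_eq_mul] at h
    rw [mul_assoc, h, mul_zero]

end Algebra

/-- Being a generator can be checked on a basis. -/
theorem isGen_of_basis {X : Scheme.{u}} {L : X.Modules} {U : X.Opens} {s : Γ(L, U)}
    (h : ∀ (V : X.Opens) (x : X), x ∈ V → V ≤ U → ∃ (B : X.Opens) (hB : B ≤ U), x ∈ B ∧ B ≤ V ∧
      Function.Bijective (fun r : Γ(X, B) => r • resM L hB s)) : IsGen L U s := by
  intro V hV
  choose B hBU hxB hBV hbij using fun x : V => h V x.1 x.2 hV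
  have hcov : V ≤ ⨆ x : V, B x := fun x hx => Opens.mem_iSup.2 ⟨⟨x, hx⟩, hxB ⟨x, hx⟩⟩
  have hinj : ∀ (W : X.Opens) (hW : W ≤ U) (a : Γ(X, W)), a • resM L hW s = 0 → a = 0 := by
    intro W hW a ha
    choose C hCU hxC hCW hC using fun x : W => h W x.1 x.2 hW
    refine TopCat.Sheaf.eq_of_locally_eq' X.sheaf C W (fun x => homOfLE (hCW x))
      (fun x hx => Opens.mem_iSup.2 ⟨⟨x, hx⟩, hxC ⟨x, hx⟩⟩) a 0 fun x => ?_
    refine (hC x).1 ?_
    have h2 := congrArg (resM L (hCW x)) ha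
    rw [resM_smul, resM_resM, map_zero] at h2
    show _ • _ = _ • _
    refine h2.trans ?_
    rw [show X.sheaf.obj.map (homOfLE (hCW x)).op (0 : Γ(X, W)) = (0 : Γ(X, C x)) from map_zero _]
    exact (zero_smul _ _).symm
  refine ⟨fun a b hab => sub_eq_zero.1 (hinj V hV _ (by
    rw [sub_smul]; exact sub_eq_zero.2 hab)), fun y => ?_⟩
  choose c hc using fun x : V => (hbij x).2 (resM L (hBV x) y)
  obtain ⟨a, ha⟩ : ∃ a : Γ(X, V), ∀ x, X.presheaf.map (homOfLE (hBV x)).op a = c x :=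
    (TopCat.Sheaf.existsUnique_gluing' X.sheaf B V (fun x => homOfLE (hBV x)) hcov c fun i j => by
      refine sub_eq_zero.1 (hinj (B i ⊓ B j) (inf_le_left.trans (hBU i)) _ ?_)
      have hi := congrArg (resM L (inf_le_left : B i ⊓ B j ≤ B i)) (hc i)
      have hj := congrArg (resM L (inf_le_right : B i ⊓ B j ≤ B j)) (hc j)
      simp only [resM_smul, resM_resM] at hi hj
      rw [sub_smul, sub_eq_zero]
      exact hi.trans hj.symm).exists
  refine ⟨a, TopCat.Sheaf.eq_of_locally_eq' (⟨L.presheaf, L.isSheaf⟩ : TopCat.Sheaf Ab X)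
    B V (fun x => homOfLE (hBV x)) hcov _ _ fun x => ?_⟩
  show resM L (hBV x) (a • resM L hV s) = resM L (hBV x) y
  rw [resM_smul, resM_resM, ha x]
  exact hc x

/-- A section cyclic and torsion free up to inverting `g` generates on `D(g)`. -/
theorem isGen_basicOpen {X : Scheme.{u}} {N : X.Modules} [Coh.IsQCoh N] {V : X.Opens}
    (hV : IsAffineOpen V) {g : Γ(X, V)} {n : Γ(N, V)}
    (hgen : ∀ m : Γ(N, V), ∃ c : Γ(X, V), g • m = c • n)
    (hann : ∀ r : Γ(X, V), r • n = 0 → g * r = 0) :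
    IsGen N (X.basicOpen g) (resM N (X.basicOpen_le g) n) := by
  refine isGen_of_basis fun W x hx hW => ?_
  obtain ⟨h, hhW, hxh⟩ := hV.exists_basicOpen_le ⟨x, hx⟩ (X.basicOpen_le g (hW hx))
  refine ⟨X.basicOpen h, hhW.trans hW, hxh, hhW, ?_⟩
  have hle := X.basicOpen_le h
  let ρ := (X.presheaf.map (homOfLE hle).op).hom
  have hug : IsUnit (ρ g) := by
    have := isUnit_res_pow g hle (hhW.trans hW) 1
    rwa [pow_one] at this
  have := hV.isLocalization_basicOpen h
  have hρ : ∀ k, IsUnit (ρ (h ^ k)) := fun k => isUnit_res_pow h hle le_rfl k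
  constructor
  · intro a b hab
    rw [← sub_eq_zero]
    replace hab : (a - b) • resM N hle n = 0 := by
      simp only [resM_resM] at hab
      rw [sub_smul, sub_eq_zero]
      exact hab
    obtain ⟨k, r, hr⟩ := IsLocalization.Away.surj h (a - b)
    have h1 : resM N hle (r • n) = 0 := by
      rw [resM_smul]
      show ρ r • _ = 0
      rw [show ρ r = (a - b) * ρ h ^ k from hr.symm, mul_comm, mul_smul, hab, smul_zero]
    obtain ⟨m, hm⟩ := qcoh_exists_pow_smul_eq_zero hV N h (r • n) h1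
    rw [smul_smul] at hm
    have h2 : ρ g * (ρ (h ^ m) * ρ r) = 0 := by rw [← map_mul, ← map_mul, hann _ hm, map_zero]
    have h3 : ρ r = 0 := ((hρ m).mul_right_eq_zero).1 ((hug.mul_right_eq_zero).1 h2)
    refine ((hρ k).mul_left_eq_zero).1 ?_
    rw [map_pow]
    exact hr.trans h3
  · intro y
    obtain ⟨k, t, ht⟩ := qcoh_exists_pow_smul hV N h y
    obtain ⟨c, hc⟩ := hgen t
    obtain ⟨v, hv⟩ := ((hρ k).mul hug).exists_left_inv
    refine ⟨v * ρ c, ?_⟩
    have h1 := congrArg (resM N hle) hc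
    rw [resM_smul, resM_smul, ht] at h1
    show (v * ρ c) • resM N _ (resM N _ n) = y
    rw [resM_resM, mul_smul]
    refine (congrArg (v • ·) h1.symm).trans ?_
    show v • (ρ g • ρ (h ^ k) • y) = y
    rw [smul_smul, smul_smul, show v * ρ g * ρ (h ^ k) = v * (ρ (h ^ k) * ρ g) by ring, hv, one_smul]

theorem mem_smul_of_pullSec_eq_zero {X T : Scheme.{u}} (σ : T ⟶ X) [IsClosedImmersion σ] {L : X.Modules}
    [Coh.IsQCoh L] {U : X.Opens} (hU : IsAffineOpen U) {m : Γ(L, U)} (hm : pullSec σ m = 0) :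
    m ∈ RingHom.ker (σ.app U).hom • (⊤ : Submodule Γ(X, U) Γ(L, U)) := by
  let _ := (σ.appLE U (σ ⁻¹ᵁ U) le_rfl).hom.toAlgebra
  let _ := Module.compHom Γ((Scheme.Modules.pullback σ).obj L, σ ⁻¹ᵁ U) (σ.appLE U (σ ⁻¹ᵁ U) le_rfl).hom
  have : IsScalarTower Γ(X, U) Γ(T, σ ⁻¹ᵁ U) Γ((Scheme.Modules.pullback σ).obj L, σ ⁻¹ᵁ U) :=
    IsScalarTower.of_algebraMap_smul fun _ _ => rfl
  obtain ⟨μ, hb, hμ⟩ := EGA43.InjFibre.pullMap_isBaseChange σ hU (hU.preimage σ) le_rfl (M := L)
  have e : (σ.appLE U (σ ⁻¹ᵁ U) le_rfl).hom = (σ.app U).hom := by rw [Scheme.Hom.appLE_eq_app]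
  have h := mem_ker_smul_of_isBaseChange (e ▸ σ.app_surjective U hU) hb (m := m)
    (by rw [hμ, pullMap_eq_resM_pullSec, resM_self]; exact hm)
  rw [← e]
  exact h

/-- Generators of the bottom level generate on every level. -/
theorem isGen_pull_levels {X T₀ : Scheme.{u}} {T : ℕ → Scheme.{u}} (w : ∀ k, T k ⟶ X) (k : ℕ) (v : T₀ ⟶ T k)
    {w₀ : T₀ ⟶ X} (hv : v ≫ w k = w₀) (hr : Set.range w₀ = Set.range (w k)) [IsClosedImmersion (w k)]
    {L : X.Modules} (hinv : PicF.IsInvertible ((Scheme.Modules.pullback (w k)).obj L)) {V : X.Opens}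
    {n : Γ(L, V)} (hn : IsGen ((Scheme.Modules.pullback w₀).obj L) (w₀ ⁻¹ᵁ V) (pullSec w₀ n)) :
    IsGen ((Scheme.Modules.pullback (w k)).obj L) (w k ⁻¹ᵁ V) (pullSec (w k) n) := by
  subst hv
  have : Surjective v := ⟨fun z => by
    obtain ⟨x, hx⟩ := hr.ge ⟨z, rfl⟩
    exact ⟨x, (w k).isClosedEmbedding.injective hx⟩⟩
  refine isGen_of_pullSec v hinv ?_
  have e := pullbackComp_inv_app_pullSec v (w k) L V n
  rw [← e]
  exact isGen_app_iso ((Scheme.Modules.pullbackComp v (w k)).app L).symm hn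

variable {A : Type u} [CommRing A] [IsNoetherianRing A] {I : Ideal A} {Y : Scheme.{u}}
  [Y.Over (Spec (CommRingCat.of A))] {Z : ℕ → Scheme.{u}} (w : ∀ k, Z k ⟶ Y)
  [∀ k, IsClosedImmersion (w k)]

/-- An open containing the special fibre of a proper scheme over a complete ring is everything. -/
theorem eq_top_of_contains_special [IsAdicComplete I A] [IsProper (Y ↘ Spec (CommRingCat.of A))]
    (U : Y.Opens) (hU : ∀ y : Y, (Y ↘ Spec (CommRingCat.of A)) y ∈ PrimeSpectrum.zeroLocus (I : Set A) →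
      y ∈ U) : U = ⊤ := by
  let g := Y ↘ Spec (CommRingCat.of A)
  by_contra hne
  obtain ⟨y, hy⟩ : ∃ y, y ∉ U := by
    by_contra h
    exact hne (top_unique fun z _ => by_contra fun hz => h ⟨z, hz⟩)
  obtain ⟨m, hm, hmp⟩ := Ideal.exists_le_maximal (g y).asIdeal (g y).isPrime.ne_top
  have hcl : IsClosed (g '' (U : Set Y)ᶜ) := g.isClosedMap _ U.isOpen.isClosed_compl
  obtain ⟨z, hz, hzm⟩ := ((PrimeSpectrum.le_iff_specializes (g y) ⟨m, hm.isPrime⟩).1 hmp).mem_closed hcl
    ⟨y, hy, rfl⟩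
  refine hz (hU z ?_)
  rw [hzm]
  exact fun a ha => (Ring.jacobson_le_of_isMaximal m)
    (Ideal.jacobson_bot (R := A) ▸ IsAdicComplete.le_jacobson_bot I ha)

/-- A coherent module invertible on all thickenings of the special fibre is invertible. -/
theorem isInvertible_of_levels [IsAdicComplete I A] [IsProper (Y ↘ Spec (CommRingCat.of A))]
    (hker : ∀ k (U : Y.affineOpens) (a : Γ(Y, U.1)), (w k).app U.1 a = 0 → a ∈ openIdeal I U.1 ^ (k + 1))
    (hsp : ∀ y : Y, (Y ↘ Spec (CommRingCat.of A)) y ∈ PrimeSpectrum.zeroLocus (I : Set A) →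
      y ∈ Set.range (w 0))
    (hcov : ∀ k, Set.range (w 0) = Set.range (w k)) (u : ∀ k, Z 0 ⟶ Z k) (hu : ∀ k, u k ≫ w k = w 0)
    {N : Y.Modules} (hN : Coh.IsCoh N)
    (hinv : ∀ k, PicF.IsInvertible ((Scheme.Modules.pullback (w k)).obj N)) :
    PicF.IsInvertible N := by
  have : IsLocallyNoetherian Y := LocallyOfFiniteType.isLocallyNoetherian (Y ↘ Spec (CommRingCat.of A))
  have := hN.1
  let G : Set Y.Opens := {U | ∃ s : Γ(N, U), IsGen N U s}
  have htop : sSup G = ⊤ := by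
    refine eq_top_of_contains_special (I := I) _ fun y hy => ?_
    obtain ⟨x, rfl⟩ := hsp y hy
    obtain ⟨P, hxP, s, hs⟩ := exists_isGen (hinv 0) x
    obtain ⟨O, hO, hOP⟩ := (w 0).isClosedEmbedding.isInducing.isOpen_iff.1 P.isOpen
    obtain ⟨V, hV, hxV, hVO⟩ := exists_isAffineOpen_mem_and_subset (x := w 0 x) (U := ⟨O, hO⟩)
      (show w 0 x ∈ O from hOP.ge hxP)
    have hVP : w 0 ⁻¹ᵁ V ≤ P := fun z hz => hOP.le (hVO hz)
    obtain ⟨n, hn⟩ := surjective_pullSec (w 0) (L := N) hV (resM _ hVP s)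
    have hn0 : IsGen _ (w 0 ⁻¹ᵁ V) (pullSec (w 0) n) := by rw [hn]; exact hs.restrict hVP
    have : IsNoetherianRing Γ(Y, V) := IsLocallyNoetherian.component_noetherian ⟨V, hV⟩
    have : Module.Finite Γ(Y, V) Γ(N, V) := ((isCoh_iff_finite_sections N).1 hN).2 V hV
    obtain ⟨g, hg, hgen, hann⟩ := exists_free_localizer (openIdeal I V) n
      (fun m => by
        obtain ⟨c, hc⟩ := (w 0).app_surjective V hV (hn0.coef le_rfl (pullSec (w 0) m))
        refine ⟨c, ?_⟩
        have h0 : pullSec (w 0) (m - c • n) = 0 := by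
          refine (map_sub (((Scheme.Modules.pullbackPushforwardAdjunction (w 0)).unit.app N).app V).hom m
            (c • n)).trans (sub_eq_zero.2 ?_)
          refine Eq.trans ?_ (pullSec_smul (w 0) c n).symm
          rw [hc]
          refine Eq.trans (hn0.coef_spec le_rfl (pullSec (w 0) m)).symm ?_
          rw [resM_self]
        have h1 := mem_smul_of_pullSec_eq_zero (w 0) hV h0
        refine Submodule.smul_mono_left ?_ h1
        intro a ha
        have := hker 0 ⟨V, hV⟩ a ha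
        rwa [zero_add, pow_one] at this)
      fun r hr k => by
        refine hker k ⟨V, hV⟩ r ?_
        have hgk : IsGen _ (w k ⁻¹ᵁ V) (pullSec (w k) n) := isGen_pull_levels w k (u k) (hu k)
          (hcov k) (hinv k) hn0
        refine (hgk (w k ⁻¹ᵁ V) le_rfl).1 ?_
        show (w k).app V r • resM _ _ (pullSec (w k) n) = (0 : Γ(Z k, w k ⁻¹ᵁ V)) • _
        rw [resM_self, zero_smul, ← pullSec_smul, hr]
        exact map_zero (((Scheme.Modules.pullbackPushforwardAdjunction (w k)).unit.app N).app V).hom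
    refine Opens.mem_sSup.2 ⟨Y.basicOpen g, ⟨_, isGen_basicOpen hV hgen hann⟩, ?_⟩
    have h2 : hV.primeIdealOf ⟨_, hxV⟩ ∈ hV.fromSpec ⁻¹ᵁ Y.basicOpen g := by
      rw [hV.fromSpec_preimage_basicOpen]
      intro hmem
      refine (hV.primeIdealOf ⟨_, hxV⟩).isPrime.ne_top ((Ideal.eq_top_iff_one _).2 ?_)
      have := Ideal.sub_mem _ hmem (openIdeal_le_prime hV hxV hy hg)
      rwa [sub_sub_cancel] at this
    have h3 : hV.fromSpec (hV.primeIdealOf ⟨_, hxV⟩) ∈ Y.basicOpen g := h2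
    rwa [hV.fromSpec_primeIdealOf] at h3
  refine isInvertible_of_gens fun y => ?_
  obtain ⟨U, ⟨s, hs⟩, hy⟩ := Opens.mem_sSup.1 (htop.ge (show y ∈ (⊤ : Y.Opens) from trivial))
  exact ⟨U, hy, s, hs⟩

end Groth.Agent.Coherent.Existence
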