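import Groth.Agent.Coherent.Existence.StrSystem
import Groth.Agent.Coherent.Serre.AdicMod

/-!
# The formal module of a system of modules on a compatible system of closed subschemes
-/

set_option autoImplicit false
set_option backward.isDefEq.respectTransparency false

universe u

open CategoryTheory CategoryTheory.Limits AlgebraicGeometry Opposite TopologicalSpace
open Groth.Agent.Coherent Groth.Agent.Coherent.Serre

namespace Groth.Agent.Coherent.Existence

section PushOver

variable {P Q X : Scheme.{u}}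

/-- The direct image in `X` of a map `N ⟶ t_* N'` for a morphism `t` over `X`. -/
noncomputable def pushOver (a : P ⟶ X) (b : Q ⟶ X) (t : P ⟶ Q) (h : t ≫ b = a) {N : Q.Modules}
    {N' : P.Modules} (φ : N ⟶ (Coh.push t).obj N') : (Coh.push b).obj N ⟶ (Coh.push a).obj N' :=
  (Coh.push b).map φ ≫ (Scheme.Modules.pushforwardComp t b).hom.app N' ≫
    (Scheme.Modules.pushforwardCongr h).hom.app N'

variable {a : P ⟶ X} {b : Q ⟶ X} {t : P ⟶ Q} (h : t ≫ b = a) {N : Q.Modules}
  {N' : P.Modules} (φ : N ⟶ (Coh.push t).obj N') (U : X.Opens)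

theorem pushOver_app_surjective (hs : Function.Surjective (φ.app (b ⁻¹ᵁ U))) :
    Function.Surjective ((pushOver a b t h φ).app U) := by
  intro y
  obtain ⟨x, hx⟩ := (ConcreteCategory.bijective_of_isIso
    (((Scheme.Modules.pushforwardComp t b).hom.app N' ≫
      (Scheme.Modules.pushforwardCongr h).hom.app N').app U)).2 y
  obtain ⟨z, rfl⟩ := hs x
  exact ⟨z, hx⟩

theorem app_eq_zero_of_pushOver {z : Γ(N, b ⁻¹ᵁ U)} (hz : (pushOver a b t h φ).app U z = 0) :
    φ.app (b ⁻¹ᵁ U) z = 0 :=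
  (ConcreteCategory.bijective_of_isIso
    (((Scheme.Modules.pushforwardComp t b).hom.app N' ≫
      (Scheme.Modules.pushforwardCongr h).hom.app N').app U)).1 (hz.trans (map_zero _).symm)

theorem eq_zero_of_comp {W : Scheme.{u}} {F G H : W.Modules} {f : F ⟶ G} {g : F ⟶ H} {l : G ⟶ H}
    (hl : f ≫ l = g) (V : W.Opens) {z : Γ(F, V)} (hz : f.app V z = 0) : g.app V z = 0 := by
  subst hl
  exact (comp_app_eq f l V z).trans ((congrArg (l.app V) hz).trans (map_zero _))

end PushOver

variable {A : Type u} [CommRing A] {I : Ideal A} {S : AdicSys I} (M : AdicMod S) {Y : Scheme.{u}}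
  [Y.Over (Spec (CommRingCat.of A))] (w : ∀ n, S.X n ⟶ Y) (ht : ∀ n, S.i n ≫ w (n + 1) = w n)
  (hw : ∀ n, w n ≫ (Y ↘ Spec (CommRingCat.of A)) = S.s n)

/-- The formal module `w_* M`. -/
noncomputable def modSys : ℕᵒᵖ ⥤ Y.Modules :=
  Functor.ofOpSequence (X := fun n => (Coh.push (w n)).obj (M.F n))
    fun n => pushOver (w n) (w (n + 1)) (S.i n) (ht n) (M.tr n)

include hw in
theorem openIdeal_map (n : ℕ) (U : Y.Opens) :
    (openIdeal (A := A) I U).map ((w n).app U).hom = openIdeal (A := A) I ((w n) ⁻¹ᵁ U) := by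
  rw [openIdeal, openIdeal, Ideal.map_map]
  exact congrArg (fun φ => Ideal.map φ I)
    (RingHom.ext fun a => app_baseFun (w n) _ (S.s n) (hw n) U a)

variable [IsNoetherianRing A] [IsLocallyNoetherian Y] [∀ n, IsClosedImmersion (w n)]

include hw in
theorem isCohFormal_modSys (hM : ∀ n, Coh.IsCoh (M.F n)) : Formal.IsCohFormal I (modSys M w ht) := by
  have hN : ∀ n, IsLocallyNoetherian (S.X n) := fun n => LocallyOfFiniteType.isLocallyNoetherian (w n)
  have hcoh : ∀ n, Coh.IsCoh ((Coh.push (w n)).obj (M.F n)) := fun n => isCoh_push_finite (w n) (hM n)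
  have hkill : ∀ n, Formal.KilledBy (I ^ (n + 1)) ((Coh.push (w n)).obj (M.F n)) := fun n =>
    killedBy_push' (p := w n) (hw n) (S.killedBy n (M.F n))
  refine ⟨hcoh, hkill, fun n => ?_⟩
  rw [show (modSys M w ht).map (homOfLE (Nat.le_succ n)).op =
    pushOver (w n) (w (n + 1)) (S.i n) (ht n) (M.tr n) from Functor.ofOpSequence_map_homOfLE_succ _ _]
  have h : Formal.smulFamily (I ^ (n + 1)) ((Coh.push (w (n + 1))).obj (M.F (n + 1))) ≫
      pushOver (w n) (w (n + 1)) (S.i n) (ht n) (M.tr n) = 0 :=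
    Sigma.hom_ext _ _ fun c => by
      rw [comp_zero, ← Category.assoc, ι_smulFamily, smulMod_natural, hkill n c c.2, comp_zero]
  refine ⟨h, isIso_desc_of_cover (hcoh (n + 1)) (hcoh n) _ h (fun U : Y.affineOpens => U.1)
    (fun U => U.2) (fun x => ?_) (fun U => ?_) fun U z hz => ?_⟩
  · obtain ⟨U, hU, hxU, -⟩ := exists_isAffineOpen_mem_and_subset (x := x) (U := (⊤ : Y.Opens)) trivial
    exact ⟨⟨U, hU⟩, hxU⟩
  · refine pushOver_app_surjective _ _ _ fun y => ?_
    have := (hM (n + 1)).1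
    have : Coh.IsQCoh ((Coh.push (S.i n)).obj (M.F n)) := (isCoh_push_finite (S.i n) (hM n)).1
    exact app_surjective_of_epi (M.tr n) (U.2.preimage (w (n + 1))) y
  · have h0 := app_eq_zero_of_pushOver _ _ _ hz
    have hπ : Formal.smulFamily (I ^ (n + 1)) (M.F (n + 1)) ≫
        Formal.modPowπ I (n + 1) (M.F (n + 1)) = 0 := cokernel.condition _
    obtain ⟨l, hl⟩ : ∃ l, M.tr n ≫ l = Formal.modPowπ I (n + 1) (M.F (n + 1)) :=
      ⟨_, (M.exact_tr n).g_desc _ hπ⟩
    have h1 := eq_zero_of_comp hl (w (n + 1) ⁻¹ᵁ U.1) h0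
    have h2 := (modPowπ_app_eq_zero_iff I (hM (n + 1)) (n + 1) (U.2.preimage (w (n + 1))) z).1 h1
    rw [← openIdeal_map w hw (n + 1) U.1, ← Ideal.map_pow] at h2
    exact mem_push_of_mem_map (M.F (n + 1)) (openIdeal I U.1 ^ (n + 1)) z h2

/-- A module whose completion is `w_* M` pulls back to the levels of `M`. -/
theorem nonempty_pull_iso_of_completion {N : Y.Modules}
    (hw : ∀ n, w n ≫ (Y ↘ Spec (CommRingCat.of A)) = S.s n)
    (e : Formal.completion I N ≅ modSys M w ht) (n : ℕ) :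
    Nonempty ((Scheme.Modules.pullback (w n)).obj N ≅ M.F n) := by
  let P := Scheme.Modules.pullback (w n)
  let adj := Scheme.Modules.pullbackPushforwardAdjunction (w n)
  let π := Formal.modPowπ I (n + 1) N
  let d : Formal.modPow I (n + 1) N ⟶ (Coh.push (w n)).obj (P.obj N) :=
    modPowDesc I (adj.unit.app N) (killedBy_push' (p := w n) (hw n) (S.killedBy n (P.obj N)))
  let b : P.obj (Formal.modPow I (n + 1) N) ⟶ P.obj N := (adj.homEquiv _ (P.obj N)).symm d
  have hb : P.map π ≫ b = 𝟙 (P.obj N) := by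
    refine (adj.homEquiv_naturality_left_symm π d).symm.trans ?_
    rw [Equiv.symm_apply_eq, Adjunction.homEquiv_id]
    exact π_modPowDesc I _ _
  have : Epi (P.map π) := by
    have := Adjunction.leftAdjoint_preservesColimits.{0, 0} adj
    infer_instance
  have : IsSplitMono (P.map π) := ⟨⟨⟨b, hb⟩⟩⟩
  have : IsIso (P.map π) := isIso_of_epi_of_isSplitMono _
  exact ⟨asIso (P.map π) ≪≫ P.mapIso (e.app (op n)) ≪≫ asIso (adj.counit.app (M.F n))⟩

end Groth.Agent.Coherent.Existence
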