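import Groth.Agent.AbCubeLib.ProjEmbedding
import Groth.Agent.Coherent.Serre.AdicVanish
import Groth.Agent.MorProj.VeryAmple

/-!
# Compatible morphisms of an adic system into projective space
-/

set_option autoImplicit false
set_option backward.isDefEq.respectTransparency false
set_option maxHeartbeats 800000

universe u

open CategoryTheory CategoryTheory.Limits AlgebraicGeometry Opposite TopologicalSpace
open Groth.Agent.Coherent Groth.Agent.Coherent.Serre Groth.Agent.PicLib Groth.Agent.AmpleLib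

namespace Groth.Agent.Coherent.Existence

variable {R : Type u} [CommRing R] {X T : Scheme.{u}}

theorem exists_projSpace_lift {n : ℕ} (i : T ⟶ X) [Surjective i] (q : X ⟶ Spec (CommRingCat.of R))
    {L : X.Modules} (hL : PicF.IsInvertible L) (r : T ⟶ CohB1.ProjSpace n R)
    (hr : r ≫ CohB1.ProjSpace.toSpec n R = i ≫ q)
    (τ : (Scheme.Modules.pullback r).obj (Twist.twistProjSpace n R 1) ≅ (Scheme.Modules.pullback i).obj L)
    (hs : Function.Surjective (pullSec i (U := ⊤) : Γ(L, (⊤ : X.Opens)) → _)) :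
    ∃ r' : X ⟶ CohB1.ProjSpace n R, r' ≫ CohB1.ProjSpace.toSpec n R = q ∧ i ≫ r' = r ∧
      Nonempty ((Scheme.Modules.pullback r').obj (Twist.twistProjSpace n R 1) ≅ L) := by
  let O := Twist.twistProjSpace n R 1
  choose σ hσ using fun l : Fin (n + 1) => hs (τ.hom.app ⊤ (ProjUP.pullSec r O (ProjUP.coord n R l)))
  have hcov : ∀ x : X, ∃ l, x ∈ glocus L (σ l) := fun x => by
    obtain ⟨z, rfl⟩ := i.surjective x
    obtain ⟨l, hl⟩ := Opens.mem_iSup.1 ((Proj.iSup_basicOpen_eq_top (CohB1.polyGrading n R) _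
      (ProjLib.irrelevant_le_span_X n _)).ge (show r z ∈ (⊤ : (CohB1.ProjSpace n R).Opens) from trivial))
    refine ⟨l, ?_⟩
    have h := (PnEmb.preimage_chartOpen r τ
      (σ := fun l => (pullSec i (σ l) : Γ((Scheme.Modules.pullback i).obj L, (⊤ : T.Opens))))
      (fun l => (hσ l).symm) l).le hl
    rw [glocus_pullSec i hL] at h
    exact h
  obtain ⟨r', hr', τ', hτ'⟩ := UPLib.exists_hom_projSpace n q hL σ hcov
  refine ⟨r', hr', ?_, ⟨τ'⟩⟩
  obtain ⟨c, hc⟩ := RelVALib.exists_compIso i r' (i ≫ r') rfl O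
  refine UPLib.eq_of_iso_projSpace n (by rw [Category.assoc, hr', hr])
    (c ≪≫ (Scheme.Modules.pullback i).mapIso τ' ≪≫ τ.symm) fun l => ?_
  have h1 : c.hom.app ⊤ (ProjUP.pullSec (i ≫ r') O (ProjUP.coord n R l)) =
      pullSec i (U := ⊤) (ProjUP.pullSec r' O (ProjUP.coord n R l)) :=
    (hc ⊤ _ le_rfl).trans (resM_self _ _ _)
  show τ.inv.app ⊤ (((Scheme.Modules.pullback i).map τ'.hom).app ⊤ (c.hom.app ⊤ _)) = _
  rw [h1]
  refine (congrArg (τ.inv.app ⊤) ((pullback_map_app_pullSec i (U := (⊤ : X.Opens)) τ'.hom _).trans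
    ((congrArg (pullSec i (U := ⊤)) (hτ' l)).trans (hσ l)))).trans ?_
  show (τ.hom ≫ τ.inv).app ⊤ _ = _
  rw [τ.hom_inv_id]
  rfl

variable {A : Type u} [CommRing A] [IsNoetherianRing A] {J : Ideal A} {S : AdicSys J}

/-- Morphisms into projective space chosen compatibly along an adic system. -/
theorem exists_projTower [∀ k, Surjective (S.i k)] {n : ℕ} (P : AdicMod S)
    (hP : ∀ k, PicF.IsInvertible (P.F k))
    (hs : ∀ k, Function.Surjective (pullSec (S.i k) (U := ⊤) : Γ(P.F (k + 1), (⊤ : (S.X (k + 1)).Opens)) → _))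
    (r₀ : S.X 0 ⟶ CohB1.ProjSpace n A) (hr₀ : r₀ ≫ CohB1.ProjSpace.toSpec n A = S.s 0)
    (τ₀ : (Scheme.Modules.pullback r₀).obj (Twist.twistProjSpace n A 1) ≅ P.F 0) :
    ∃ r : ∀ k, S.X k ⟶ CohB1.ProjSpace n A, r 0 = r₀ ∧
      (∀ k, r k ≫ CohB1.ProjSpace.toSpec n A = S.s k) ∧ ∀ k, S.i k ≫ r (k + 1) = r k := by
  let Q := fun k => {r : S.X k ⟶ CohB1.ProjSpace n A // r ≫ CohB1.ProjSpace.toSpec n A = S.s k ∧
    Nonempty ((Scheme.Modules.pullback r).obj (Twist.twistProjSpace n A 1) ≅ P.F k)}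
  have step : ∀ k (r : Q k), ∃ r' : Q (k + 1), S.i k ≫ r'.1 = r.1 := fun k r => by
    obtain ⟨r', h1, h2, h3⟩ := exists_projSpace_lift (S.i k) (S.s (k + 1)) (hP (k + 1)) r.1
      (r.2.1.trans (S.hs k).symm) (r.2.2.some ≪≫ (P.ψ k).symm) (hs k)
    exact ⟨⟨r', h1, h3⟩, h2⟩
  choose f hf using step
  let r : ∀ k, Q k := fun k => Nat.rec (motive := Q) ⟨r₀, hr₀, ⟨τ₀⟩⟩ f k
  exact ⟨fun k => (r k).1, rfl, fun k => (r k).2.1, fun k => hf k (r k)⟩

theorem app_surjective_of_comp_eq {F G H : X.Modules} {f : F ⟶ G} {l : G ⟶ H} {g : F ⟶ H}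
    (hl : f ≫ l = g) [IsIso l] {U : X.Opens} (hs : Function.Surjective (f.app U)) :
    Function.Surjective (g.app U) := by
  subst hl
  exact fun y => by
    obtain ⟨z, hz⟩ := (ConcreteCategory.bijective_of_isIso (l.app U)).2 y
    obtain ⟨x, rfl⟩ := hs z
    exact ⟨x, hz⟩

theorem app_surjective_of_natural {F G F' G' : X.Modules} {f : F ⟶ G} {f' : F' ⟶ G'} (a : F ⟶ F') [IsIso a]
    (b : G ⟶ G') [IsIso b] (h : f ≫ b = a ≫ f') {U : X.Opens} (hs : Function.Surjective (f.app U)) :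
    Function.Surjective (f'.app U) := fun y => by
  obtain ⟨z, hz⟩ := (ConcreteCategory.bijective_of_isIso (b.app U)).2 y
  obtain ⟨x, rfl⟩ := hs z
  refine ⟨a.app U x, ?_⟩
  rw [← hz]
  exact (congr(($h).app U x)).symm

/-- Sections of high powers of an ample system lift along the transition maps. -/
theorem exists_surjective_pullSec [IsProper (S.s 0)] (L : AdicMod S)
    (hLi : ∀ k, PicF.IsInvertible (L.F k)) (ha : CohB1.IsAmple (L.F 0)) :
    ∃ n₀, ∀ n, n₀ ≤ n → ∀ k, Function.Surjective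
      (pullSec (S.i k) (U := ⊤) : Γ(CohB1.tensorPow (L.F (k + 1)) n, (⊤ : (S.X (k + 1)).Opens)) → _) := by
  let M : AdicMod S := ⟨fun k => Coh.structureModule (S.X k),
    fun k => (AmpleLib.exists_pullStructureIso (S.i k)).some⟩
  have : IsLocallyNoetherian (S.X 0) := LocallyOfFiniteType.isLocallyNoetherian (S.s 0)
  obtain ⟨n₀, h⟩ := AdicMod.exists_vanishesFrom L M hLi ha
    (fun k => by have := S.isLocallyNoetherian k; exact isCoh_structureModule (S.X k))
  refine ⟨n₀, fun n hn k => ?_⟩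
  let P := CohB1.tensorPow (L.F (k + 1)) n
  let N := CohB1.tensorMod (M.F (k + 1)) P
  have hP : PicF.IsInvertible P := isInvertible_tensorPow (hLi (k + 1)) n
  have hSeq := EulerLib.twistSeq_shortExact hP (M.trSeq_shortExact k)
  let t := tensorMap (M.tr k) (𝟙 P)
  let e := pushTwistIso (S.i k) (hLi (k + 1)) (L.ψ k) (M.F k) n
  have hQ : ClSub.KilledByIdeal (S.i k).ker (CohB1.tensorMod ((Coh.push (S.i k)).obj (M.F k)) P) :=
    S.killed_i k fun c hc => by
      rw [← cancel_epi e.hom, comp_zero, ← smulMod_natural, ← S.push_smul, S.killedBy k _ c hc,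
        Functor.map_zero, zero_comp]
  have := isIso_clUnit (S.i k) hQ
  let u := clUnit (S.i k) N
  let r := (Coh.push (S.i k)).map ((Scheme.Modules.pullback (S.i k)).map t) ≫
    inv (clUnit (S.i k) (CohB1.tensorMod ((Coh.push (S.i k)).obj (M.F k)) P))
  have hur : u ≫ r = t := by
    have hn := (Scheme.Modules.pullbackPushforwardAdjunction (S.i k)).unit.naturality t
    simp only [r, ← Category.assoc, IsIso.comp_inv_eq]
    exact hn.symm
  have hι : tensorMap (kernel.ι (M.tr k)) (𝟙 P) ≫ u = 0 := by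
    refine M.tensor_kerElem_jointly_epi k hP _ fun c => ?_
    have e1 : tensorMap (M.kerElem k c) (𝟙 P) ≫ tensorMap (kernel.ι (M.tr k)) (𝟙 P) =
        Formal.smulMod A N (c : A) := by
      refine AmpleLib.hom_ext fun U x y => ?_
      refine Eq.trans (ConcreteCategory.comp_apply _ _ _) ?_
      erw [tensorMap_tmul, tensorMap_tmul]
      rw [smulMod_app', ← tmul_smul_left]
      refine congrArg (fun z => tmul z y) ?_
      exact (congrArg (fun ψ : M.F (k + 1) ⟶ M.F (k + 1) => ψ.app U x) (M.kerElem_ι k c)).trans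
        (smulMod_app' _ _ _ _)
    rw [← Category.assoc, e1, smulMod_natural, ← S.push_smul, S.killedBy k _ c c.2, Functor.map_zero,
      comp_zero]
  have := hSeq.epi_g
  have : Epi t := hSeq.epi_g
  obtain ⟨l, hl⟩ : ∃ l, t ≫ l = u := ⟨_, hSeq.exact.g_desc u hι⟩
  have : IsIso l := by
    have := epi_clUnit (S.i k) (F := N)
    refine ⟨r, ?_, ?_⟩
    · rw [← cancel_epi t, ← Category.assoc, hl, hur, Category.comp_id]
    · rw [← cancel_epi u, ← Category.assoc, hur, hl, Category.comp_id]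
  have hs : Function.Surjective (t.app (⊤ : (S.X (k + 1)).Opens)) :=
    sections_top_surjective_of_subsingleton hSeq ((h k).2 n hn 1 one_pos)
  have hu : Function.Surjective (u.app (⊤ : (S.X (k + 1)).Opens)) := app_surjective_of_comp_eq hl hs
  exact app_surjective_of_natural (unitTensorIso P).hom
    ((Coh.push (S.i k)).map ((Scheme.Modules.pullback (S.i k)).map (unitTensorIso P).hom))
    ((Scheme.Modules.pullbackPushforwardAdjunction (S.i k)).unit.naturality (unitTensorIso P).hom).symm hu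

end Groth.Agent.Coherent.Existence
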