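import Groth.Agent.Coherent.Existence.ClosedAlgebraize
import Groth.Agent.Coherent.Existence.InvertibleAlgebraize
import Groth.Agent.Coherent.Existence.ModSystem
import Groth.Agent.Coherent.Existence.ProjTower
import Groth.Agent.FSchLib.Thickening
import Groth.Agent.DimLib.ProjDim
import Groth.Agent.Coherent.ProjSpaceFinite
import Groth.Agent.RelVALib.AffineProj
import Groth.Agent.PicLib.FormalGen
import Groth.Agent.S0054

/-!
# Algebraization of formal schemes with an ample invertible module
-/

set_option autoImplicit false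
set_option backward.isDefEq.respectTransparency false

universe u

open CategoryTheory CategoryTheory.Limits AlgebraicGeometry Opposite TopologicalSpace
open Groth.Agent.Coherent Groth.Agent.Coherent.Serre Groth.Agent.PicLib Groth.Agent.AmpleLib

namespace Groth.Agent.Coherent.Existence

section Base

variable {A : Type u} [CommRing A] (I : Ideal A) (k : ℕ)

theorem isClosedImmersion_specQuot : IsClosedImmersion (CohB1.specQuot I k) :=
  IsClosedImmersion.spec_of_surjective _ Ideal.Quotient.mk_surjective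

theorem surjective_specQuotTrans : Surjective (CohB1.specQuotTrans I k) := by
  refine ⟨fun x => ?_⟩
  let φ := Ideal.Quotient.factor (Ideal.pow_le_pow_right (I := I) (Nat.le_succ (k + 1)))
  suffices RingHom.ker φ ≤ x.asIdeal from
    (range_comap_of_surjective _ φ (Ideal.Quotient.factor_surjective _)).ge this
  rw [Ideal.Quotient.factor_ker, Ideal.map_le_iff_le_comap]
  have := x.isPrime
  refine ((Ideal.IsPrime.comap (Ideal.Quotient.mk (I ^ (k + 1 + 1)))).le_of_pow_le (n := k + 1 + 1)
    fun a ha => ?_).trans' (Ideal.pow_le_self k.succ_ne_zero)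
  show Ideal.Quotient.mk _ a ∈ x.asIdeal
  rw [Ideal.Quotient.eq_zero_iff_mem.2 ha]
  exact zero_mem _

variable {Y Z : Scheme.{u}} [Y.Over (Spec (CommRingCat.of A))]

theorem mem_openIdeal_pow_of_isPullback {w : Z ⟶ Y} {p : Z ⟶ Spec (CommRingCat.of (A ⧸ I ^ (k + 1)))}
    (h : IsPullback w p (Y ↘ Spec (CommRingCat.of A)) (CohB1.specQuot I k)) (U : Y.affineOpens)
    (a : Γ(Y, U.1)) (ha : w.app U.1 a = 0) : a ∈ openIdeal I U.1 ^ (k + 1) := by
  have := isClosedImmersion_specQuot I k
  have : IsClosedImmersion w := MorphismProperty.of_isPullback h.flip inferInstance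
  have h1 : a ∈ w.ker.ideal U := by rw [Scheme.Hom.ker_apply]; exact ha
  rw [FSchLib.ker_of_isPullback h, FSchLib.ideal_comap_eq_map _ _ U ⟨⊤, isAffineOpen_top _⟩ le_top,
    CohB1.specQuot, FSchLib.ker_specMap, FSchLib.idealSpec_ideal_top, Ideal.mk_ker, Ideal.map_map] at h1
  rw [openIdeal, ← Ideal.map_pow]
  refine (le_of_eq (congrArg (fun φ => Ideal.map φ (I ^ (k + 1))) (RingHom.ext fun c => ?_))) h1
  rfl

theorem mem_range_of_isPullback_specQuot {w : Z ⟶ Y} {p : Z ⟶ Spec (CommRingCat.of (A ⧸ I ^ (k + 1)))}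
    (h : IsPullback w p (Y ↘ Spec (CommRingCat.of A)) (CohB1.specQuot I k)) {y : Y}
    (hy : (Y ↘ Spec (CommRingCat.of A)) y ∈ PrimeSpectrum.zeroLocus (I : Set A)) : y ∈ Set.range w := by
  obtain ⟨b, hb⟩ : (Y ↘ Spec (CommRingCat.of A)) y ∈ Set.range (CohB1.specQuot I k) := by
    refine (range_comap_of_surjective _ _ Ideal.Quotient.mk_surjective).ge ?_
    rw [Ideal.mk_ker]
    exact (PrimeSpectrum.zeroLocus_anti_mono (Ideal.pow_le_self (Nat.succ_ne_zero k)) hy :)
  obtain ⟨z, hz, -⟩ := Scheme.Pullback.exists_preimage_pullback y b hb.symm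
  refine ⟨h.isoPullback.inv z, ?_⟩
  rw [← Scheme.Hom.comp_apply, h.isoPullback_inv_fst]
  exact hz

theorem exists_fromSpecResidueField_factor (m : Spec (CommRingCat.of A))
    (hm : m ∈ PrimeSpectrum.zeroLocus (I : Set A)) :
    ∃ φ : Spec ((Spec (CommRingCat.of A)).residueField m) ⟶ Spec (CommRingCat.of (A ⧸ I ^ (k + 1))),
      φ ≫ CohB1.specQuot I k = (Spec (CommRingCat.of A)).fromSpecResidueField m := by
  obtain ⟨ψ, hψ⟩ := (⟨_, Spec.map_preimage _⟩ :
    ∃ ψ, Spec.map ψ = (Spec (CommRingCat.of A)).fromSpecResidueField m)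
  have hp := (Spec (CommRingCat.of A)).fromSpecResidueField_apply m
    (IsLocalRing.closedPoint ((Spec (CommRingCat.of A)).residueField m))
  rw [← hψ] at hp
  have hker : ∀ a ∈ I ^ (k + 1), ψ.hom a = 0 := fun a ha => by
    have h1 : a ∈ m.asIdeal := hm (Ideal.pow_le_self (Nat.succ_ne_zero k) ha)
    rw [← hp] at h1
    have h2 : ψ.hom a ∈
        (IsLocalRing.closedPoint ((Spec (CommRingCat.of A)).residueField m)).asIdeal := h1
    rwa [show (IsLocalRing.closedPoint ((Spec (CommRingCat.of A)).residueField m)).asIdeal = ⊥ from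
      IsLocalRing.maximalIdeal_eq_bot, Ideal.mem_bot] at h2
  refine ⟨Spec.map (CommRingCat.ofHom (Ideal.Quotient.lift (I ^ (k + 1)) ψ.hom hker)), ?_⟩
  rw [CohB1.specQuot, ← Spec.map_comp, ← hψ]
  rfl

end Base

variable {A : Type u} [CommRing A] [IsNoetherianRing A] {I : Ideal A} [IsAdicComplete I A]

/-- An invertible module ample on the special fibre is ample. -/
theorem isAmple_of_special {Y Z : Scheme.{u}} [Y.Over (Spec (CommRingCat.of A))]
    [IsProper (Y ↘ Spec (CommRingCat.of A))] {M : Y.Modules} (hM : PicF.IsInvertible M) (w : Z ⟶ Y)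
    (p : Z ⟶ Spec (CommRingCat.of (A ⧸ I ^ (0 + 1))))
    (h : IsPullback w p (Y ↘ Spec (CommRingCat.of A)) (CohB1.specQuot I 0))
    (ha : CohB1.IsAmple ((Scheme.Modules.pullback w).obj M)) : CohB1.IsAmple M := by
  let g := Y ↘ Spec (CommRingCat.of A)
  refine RelVALib.isAmple_of_isRelAmple_of_isAffine g (isRelAmple_of_affine_cover g hM fun y => ?_)
  obtain ⟨m, hm, hym⟩ := Ideal.exists_le_maximal y.asIdeal y.isPrime.ne_top
  let m' : Spec (CommRingCat.of A) := ⟨m, hm.isPrime⟩
  have hmI : m' ∈ PrimeSpectrum.zeroLocus (I : Set A) := fun a ha =>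
    (Ring.jacobson_le_of_isMaximal m) (Ideal.jacobson_bot (R := A) ▸ IsAdicComplete.le_jacobson_bot I ha)
  obtain ⟨φ, hφ⟩ := exists_fromSpecResidueField_factor I 0 m' hmI
  let σ : g.fiber m' ⟶ Z := h.lift (g.fiberι m') (g.fiberToSpecResidueField m' ≫ φ) (by
    rw [Category.assoc, hφ]; exact pullback.condition)
  have hσ : σ ≫ w = g.fiberι m' := h.lift_fst _ _ _
  have : IsClosedImmersion (g.fiberι m') := IsClosedImmersion.of_isPreimmersion _ (by
    rw [Scheme.Hom.range_fiberι]
    exact IsClosed.preimage g.continuous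
      ((PrimeSpectrum.isClosed_singleton_iff_isMaximal m').2 hm))
  have := isClosedImmersion_specQuot I 0
  have : IsClosedImmersion w := MorphismProperty.of_isPullback h.flip inferInstance
  have : IsClosedImmersion (σ ≫ w) := hσ ▸ inferInstance
  have : IsClosedImmersion σ := IsClosedImmersion.of_comp σ w
  have hf : CohB1.IsAmple ((Scheme.Modules.pullback (g.fiberι m')).obj M) := by
    have := (isAmple_pullback_comp_iff σ w).1 (isAmple_pullback_of_isAffineHom σ ha)
    exact isAmple_of_iso ((Scheme.Modules.pullbackCongr hσ).app M) this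
  obtain ⟨V, hmV, hV⟩ := S0054.result g M hM m' hf
  have hyV : y ∈ V :=
    ((PrimeSpectrum.le_iff_specializes y m').1 hym).mem_open V.isOpen hmV
  obtain ⟨W, hW, hyW, hWV⟩ := exists_isAffineOpen_mem_and_subset (x := y) (U := V) hyV
  exact ⟨⟨W, hW⟩, hyW, isAmple_of_iso ((Scheme.Modules.restrictFunctorIsoPullback (g ⁻¹ᵁ W).ι).app M)
    (hV W hWV hW)⟩

/-- A formal scheme proper over a complete ring with an ample invertible module is algebraizable. -/
theorem exists_scheme_of_ample (Xs : ℕ → Scheme.{u})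
    (p : (n : ℕ) → (Xs n ⟶ Spec (CommRingCat.of (A ⧸ I ^ (n + 1)))))
    (i : (n : ℕ) → (Xs n ⟶ Xs (n + 1)))
    (hcart : ∀ n, IsPullback (i n) (p n) (p (n + 1)) (CohB1.specQuotTrans I n)) (hp : IsProper (p 0))
    (L : (n : ℕ) → (Xs n).Modules) (hL : ∀ n, PicF.IsInvertible (L n))
    (φ : ∀ n, Nonempty ((Scheme.Modules.pullback (i n)).obj (L (n + 1)) ≅ L n))
    (ha : CohB1.IsAmple (L 0)) :
    ∃ (Y : Scheme.{u}) (g : Y ⟶ Spec (CommRingCat.of A)) (M : Y.Modules) (e : (n : ℕ) → (Xs n ⟶ Y)),
      IsProper g ∧ PicF.IsInvertible M ∧ CohB1.IsAmple M ∧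
      (∀ n, IsPullback (e n) (p n) g (CohB1.specQuot I n)) ∧ (∀ n, e n = i n ≫ e (n + 1)) ∧
      ∀ n, Nonempty ((Scheme.Modules.pullback (e n)).obj M ≅ L n) := by
  let S := AdicSys.ofCart I Xs p i hcart
  have : IsProper (S.s 0) := by
    have := isClosedImmersion_specQuot I 0
    exact inferInstanceAs (IsProper (p 0 ≫ CohB1.specQuot I 0))
  have hsurj : ∀ k, Surjective (S.i k) := fun k =>
    MorphismProperty.of_isPullback (hcart k).flip (surjective_specQuotTrans I k)
  let Ls : AdicMod S := ⟨L, fun k => (φ k).some⟩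
  obtain ⟨n₁, h₁⟩ := MorProj.eventually_isRelVeryAmplePn_pow (S.s 0) ha
  obtain ⟨n₂, h₂⟩ := exists_surjective_pullSec Ls hL ha
  let d := max n₁ n₂
  let P : AdicMod S := ⟨fun k => CohB1.tensorPow (L k) d, fun k =>
    (exists_pullPowIso (S.i k) (hL (k + 1)) d).choose ≪≫ powIsoOfIso (Ls.ψ k) d⟩
  obtain ⟨N, r₀, hr₀c, hr₀, ⟨τ₀⟩⟩ := AbCubeLib.exists_isClosedImmersion_projSpace (S.s 0)
    (isInvertible_tensorPow (hL 0) d) (h₁ d (le_max_left _ _))
  obtain ⟨r, hr0, hrs, hrt⟩ := exists_projTower P (fun k => isInvertible_tensorPow (hL k) d)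
    (h₂ d (le_max_right _ _)) r₀ hr₀ τ₀
  let f := CohB1.ProjSpace.toSpec N A
  let _ : (CohB1.ProjSpace N A).Over (Spec (CommRingCat.of A)) := ⟨f⟩
  have hf : IsProper f := Groth.Agent.Coherent.isProper_projSpace_toSpec N A
  have : IsProper ((CohB1.ProjSpace N A) ↘ Spec (CommRingCat.of A)) := hf
  have hι := fun k => isClosedImmersion_thickι f I k
  let z : ∀ k, Xs k ⟶ CohB1.thick f I k := fun k => pullback.lift (r k) (p k) (hrs k)
  have hzι : ∀ k, z k ≫ CohB1.thickι f I k = r k := fun k => pullback.lift_fst _ _ _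
  have hzb : ∀ k, z k ≫ CohB1.thickToBase f I k = p k := fun k => pullback.lift_snd _ _ _
  have hzt : ∀ k, IsPullback (i k) (z k) (z (k + 1)) (CohB1.thickTrans f I k) := fun k => by
    refine IsPullback.of_bot ?_ ?_ (isPullback_thickTrans f I k)
    · rw [hzb, hzb]; exact hcart k
    · apply pullback.hom_ext
      · show (_ ≫ z (k + 1)) ≫ CohB1.thickι f I (k + 1) = (_ ≫ _) ≫ CohB1.thickι f I (k + 1)
        rw [Category.assoc, hzι, Category.assoc, thickTrans_thickι, hzι]
        exact hrt k
      · show (_ ≫ z (k + 1)) ≫ CohB1.thickToBase f I (k + 1) = (_ ≫ _) ≫ CohB1.thickToBase f I (k + 1)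
        rw [Category.assoc, hzb, Category.assoc, (isPullback_thickTrans f I k).w, (hcart k).w,
          ← Category.assoc, hzb]
  have hzc : ∀ k, IsClosedImmersion (z k) := fun k => by
    induction k with
    | zero =>
      have : IsClosedImmersion (z 0 ≫ CohB1.thickι f I 0) := by rw [hzι, hr0]; exact hr₀c
      exact IsClosedImmersion.of_comp (z 0) (CohB1.thickι f I 0)
    | succ k ih =>
      have := surjective_specQuotTrans I k
      have : Surjective (CohB1.thickTrans f I k) :=
        MorphismProperty.of_isPullback (isPullback_thickTrans f I k).flip this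
      have : IsClosedImmersion (CohB1.specQuotTrans I k) := IsClosedImmersion.spec_of_surjective _
        (Ideal.Quotient.factor_surjective (Ideal.pow_le_pow_right (Nat.le_succ (k + 1))))
      have : IsClosedImmersion (CohB1.thickTrans f I k) :=
        MorphismProperty.of_isPullback (isPullback_thickTrans f I k).flip this
      have : Surjective (i k) := hsurj k
      have : IsClosedImmersion (i k) := S.ci k
      have : IsLocallyNoetherian (CohB1.thick f I (k + 1)) :=
        LocallyOfFiniteType.isLocallyNoetherian (CohB1.thickι f I (k + 1) ≫ f)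
      exact FSchLib.isClosedImmersion_of_thickening (FSchLib.ker_of_isPullback (hzt k)) (hzt k).w
  obtain ⟨Y, ι, w, hιc, hY, hwt, hwp⟩ := exists_closedSubscheme (A := A) (I := I)
    (X := CohB1.ProjSpace N A) Xs z i hzc hzt
    (show IsProper (z 0 ≫ CohB1.thickToBase f I 0) from (hzb 0).symm ▸ hp)
  let g := ι ≫ f
  let _ : Y.Over (Spec (CommRingCat.of A)) := ⟨g⟩
  have : IsProper (Y ↘ Spec (CommRingCat.of A)) := hY
  have hpb : ∀ k, IsPullback (w k) (p k) g (CohB1.specQuot I k) := fun k => by
    rw [← hzb k]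
    exact (hwp k).paste_vert (IsPullback.of_hasPullback f (CohB1.specQuot I k))
  have hwc : ∀ k, IsClosedImmersion (w k) := fun k =>
    MorphismProperty.of_isPullback (hpb k).flip (isClosedImmersion_specQuot I k)
  have : IsLocallyNoetherian Y := LocallyOfFiniteType.isLocallyNoetherian g
  have hws : ∀ k, w k ≫ g = S.s k := fun k => (hpb k).w
  have hLc : ∀ k, Coh.IsCoh (Ls.F k) := fun k => by
    have : IsLocallyNoetherian (S.X k) := LocallyOfFiniteType.isLocallyNoetherian (w k)
    exact isCoh_of_isInvertible (hL k)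
  have hG := isCohFormal_modSys (S := S) Ls w (fun k => (hwt k).symm) hws hLc
  obtain ⟨M, hM, ⟨e⟩⟩ := algebraizable_of_proper (I := I) Y _ hG
  have hMk : ∀ k, Nonempty ((Scheme.Modules.pullback (w k)).obj M ≅ L k) := fun k =>
    nonempty_pull_iso_of_completion (S := S) Ls w (fun k => (hwt k).symm) hws e k
  have hju : ∀ k, S.j k ≫ w k = w 0 := fun k => by
    induction k with
    | zero => exact Category.id_comp _
    | succ k ih => rw [AdicSys.j_succ, Category.assoc]; exact (congrArg (_ ≫ ·) (hwt k).symm).trans ih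
  have hjs : ∀ k, Surjective (S.j k) := fun k => by
    induction k with
    | zero => exact inferInstanceAs (Surjective (𝟙 (S.X 0)))
    | succ k ih =>
      have := hsurj k
      exact inferInstanceAs (Surjective (S.j k ≫ S.i k))
  have hMi : PicF.IsInvertible M := isInvertible_of_levels (I := I) w
    (fun k => mem_openIdeal_pow_of_isPullback I k (hpb k))
    (fun y hy => mem_range_of_isPullback_specQuot I 0 (hpb 0) hy)
    (fun k => by
      rw [← hju k, Scheme.Hom.comp_base, TopCat.coe_comp, Set.range_comp]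
      have := hjs k
      exact (congrArg (w k '' ·) (S.j k).surjective.range_eq).trans Set.image_univ)
    S.j hju hM fun k => glocus_isInvertible_of_iso (hMk k).some.symm (hL k)
  refine ⟨Y, g, M, w, hY, hMi, ?_, hpb, hwt, hMk⟩
  exact isAmple_of_special hMi (w 0) (p 0) (hpb 0) (isAmple_of_iso (hMk 0).some.symm ha)

end Groth.Agent.Coherent.Existence
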