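import Groth.Agent.Coherent.FormalFunctions
import Groth.Agent.Coherent.Serre.FormalKernels
import Mathlib.CategoryTheory.Functor.OfSequence

/-!
# Completions as formal modules
-/

set_option autoImplicit false
set_option backward.isDefEq.respectTransparency false

universe u

open CategoryTheory CategoryTheory.Limits AlgebraicGeometry Opposite TopologicalSpace
open Groth.Agent.Coherent

namespace Groth.Agent.Coherent.Existence

variable {A : Type u} [CommRing A] {X : Scheme.{u}} [X.Over (Spec (CommRingCat.of A))] (I : Ideal A)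

theorem killedBy_modPow (n : ℕ) (M : X.Modules) : Formal.KilledBy (I ^ n) (Formal.modPow I n M) :=
  fun a ha => by
    have : Epi (Formal.modPowπ I n M) := by unfold Formal.modPowπ; infer_instance
    rw [← cancel_epi (Formal.modPowπ I n M), comp_zero, ← Serre.smulMod_natural,
      smulMod_modPowπ I M ha]

instance (n : ℕ) (M : X.Modules) : Epi (Formal.modPowπ I n M) := by
  unfold Formal.modPowπ; infer_instance

theorem killedBy_of_le {K K' : Ideal A} (h : K ≤ K') {M : X.Modules} (hM : Formal.KilledBy K' M) :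
    Formal.KilledBy K M := fun a ha => hM a (h ha)

/-- Maps out of `M/I^n M`. -/
noncomputable def modPowDesc {n : ℕ} {M G : X.Modules} (g : M ⟶ G) (hG : Formal.KilledBy (I ^ n) G) :
    Formal.modPow I n M ⟶ G :=
  cokernel.desc _ g (Sigma.hom_ext _ _ fun c => by
    rw [comp_zero, ← Category.assoc, Serre.ι_smulFamily, Serre.smulMod_natural, hG c c.2, comp_zero])

theorem π_modPowDesc {n : ℕ} {M G : X.Modules} (g : M ⟶ G) (hG : Formal.KilledBy (I ^ n) G) :
    Formal.modPowπ I n M ≫ modPowDesc I g hG = g :=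
  cokernel.π_desc _ _ _

/-- Functoriality of `M/I^n M`. -/
noncomputable def modPowMap (n : ℕ) {M N : X.Modules} (f : M ⟶ N) :
    Formal.modPow I n M ⟶ Formal.modPow I n N :=
  modPowDesc I (f ≫ Formal.modPowπ I n N) (killedBy_modPow I n N)

theorem π_modPowMap (n : ℕ) {M N : X.Modules} (f : M ⟶ N) :
    Formal.modPowπ I n M ≫ modPowMap I n f = f ≫ Formal.modPowπ I n N :=
  π_modPowDesc _ _ _

theorem completion_map_succ (M : X.Modules) (n : ℕ) :
    (Formal.completion I M).map (homOfLE (Nat.le_succ n)).op = Formal.modPowTrans I (n + 1) M :=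
  Functor.ofOpSequence_map_homOfLE_succ _ _

/-- A completion is a coherent formal module. -/
theorem isCohFormal_completion [IsNoetherianRing A] [IsLocallyNoetherian X] {M : X.Modules}
    (hM : Coh.IsCoh M) : Formal.IsCohFormal I (Formal.completion I M) := by
  refine ⟨fun n => isCoh_modPow I hM (n + 1), fun n => killedBy_modPow I (n + 1) M, fun n => ?_⟩
  rw [completion_map_succ]
  change ∃ h : Formal.smulFamily (I ^ (n + 1)) (Formal.modPow I (n + 2) M) ≫ Formal.modPowTrans I (n + 1) M = 0,
    IsIso (cokernel.desc _ _ h)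
  have h : Formal.smulFamily (I ^ (n + 1)) (Formal.modPow I (n + 2) M) ≫
      Formal.modPowTrans I (n + 1) M = 0 := by
    refine Sigma.hom_ext _ _ fun c => ?_
    rw [comp_zero, ← Category.assoc, Serre.ι_smulFamily, Serre.smulMod_natural,
      killedBy_modPow I (n + 1) M c c.2, comp_zero]
  refine ⟨h, ?_⟩
  let back : Formal.modPow I (n + 1) M ⟶
      cokernel (Formal.smulFamily (I ^ (n + 1)) (Formal.modPow I (n + 2) M)) :=
    modPowDesc I (Formal.modPowπ I (n + 2) M ≫ cokernel.π _) fun c hc => by
      rw [← cancel_epi (cokernel.π (Formal.smulFamily (I ^ (n + 1)) (Formal.modPow I (n + 2) M))),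
        comp_zero, ← Serre.smulMod_natural, ← Serre.ι_smulFamily (I ^ (n + 1)) _ ⟨c, hc⟩,
        Category.assoc, cokernel.condition, comp_zero]
  refine ⟨back, ?_, ?_⟩
  · rw [← cancel_epi (cokernel.π _), cokernel.π_desc_assoc, Category.comp_id,
      ← cancel_epi (Formal.modPowπ I (n + 2) M), ← Category.assoc, Formal.modPowπ_trans, π_modPowDesc]
  · rw [← cancel_epi (Formal.modPowπ I (n + 1) M), ← Category.assoc, π_modPowDesc, Category.assoc,
      cokernel.π_desc, Formal.modPowπ_trans, Category.comp_id]

variable {I}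

/-- Nakayama for formal modules: a map onto the bottom level of compatible maps is onto. -/
theorem epi_of_epi_bottom {G : ℕᵒᵖ ⥤ X.Modules} (hG : Formal.IsCohFormal I G) {M : X.Modules}
    (f : ∀ n, M ⟶ G.obj (op n)) (hf : ∀ n, f (n + 1) ≫ Serre.tr G n = f n) (h0 : Epi (f 0)) :
    ∀ n, Epi (f n)
  | 0 => h0
  | n + 1 => by
    have := epi_of_epi_bottom hG f hf h0 n
    have hex := Serre.exact_smulFamily_tr hG n
    have := Serre.epi_tr hG n
    have key : ∀ {Z : X.Modules} (g : G.obj (op (n + 1)) ⟶ Z), f (n + 1) ≫ g = 0 →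
        (∀ c ∈ I ^ (n + 1), Formal.smulMod A (G.obj (op (n + 1))) c ≫ g = 0) → g = 0 := by
      intro Z g hg hc
      obtain ⟨g', hg'⟩ : ∃ g', Serre.tr G n ≫ g' = g := ⟨hex.desc g (Sigma.hom_ext _ _ fun c => by
        rw [comp_zero, ← Category.assoc, Serre.ι_smulFamily, hc c c.2]), hex.g_desc _ _⟩
      have : g' = 0 := by
        rw [← cancel_epi (f n), comp_zero, ← hf n, Category.assoc, hg', hg]
      rw [← hg', this, comp_zero]
    refine Preadditive.epi_of_cancel_zero _ fun g hg => key g hg fun c hc => ?_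
    refine key _ ?_ fun d hd => ?_
    · rw [← Category.assoc, ← Serre.smulMod_natural, Category.assoc, hg, comp_zero]
    · rw [← Category.assoc, ← smulMod_mul, hG.2.1 (n + 1) (c * d) ?_, zero_comp]
      exact Ideal.pow_le_pow_right (by omega : n + 1 + 1 ≤ n + 1 + (n + 1))
        (by rw [pow_add]; exact Ideal.mul_mem_mul hc hd)

end Groth.Agent.Coherent.Existence
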