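import Groth.Agent.Coherent.Existence.TwoStep
import Groth.Agent.AdicRing.System
import Groth.Agent.AdicRing.ComplHom

/-!
# The module of sections of a coherent formal module on an affine open

It is a finite module over the completion of the ring of the open.
-/

set_option autoImplicit false
set_option backward.isDefEq.respectTransparency false

universe u

open CategoryTheory CategoryTheory.Limits AlgebraicGeometry Opposite TopologicalSpace
open Groth.Agent.Coherent Groth.Agent.Coherent.Serre

namespace Groth.Agent.Coherent.Existence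

variable {A : Type u} [CommRing A] {X : Scheme.{u}} [X.Over (Spec (CommRingCat.of A))] {I : Ideal A}
  {G : ℕᵒᵖ ⥤ X.Modules} (hG : Formal.IsCohFormal I G) (U : X.Opens)

/-- The completed ring of an open. -/
abbrev Cpl (I : Ideal A) (U : X.Opens) : Type u := AdicCompletion (openIdeal I U) Γ(X, U)

/-- Its ideal of definition. -/
noncomputable abbrev cplIdeal (I : Ideal A) (U : X.Opens) : Ideal (Cpl I U) :=
  (openIdeal I U).map (algebraMap Γ(X, U) (Cpl I U))

include hG in
theorem openIdeal_smul_eq_zero (n : ℕ) {r : Γ(X, U)} (hr : r ∈ openIdeal I U ^ (n + 1))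
    (x : Γ(G.obj (op n), U)) : r • x = 0 := by
  rw [openIdeal, ← Ideal.map_pow] at hr
  induction hr using Submodule.span_induction generalizing x with
  | mem r hr =>
    obtain ⟨a, ha, rfl⟩ := hr
    have h := congrArg (fun ψ : G.obj (op n) ⟶ G.obj (op n) => ψ.app U x) (hG.2.1 n a ha)
    dsimp only at h
    rw [smulMod_app] at h
    exact h
  | zero => rw [zero_smul]
  | add a b _ _ ha hb => rw [add_smul, ha, hb, add_zero]
  | smul c a _ ha => rw [smul_eq_mul, mul_smul, ha, smul_zero]

/-- A level, as a module over the completed ring. -/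
def Lev (_ : Formal.IsCohFormal I G) (U : X.Opens) (n : ℕ) : Type u := Γ(G.obj (op n), U)

noncomputable instance (n : ℕ) : AddCommGroup (Lev hG U n) :=
  inferInstanceAs (AddCommGroup Γ(G.obj (op n), U))

noncomputable instance (n : ℕ) : Module Γ(X, U) (Lev hG U n) :=
  inferInstanceAs (Module Γ(X, U) Γ(G.obj (op n), U))

theorem lev_torsion (n : ℕ) :
    Module.IsTorsionBySet Γ(X, U) (Lev hG U n) ((openIdeal I U ^ (n + 1) : Ideal Γ(X, U)) : Set Γ(X, U)) :=
  fun x r => openIdeal_smul_eq_zero hG U n r.2 x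

noncomputable instance (n : ℕ) : Module (Cpl I U) (Lev hG U n) :=
  letI := (lev_torsion hG U n).module
  Module.compHom _ (AdicCompletion.evalₐ (openIdeal I U) (n + 1)).toRingHom

theorem cpl_smul_eq {n : ℕ} {c : Cpl I U} {s : Γ(X, U)}
    (h : AdicCompletion.evalₐ (openIdeal I U) (n + 1) c = Ideal.Quotient.mk _ s) (x : Lev hG U n) :
    c • x = s • x := by
  letI := (lev_torsion hG U n).module
  show AdicCompletion.evalₐ (openIdeal I U) (n + 1) c • x = s • x
  rw [h]
  exact (lev_torsion hG U n).mk_smul s x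

instance (n : ℕ) : IsScalarTower Γ(X, U) (Cpl I U) (Lev hG U n) :=
  IsScalarTower.of_algebraMap_smul fun r x =>
    cpl_smul_eq hG U (FSchLib.evalₐ_algebraMap _ _ _) x

theorem exists_lift_evalₐ (c : Cpl I U) (n : ℕ) : ∃ s : Γ(X, U),
    AdicCompletion.evalₐ (openIdeal I U) (n + 1) c = Ideal.Quotient.mk _ s ∧
      AdicCompletion.evalₐ (openIdeal I U) (n + 1 + 1) c = Ideal.Quotient.mk _ s := by
  obtain ⟨f, rfl⟩ := AdicCompletion.mk_surjective (openIdeal I U) Γ(X, U) c
  refine ⟨f.val (n + 1 + 1), ?_, AdicCompletion.evalₐ_mk _ _ _⟩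
  rw [AdicCompletion.evalₐ_mk, Ideal.Quotient.eq]
  have := (SModEq.sub_mem).1 (f.2 (Nat.le_succ (n + 1)))
  rwa [smul_eq_mul, Ideal.mul_top] at this

/-- The transition map between levels. -/
noncomputable def levTr (n : ℕ) : Lev hG U (n + 1) →ₗ[Cpl I U] Lev hG U n where
  toFun x := (tr G n).app U x
  map_add' := map_add _
  map_smul' c x := by
    obtain ⟨s, h₁, h₂⟩ := exists_lift_evalₐ U c n
    rw [RingHom.id_apply, cpl_smul_eq hG U h₂, cpl_smul_eq hG U h₁]
    exact Scheme.Modules.Hom.app_smul _ s _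

/-- Compatible families of sections. -/
noncomputable def lim : Submodule (Cpl I U) (∀ n, Lev hG U n) where
  carrier := {y | ∀ n, levTr hG U n (y (n + 1)) = y n}
  zero_mem' n := map_zero _
  add_mem' {a b} ha hb n := by rw [Pi.add_apply, map_add, ha, hb]; rfl
  smul_mem' c a ha n := by rw [Pi.smul_apply, map_smul, ha]; rfl

theorem lim_trLE (x : lim hG U) {n k : ℕ} (h : n ≤ k) :
    (trLE G h).app U (x.1 k) = x.1 n := by
  induction k, h using Nat.le_induction with
  | base => rw [trLE_refl]; rfl
  | succ k hk ih =>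
    rw [trLE_succ G hk, comp_app_eq]
    exact (congrArg _ (x.2 k)).trans ih

variable [IsLocallyNoetherian X] [IsNoetherianRing A] (hU : IsAffineOpen U)

include hU hG in
theorem tr_app_surjective (n : ℕ) : Function.Surjective ((tr G n).app U) := by
  have := epi_tr hG n
  have := (hG.1 n).1
  have := (hG.1 (n + 1)).1
  exact app_surjective_of_epi _ hU

include hU hG in
theorem tr_app_eq_zero_iff (n : ℕ) (x : Γ(G.obj (op (n + 1)), U)) :
    (tr G n).app U x = 0 ↔
      x ∈ openIdeal I U ^ (n + 1) • (⊤ : Submodule Γ(X, U) Γ(G.obj (op (n + 1)), U)) := by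
  have := (hG.2.2 n).choose_spec
  let d := cokernel.desc _ _ (smulFamily_tr hG n)
  have hd : Formal.modPowπ I (n + 1) (G.obj (op (n + 1))) ≫ d = tr G n := cokernel.π_desc _ _ _
  rw [← modPowπ_app_eq_zero_iff I (hG.1 (n + 1)) (n + 1) hU, ← hd, comp_app_eq]
  refine ⟨fun h => app_injective_of_mono d U (h.trans (map_zero (d.app U).hom).symm), fun h => ?_⟩
  exact (congrArg (d.app U) h).trans (map_zero _)

include hU in
theorem ker_levTr (n : ℕ) :
    LinearMap.ker (levTr hG U n) = cplIdeal I U ^ (n + 1) • (⊤ : Submodule (Cpl I U) (Lev hG U (n + 1))) := by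
  have := IsLocallyNoetherian.component_noetherian (X := X) ⟨U, hU⟩
  refine le_antisymm (fun x hx => ?_) (Submodule.smul_le.2 fun c hc x _ => ?_)
  · have h := (tr_app_eq_zero_iff hG U hU n x).1 (show levTr hG U n x = 0 from LinearMap.mem_ker.1 hx)
    refine Submodule.smul_induction_on
      (p := fun z : Lev hG U (n + 1) => z ∈ cplIdeal I U ^ (n + 1) • (⊤ : Submodule (Cpl I U) _))
      h (fun r hr y _ => ?_) fun a b => add_mem
    have e : algebraMap Γ(X, U) (Cpl I U) r • (show Lev hG U (n + 1) from y) =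
        r • (show Lev hG U (n + 1) from y) := IsScalarTower.algebraMap_smul _ r _
    refine (congrArg (· ∈ _) e).mp (Submodule.smul_mem_smul ?_ trivial)
    rw [cplIdeal, ← Ideal.map_pow]
    exact Ideal.mem_map_of_mem _ hr
  · rw [LinearMap.mem_ker, map_smul]
    have hc' : AdicCompletion.evalₐ (openIdeal I U) (n + 1) c = Ideal.Quotient.mk _ 0 := by
      have : c ∈ RingHom.ker (AdicCompletion.evalₐ (openIdeal I U) (n + 1)).toRingHom :=
        (FSchLib.ker_evalₐ _ (IsNoetherian.noetherian _) (n + 1)).ge hc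
      rw [map_zero]
      exact this
    rw [cpl_smul_eq hG U hc', zero_smul]

include hU in
/-- The limit, as a limit of an adic system. -/
noncomputable def adicLimit :
    AdicRing.AdicLimit (cplIdeal I U) (fun n => Lev hG U n) (lim hG U) where
  f := levTr hG U
  surj_f := tr_app_surjective hG U hU
  ker_f := ker_levTr hG U hU
  π n := (LinearMap.proj n).comp (lim hG U).subtype
  comp_π n := LinearMap.ext fun x => x.2 n
  joint_inj x hx := Subtype.ext (funext hx)
  lift y hy := ⟨⟨y, hy⟩, fun _ => rfl⟩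

include hU in
omit [IsNoetherianRing A] in
theorem isNoetherianRing_cpl : IsNoetherianRing (Cpl I U) := by
  have := IsLocallyNoetherian.component_noetherian (X := X) ⟨U, hU⟩
  exact AdicRing.isNoetherianRing_completion _ (IsNoetherian.noetherian _)

include hU in
omit [IsNoetherianRing A] in
theorem isAdicComplete_cpl : IsAdicComplete (cplIdeal I U) (Cpl I U) := by
  have := IsLocallyNoetherian.component_noetherian (X := X) ⟨U, hU⟩
  exact AdicCompletion.isAdicComplete_self _ (IsNoetherian.noetherian _)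

include hU in
theorem finite_lim_and_ker : Module.Finite (Cpl I U) (lim hG U) ∧
    ∀ n (x : lim hG U), x.1 n = 0 ↔
      x ∈ cplIdeal I U ^ (n + 1) • (⊤ : Submodule (Cpl I U) (lim hG U)) := by
  have := isAdicComplete_cpl (I := I) U hU
  have : Module.Finite Γ(X, U) (Lev hG U 0) := ((isCoh_iff_finite_sections _).1 (hG.1 0)).2 U hU
  obtain ⟨hf, hk⟩ := (adicLimit hG U hU).finite_and_ker
    (Module.Finite.of_restrictScalars_finite Γ(X, U) (Cpl I U) (Lev hG U 0))
  exact ⟨hf, fun n x => by rw [← hk n, LinearMap.mem_ker]; rfl⟩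

include hU in
theorem lim_proj_surjective (n : ℕ) (a : Γ(G.obj (op n), U)) : ∃ x : lim hG U, x.1 n = a :=
  (adicLimit hG U hU).surjective_π n a

variable {H K : ℕᵒᵖ ⥤ X.Modules} (hH : Formal.IsCohFormal I H) (hK : Formal.IsCohFormal I K)
  {f : ∀ n, G.obj (op n) ⟶ H.obj (op n)} (hf : Compat f)
  {g : ∀ n, G.obj (op n) ⟶ K.obj (op n)} (hg : Compat g)

omit [IsLocallyNoetherian X] [IsNoetherianRing A] in
include hf in
/-- The map of limits. -/
noncomputable def limMap : lim hG U →ₗ[Cpl I U] lim hH U where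
  toFun x := ⟨fun n => (f n).app U (x.1 n), fun n => by
    show (tr H n).app U ((f (n + 1)).app U (x.1 (n + 1))) = (f n).app U (x.1 n)
    rw [← comp_app_eq, ← app_congr (hf n), comp_app_eq]
    exact congrArg _ (x.2 n)⟩
  map_add' x y := Subtype.ext (funext fun n => map_add ((f n).app U).hom _ _)
  map_smul' c x := Subtype.ext (funext fun n => by
    obtain ⟨s, h₁, -⟩ := exists_lift_evalₐ U c n
    show (f n).app U (c • x.1 n) = c • (show Lev hH U n from (f n).app U (x.1 n))
    rw [cpl_smul_eq hG U h₁, cpl_smul_eq hH U h₁]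
    exact Scheme.Modules.Hom.app_smul _ s _)

include hU hf hg in
/-- If two maps of limits are jointly injective, joint kernels die along the transition maps. -/
theorem exists_level_of_injective
    (hinj : ∀ x : lim hG U, limMap hG U hH hf x = 0 → limMap hG U hK hg x = 0 → x = 0) (n : ℕ) :
    ∃ (m : ℕ) (h : n ≤ m), ∀ m' (h' : m ≤ m') (a : Γ(G.obj (op m'), U)), (f m').app U a = 0 →
      (g m').app U a = 0 → (trLE G (h.trans h')).app U a = 0 := by
  have := isNoetherianRing_cpl (I := I) U hU
  have := (finite_lim_and_ker hH U hU).1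
  have := (finite_lim_and_ker hK U hU).1
  let Φ := (limMap hG U hH hf).prod (limMap hG U hK hg)
  have hΦ : Function.Injective Φ := by
    rw [← LinearMap.ker_eq_bot, Submodule.eq_bot_iff]
    intro x hx
    have hx' := LinearMap.mem_ker.1 hx
    exact hinj x (congrArg Prod.fst hx') (congrArg Prod.snd hx')
  obtain ⟨c, hc⟩ := exists_pow_inf_le (cplIdeal I U) (LinearMap.range Φ)
  refine ⟨n + c, Nat.le_add_right _ _, fun m' h' a hfa hga => ?_⟩
  obtain ⟨x, hx⟩ := lim_proj_surjective hG U hU m' a
  have h1 : Φ x ∈ cplIdeal I U ^ (n + 1 + c) • (⊤ : Submodule (Cpl I U) _) := by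
    have hf' := ((finite_lim_and_ker hH U hU).2 m' (limMap hG U hH hf x)).1
      ((congrArg ((f m').app U) hx).trans hfa)
    have hg' := ((finite_lim_and_ker hK U hU).2 m' (limMap hG U hK hg x)).1
      ((congrArg ((g m').app U) hx).trans hga)
    have h2 := Submodule.mem_map_of_mem (f := LinearMap.inl (Cpl I U) _ (lim hK U)) hf'
    have h3 := Submodule.mem_map_of_mem (f := LinearMap.inr (Cpl I U) (lim hH U) _) hg'
    rw [Submodule.map_smul''] at h2 h3
    have h4 := add_mem (Submodule.smul_mono le_rfl le_top h2) (Submodule.smul_mono le_rfl le_top h3)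
    simp only [LinearMap.inl_apply, LinearMap.inr_apply, Prod.mk_add_mk, add_zero, zero_add] at h4
    exact Submodule.smul_mono_left (Ideal.pow_le_pow_right (by omega : n + 1 + c ≤ m' + 1)) h4
  have h5 : Φ x ∈ cplIdeal I U ^ (n + 1) • LinearMap.range Φ := hc (n + 1) ⟨h1, ⟨x, rfl⟩⟩
  rw [LinearMap.range_eq_map, ← Submodule.map_smul''] at h5
  obtain ⟨y, hy, hyx⟩ := h5
  rw [hΦ hyx] at hy
  rw [← hx, lim_trLE hG U x]
  exact ((finite_lim_and_ker hG U hU).2 n x).2 hy

end Groth.Agent.Coherent.Existence
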