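import Groth.Agent.Coherent.Existence.SysKernel
import Groth.Agent.Coherent.Affineness

/-!
# Untwisting maps out of twisted free modules, and lifting them along epimorphisms
-/

set_option autoImplicit false
set_option backward.isDefEq.respectTransparency false

universe u

open CategoryTheory CategoryTheory.Limits AlgebraicGeometry Opposite TopologicalSpace
open Groth.Agent.Coherent Groth.Agent.PicLib Groth.Agent.AmpleLib

namespace Groth.Agent.Coherent.Existence

variable {X : Scheme.{u}}

theorem unit_hom_ext {M : X.Modules} {φ ψ : Coh.structureModule X ⟶ M}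
    (h : unitVal φ ⊤ = unitVal ψ ⊤) : φ = ψ := by
  refine Scheme.Modules.hom_ext _ _ fun U => ?_
  ext r
  show φ.app U r = ψ.app U r
  rw [app_unit, app_unit, ← resM_unitVal φ (le_top : U ≤ ⊤), h, resM_unitVal]

variable {L P : X.Modules} (hL : PicF.IsInvertible L)
  (e : CohB1.tensorMod L P ≅ Coh.structureModule X)

include hL in
/-- The contraction `(F ⊗ L) ⊗ P → F`. -/
noncomputable def contract (F : X.Modules) : CohB1.tensorMod (CohB1.tensorMod F L) P ⟶ F :=
  (exists_assocHom F P hL).choose ≫ tensorMap (𝟙 F) e.hom ≫ (tensorComm _ _).hom ≫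
    (unitTensorIso F).hom

theorem contract_tmul (F : X.Modules) (U : X.Opens) (a : Γ(F, U)) (b : Γ(L, U)) (w : Γ(P, U)) :
    (contract hL e F).app U (tmul (tmul a b) w) =
      (show Γ(X, U) from e.hom.app U (tmul b w)) • a := by
  show (unitTensorIso F).hom.app U ((tensorComm _ _).hom.app U ((tensorMap (𝟙 F) e.hom).app U
    ((exists_assocHom F P hL).choose.app U (tmul (tmul a b) w)))) = _
  rw [(exists_assocHom F P hL).choose_spec, tensorMap_tmul]
  refine (congrArg ((unitTensorIso F).hom.app U) (Bilin.desc_tmul _ U _ _)).trans ?_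
  exact Bilin.desc_tmul _ U _ _

theorem contract_natural {F F' : X.Modules} (φ : F ⟶ F') :
    tensorMap (tensorMap φ (𝟙 L)) (𝟙 P) ≫ contract hL e F' = contract hL e F ≫ φ := by
  refine AmpleLib.hom_ext fun U z w => ?_
  simp only [comp_app_eq, tensorMap_tmul]
  revert w
  refine induction_local (P := fun U z => ∀ w : Γ(P, U), (contract hL e F').app U
    (tmul ((tensorMap φ (𝟙 L)).app U z) ((𝟙 P : P ⟶ P).app U w)) =
      φ.app U ((contract hL e F).app U (tmul z w))) ?_ ?_ ?_ ?_ U z
  · intro U z z' hz hz' w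
    rw [map_add, tmul_add_left, map_add, hz, hz', tmul_add_left, map_add, map_add]
  · intro U w
    rw [map_zero, tmul_zero_left, map_zero, tmul_zero_left, map_zero, map_zero]
  · intro U z h w
    refine sec_ext _ _ _ fun y hy => ?_
    obtain ⟨W, hW, hyW, hWz⟩ := h y hy
    refine ⟨W, hW, hyW, ?_⟩
    rw [← app_resM, resM_tmul, ← app_resM, ← app_resM, ← app_resM, ← app_resM, resM_tmul, hWz]
  · intro U a b w
    rw [tensorMap_tmul, contract_tmul, contract_tmul, Scheme.Modules.Hom.app_smul]
    rfl

theorem epi_contract (F : X.Modules) : Epi (contract hL e F) := by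
  refine epi_of_locally_surjective _ fun W a y hy => ?_
  have hP : PicF.IsInvertible P := MorProj.isInvertible_of_tensor_iso (tensorComm _ _ ≪≫ e)
  obtain ⟨U, hyU, g, hg⟩ := exists_isGen hL y
  obtain ⟨V, hyV, w, hw⟩ := exists_isGen hP y
  let W' := W ⊓ (U ⊓ V)
  have h1 : W' ≤ U := inf_le_right.trans inf_le_left
  have h2 : W' ≤ V := inf_le_right.trans inf_le_right
  have hgen := isGen_map_iso e (isGen_tmul (hg.restrict h1) (hw.restrict h2))
  obtain ⟨r, hr⟩ := (hgen W' le_rfl).2 (AmpleLib.oneSec W')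
  rw [resM_self] at hr
  refine ⟨W', inf_le_left, ⟨hy, hyU, hyV⟩,
    tmul (tmul (r • resM F inf_le_left a) (resM L h1 g)) (resM P h2 w), ?_⟩
  rw [contract_tmul, ← mul_smul]
  refine Eq.trans ?_ (one_smul Γ(X, W') _)
  refine congrArg (· • resM F inf_le_left a) ?_
  rw [mul_comm]
  exact hr

/-- Maps out of free modules lift along epimorphisms with acyclic kernel. -/
theorem exists_lift_free {J : Type u} {M' M : X.Modules} (q : M' ⟶ M) [Epi q]
    (h : Subsingleton (Sheaf.H' (Coh.toAb (CohB1.tensorMod (kernel q) L)) 1 (⊤ : X.Opens)))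
    (hL : PicF.IsInvertible L) (s : freeMod X J ⟶ CohB1.tensorMod M L) :
    ∃ s' : freeMod X J ⟶ CohB1.tensorMod M' L, s' ≫ tensorMap q (𝟙 L) = s := by
  have hsurj := sections_top_surjective_of_subsingleton
    (EulerLib.twistSeq_shortExact hL (Serre.kerSeqEpi_shortExact q)) h
  choose y hy using fun j => hsurj (unitVal (freeInj j ≫ s) ⊤)
  refine ⟨freeDesc fun j => unitDesc _ (y j), freeMod_hom_ext fun j => unit_hom_ext ?_⟩
  rw [← Category.assoc, freeInj_freeDesc]
  refine Eq.trans ?_ (hy j)
  show (tensorMap q (𝟙 L)).app ⊤ (unitVal (unitDesc _ (y j)) ⊤) = _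
  rw [unitVal_unitDesc, resM_self]
  rfl

end Groth.Agent.Coherent.Existence
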