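import Groth.Agent.Coherent.Existence.Contract
import Groth.Agent.Coherent.Existence.FullFaithful
import Groth.Agent.Coherent.Serre.Vanishing
import Groth.Agent.VarietyLib.Dual

/-!
# Algebraization of coherent formal modules over a proper scheme with an ample module
-/

set_option autoImplicit false
set_option backward.isDefEq.respectTransparency false

universe u

open CategoryTheory CategoryTheory.Limits AlgebraicGeometry Opposite TopologicalSpace
open Groth.Agent.Coherent Groth.Agent.PicLib Groth.Agent.AmpleLib Groth.Agent.Coherent.Serre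

namespace Groth.Agent.Coherent.Existence

/-- Compatible families through given surjections. -/
theorem exists_family (c : ℕ) : ∀ {F : ℕ → Type u} (t : ∀ n, F (n + 1) → F n),
    (∀ n, c ≤ n → Function.Surjective (t n)) → ∀ x : F c,
      ∃ y : ∀ n, F n, (∀ n, t n (y (n + 1)) = y n) ∧ y c = x := by
  induction c with
  | zero =>
    intro F t ht x
    choose z hz using fun n => ht n (Nat.zero_le n)
    exact ⟨fun n => Nat.rec (motive := F) x (fun n y => z n y) n, fun n => hz n _, rfl⟩
  | succ c ih =>
    intro F t ht x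
    obtain ⟨y, hy, hyc⟩ := ih (F := fun n => F (n + 1)) (fun n => t (n + 1))
      (fun n hn => ht (n + 1) (by omega)) x
    exact ⟨fun n => Nat.casesOn (motive := F) n (t 0 (y 0)) y,
      fun n => match n with | 0 => rfl | n + 1 => hy n, hyc⟩

variable {X : Scheme.{u}}

/-- Surjectivity on the opens of an affine cover gives an epimorphism. -/
theorem epi_of_cover_surjective {ι : Type*} (U : ι → X.Opens) (hU : ∀ i, IsAffineOpen (U i))
    (hcov : ∀ x : X, ∃ i, x ∈ U i) {M N : X.Modules} (f : M ⟶ N) [Coh.IsQCoh M] [Coh.IsQCoh N]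
    (h : ∀ i, Function.Surjective (f.app (U i))) : Epi f := by
  have : Coh.IsQCoh (cokernel f) := isQCoh_cokernel f
  refine Preadditive.epi_of_isZero_cokernel f (ModStalk.isZero_of_stalks fun z =>
    (notMem_support_iff _ z).1 fun hmem => hmem (subsingleton_of_forall_eq 0 fun a => ?_))
  obtain ⟨i, hz⟩ := hcov z
  obtain ⟨g, w, hg, hw⟩ := QCohLoc.exists_smul_stalk_eq_germ (cokernel f) (hU i) hz a
  obtain ⟨n, hn⟩ := app_surjective_of_epi (cokernel.π f) (hU i) w
  obtain ⟨m, rfl⟩ := h i n
  have h1 := hw
  rw [← hn, ← comp_app_eq, app_congr (cokernel.condition f)] at h1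
  rw [show (0 : M ⟶ cokernel f).app (U i) m = 0 from rfl, map_zero,
    IsUnit.smul_eq_zero ((Scheme.mem_basicOpen _ _ _ hz).1 hg)] at h1
  exact h1

theorem π_tr_completion {A : Type u} [CommRing A] [X.Over (Spec (CommRingCat.of A))] (I : Ideal A)
    (M : X.Modules) (n : ℕ) :
    Formal.modPowπ I (n + 1 + 1) M ≫ tr (Formal.completion I M) n = Formal.modPowπ I (n + 1) M :=
  (congrArg (Formal.modPowπ I (n + 1 + 1) M ≫ ·) (completion_map_succ I M n)).trans
    (Formal.modPowπ_trans I (n + 1) M)

theorem π_tr_completion_assoc {A : Type u} [CommRing A] [X.Over (Spec (CommRingCat.of A))]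
    (I : Ideal A) (M : X.Modules) (n : ℕ) {Z : X.Modules}
    (k : Formal.modPow I (n + 1) M ⟶ Z) :
    Formal.modPowπ I (n + 1 + 1) M ≫ tr (Formal.completion I M) n ≫ k =
      Formal.modPowπ I (n + 1) M ≫ k :=
  (Category.assoc _ _ _).symm.trans (congrArg (· ≫ k) (π_tr_completion I M n))

variable [IsLocallyNoetherian X]

omit [IsLocallyNoetherian X] in
/-- A system with uniformly acyclic successive kernels is reached, compatibly, from one coherent
module which covers a prescribed level. -/
theorem exists_generation {L : X.Modules} (hL : CohB1.IsAmple L) (M : ℕ → X.Modules)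
    (hM : ∀ n, Coh.IsCoh (M n)) (t : ∀ n, M (n + 1) ⟶ M n) [∀ n, Epi (t n)] {d₀ : ℕ}
    (hV : ∀ n, VanishesFrom L d₀ (kernel (t n))) (c : ℕ) :
    ∃ (E : X.Modules) (h : ∀ n, E ⟶ M n),
      Coh.IsCoh E ∧ (∀ n, h (n + 1) ≫ t n = h n) ∧ Epi (h c) := by
  obtain ⟨hLi, -, -⟩ := isAmple_iff_affGlocus.1 hL
  obtain ⟨N, hN⟩ := exists_epi_free_twist hL (M c) (hM c)
  let d := max N d₀
  let T := CohB1.tensorPow L d
  have hT : PicF.IsInvertible T := isInvertible_tensorPow hLi d
  obtain ⟨P, ⟨e⟩⟩ := VarietyLib.exists_isInverseOf hT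
  have hP : PicF.IsInvertible P := MorProj.isInvertible_of_tensor_iso (tensorComm _ _ ≪≫ e)
  obtain ⟨J, _, π, hπ⟩ := hN d (le_max_left _ _)
  obtain ⟨s, hs, hsc⟩ := exists_family c (F := fun n => (freeMod X J ⟶ CohB1.tensorMod (M n) T))
    (fun n s => s ≫ tensorMap (t n) (𝟙 T))
    (fun n _ s => exists_lift_free (t n) (hV n d (le_max_right _ _) 1 one_pos) hT s) π
  refine ⟨CohB1.tensorMod (freeMod X J) P, fun n => tensorMap (s n) (𝟙 P) ≫ contract hT e (M n),
    ((projSec_freeMod (X := X) J).twist hP).isCoh, fun n => ?_, ?_⟩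
  · rw [Category.assoc, ← contract_natural hT e (t n), ← Category.assoc]
    refine congrArg (· ≫ contract hT e (M n)) (AmpleLib.hom_ext fun U a b => ?_)
    simp only [comp_app_eq, tensorMap_tmul]
    rw [← comp_app_eq (s (n + 1)), app_congr (hs n)]
    rfl
  · show Epi (tensorMap (s c) (𝟙 P) ≫ contract hT e (M c))
    rw [hsc]
    have := EulerLib.epi_tensorMap hP π
    have := epi_contract hT e (M c)
    exact epi_comp _ _

variable {A : Type u} [CommRing A] [IsNoetherianRing A] (I : Ideal A) [IsAdicComplete I A]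
  [X.Over (Spec (CommRingCat.of A))] [IsProper (X ↘ Spec (CommRingCat.of A))]

/-- Algebraization of coherent formal modules, given an ample module. -/
theorem exists_algebraization {L : X.Modules} (hL : CohB1.IsAmple L) {G : ℕᵒᵖ ⥤ X.Modules}
    (hG : Formal.IsCohFormal I G) :
    ∃ M : X.Modules, Coh.IsCoh M ∧ Nonempty (Formal.completion I M ≅ G) := by
  classical
  have : CompactSpace X := QuasiCompact.compactSpace_of_compactSpace (X ↘ Spec (CommRingCat.of A))
  have : X.IsSeparated := isSeparated_of_isProper (X ↘ Spec (CommRingCat.of A))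
  obtain ⟨hLi, -, -⟩ := isAmple_iff_affGlocus.1 hL
  obtain ⟨r, a, hI⟩ := Submodule.fg_iff_exists_fin_generating_family.1 (IsNoetherian.noetherian I)
  have hai : ∀ i, a i ∈ I := fun i => hI.le (Submodule.subset_span ⟨i, rfl⟩)
  -- generators of `G`
  obtain ⟨d₀, hd₀⟩ := exists_uniform_vanishesFrom hLi (exists_vanishesFrom_of_ample A hL) r _
    (isCoh_kernel_tr hG) (fun i k => kerOp hG (hai i) k)
    (fun i j k => kerOp_comm hG (hai i) (hai j) k) (secEG_kerOp hG hai hI)
  have := fun n => epi_tr hG n
  obtain ⟨E, g, hE, hg, hg₀⟩ := exists_generation hL _ hG.1 (tr G) hd₀ 0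
  have hge : ∀ n, Epi (g n) := epi_of_epi_bottom hG g hg hg₀
  -- the kernel
  have hP := isCohFormal_completion I hE
  let f : ∀ n, (Formal.completion I E).obj (op n) ⟶ G.obj (op n) :=
    fun n => modPowDesc I (g n) (hG.2.1 n)
  have hπf : ∀ n, Formal.modPowπ I (n + 1) E ≫ f n = g n := fun n => π_modPowDesc I _ _
  have hf : Compat f := fun n => by
    refine (cancel_epi (Formal.modPowπ I (n + 1 + 1) E)).1 ?_
    refine (π_tr_completion_assoc I E n (f n)).trans ((hπf n).trans ((hg n).symm.trans ?_))
    exact ((Category.assoc _ _ _).symm.trans (congrArg (· ≫ tr G n) (hπf (n + 1)))).symm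
  have he : ∀ n, Epi (f n) := fun n => by
    have := hge n
    exact epi_of_epi_fac (hπf n)
  obtain ⟨d₁, hd₁⟩ := exists_uniform_vanishesFrom hLi (exists_vanishesFrom_of_ample A hL) r _
    (isCoh_kernel_kTr hf hP hG) (fun i k => qOp hf hP hG (hai i) k)
    (fun i j k => qOp_comm hf hP hG (hai i) (hai j) k) (secEG_qOp hf hP hG hai hI)
  obtain ⟨s, hs⟩ := Groth.Agent.H8Top.exists_finite_affine_cover X
  choose b hb using fun i : s => secEG_qOp hf hP hG hai hI i.1.1 i.1.2
  let c := Finset.univ.sup b + 1
  have hKc := fun n => isCoh_kernel_map (f := f) hP hG n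
  have := fun n => epi_kTr hf hP hG he n
  obtain ⟨E', h, hE', hh, hhc⟩ := exists_generation hL _ hKc (kTr hf) hd₁ c
  have hhe : ∀ n, Epi (h n) := by
    have hup : ∀ k, Epi (h (c + k)) := fun k => by
      induction k with
      | zero => exact hhc
      | succ k ih =>
        refine @epi_of_cover_surjective X s (fun i => i.1.1) (fun i => i.1.2)
          (fun x => Opens.mem_iSup.1 (hs.ge (Opens.mem_top x))) _ _ _ hE'.1 (hKc _).1 fun i => ?_
        have hbi : b i ≤ c - 1 + k := (Finset.le_sup (Finset.mem_univ i)).trans (by omega)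
        have e1 : c + (k + 1) = c - 1 + k + 2 := by omega
        have e2 : c + k = c - 1 + k + 1 := by omega
        rw [e1]
        refine epi_succ hf hP hG hai (fun n hn => hb i n hn) h hh hbi ?_
        rw [← e2]
        exact @app_surjective_of_epi X _ _ _ ih hE'.1 (hKc _).1 _ i.1.2
    have hdown : ∀ k n, n + k = c → Epi (h n) := fun k => by
      induction k with
      | zero => intro n hn; rw [show n = c from hn]; exact hhc
      | succ k ih =>
        intro n hn
        have := ih (n + 1) (by omega)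
        rw [← hh n]
        exact epi_comp _ _
    intro n
    rcases le_total n c with hn | hn
    · exact hdown (c - n) n (by omega)
    · obtain ⟨k, rfl⟩ := Nat.exists_eq_add_of_le hn
      exact hup k
  -- the morphism of coherent modules
  let τ : Formal.completion I E' ⟶ Formal.completion I E :=
    NatTrans.ofOpSequence (fun n => modPowDesc I (h n ≫ kernel.ι (f n)) (killedBy_modPow I (n + 1) E))
      fun n => by
        refine (cancel_epi (Formal.modPowπ I (n + 1 + 1) E')).1 ?_
        refine (π_tr_completion_assoc I E' n _).trans ((π_modPowDesc I _ _).trans ?_)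
        rw [← hh n, Category.assoc, kTr_ι]
        refine ((Category.assoc _ _ _).symm.trans (Eq.trans ?_ (Category.assoc _ _ _))).symm
        exact congrArg (· ≫ tr (Formal.completion I E) n) (π_modPowDesc I _ _)
  obtain ⟨φ, hφ, -⟩ := existsUnique_hom I hE' hE τ
  have hφn : ∀ n, φ ≫ Formal.modPowπ I (n + 1) E = h n ≫ kernel.ι (f n) := fun n =>
    (hφ n).symm.trans (π_modPowDesc I (h n ≫ kernel.ι (f n)) (killedBy_modPow I (n + 1) E))
  have hφg : ∀ n, φ ≫ g n = 0 := fun n => by
    rw [← hπf n, ← Category.assoc, hφn n, Category.assoc, kernel.condition, comp_zero]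
  refine ⟨cokernel φ, isCoh_cokernel φ hE'.1 hE, ⟨?_⟩⟩
  let w : ∀ n, Formal.modPow I (n + 1) (cokernel φ) ⟶ G.obj (op n) := fun n =>
    modPowDesc I (cokernel.desc φ (g n) (hφg n)) (hG.2.1 n)
  have hw : ∀ n, modPowMap I (n + 1) (cokernel.π φ) ≫ w n = f n := fun n => by
    rw [← cancel_epi (Formal.modPowπ I (n + 1) E), ← Category.assoc, π_modPowMap, Category.assoc,
      π_modPowDesc, cokernel.π_desc]
    exact (hπf n).symm
  have hiso : ∀ n, IsIso (w n) := fun n => by
    have := he n
    have := hhe n
    have h0 : kernel.ι (f n) ≫ modPowMap I (n + 1) (cokernel.π φ) = 0 := by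
      rw [← cancel_epi (h n), comp_zero, ← Category.assoc, ← hφn n, Category.assoc, π_modPowMap,
        ← Category.assoc, cokernel.condition, zero_comp]
    let v := Abelian.epiDesc (f n) (modPowMap I (n + 1) (cokernel.π φ)) h0
    have hv : f n ≫ v = modPowMap I (n + 1) (cokernel.π φ) := Abelian.comp_epiDesc _ _ _
    have hepi : Epi (modPowMap I (n + 1) (cokernel.π φ)) :=
      epi_of_epi_fac (π_modPowMap I (n + 1) (cokernel.π φ))
    refine ⟨v, ?_, ?_⟩
    · rw [← cancel_epi (modPowMap I (n + 1) (cokernel.π φ)), ← Category.assoc, hw, hv, Category.comp_id]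
    · rw [← cancel_epi (f n), ← Category.assoc, hv, hw, Category.comp_id]
  let η : Formal.completion I (cokernel φ) ⟶ G := NatTrans.ofOpSequence w fun n => by
    refine (cancel_epi (Formal.modPowπ I (n + 1 + 1) (cokernel φ))).1 ?_
    refine (π_tr_completion_assoc I (cokernel φ) n _).trans ((π_modPowDesc I _ _).trans ?_)
    refine Eq.trans ?_ ((congrArg (· ≫ tr G n) (π_modPowDesc I _ _).symm).trans (Category.assoc _ _ _))
    rw [← cancel_epi (cokernel.π φ), cokernel.π_desc, ← Category.assoc, cokernel.π_desc, hg]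
  have : ∀ k, IsIso (η.app k) := fun k => hiso k.unop
  have : IsIso η := NatIso.isIso_of_isIso_app η
  exact asIso η

end Groth.Agent.Coherent.Existence
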