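import Groth.Agent.Coherent.Existence.SysKernel
import Mathlib.CategoryTheory.Abelian.Refinements

/-!
# Essentially injective maps of inverse systems

A compatible family `α` is AR-injective when, for every level, the kernel at some higher level
dies at this level.
-/

set_option autoImplicit false
set_option backward.isDefEq.respectTransparency false

universe u

open CategoryTheory CategoryTheory.Limits AlgebraicGeometry Opposite TopologicalSpace
open Groth.Agent.Coherent Groth.Agent.Coherent.Serre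

namespace Groth.Agent.Coherent.Existence

variable {X : Scheme.{u}}

/-- The transition map between two levels. -/
noncomputable abbrev trLE (G : ℕᵒᵖ ⥤ X.Modules) {n k : ℕ} (h : n ≤ k) :
    G.obj (op k) ⟶ G.obj (op n) :=
  G.map (homOfLE h).op

theorem trLE_refl (G : ℕᵒᵖ ⥤ X.Modules) (n : ℕ) : trLE G (le_refl n) = 𝟙 _ :=
  G.map_id (op n)

theorem trLE_trans (G : ℕᵒᵖ ⥤ X.Modules) {n k m : ℕ} (h : n ≤ k) (h' : k ≤ m) :
    trLE G h' ≫ trLE G h = trLE G (h.trans h') :=
  (G.map_comp (homOfLE h').op (homOfLE h).op).symm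

theorem trLE_succ (G : ℕᵒᵖ ⥤ X.Modules) {n k : ℕ} (h : n ≤ k) :
    trLE G (h.trans (Nat.le_succ k)) = tr G k ≫ trLE G h :=
  (trLE_trans G h (Nat.le_succ k)).symm

variable {G G' H : ℕᵒᵖ ⥤ X.Modules}

theorem Compat.trLE_comp {f : ∀ n, G.obj (op n) ⟶ H.obj (op n)} (hf : Compat f) {n k : ℕ}
    (h : n ≤ k) : trLE G h ≫ f n = f k ≫ trLE H h := by
  induction k, h using Nat.le_induction with
  | base => rw [trLE_refl, trLE_refl, Category.id_comp, Category.comp_id]
  | succ k hk ih =>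
    rw [trLE_succ G hk, trLE_succ H hk, Category.assoc, ih, ← Category.assoc, hf k, Category.assoc]

theorem Compat.comp {K : ℕᵒᵖ ⥤ X.Modules} {f : ∀ n, G.obj (op n) ⟶ H.obj (op n)} (hf : Compat f)
    {g : ∀ n, H.obj (op n) ⟶ K.obj (op n)} (hg : Compat g) : Compat fun n => f n ≫ g n := fun n => by
  rw [← Category.assoc, hf n, Category.assoc, hg n, ← Category.assoc]

theorem compat_id (G : ℕᵒᵖ ⥤ X.Modules) : Compat (P := G) (G := G) fun _ => 𝟙 _ := fun n => by
  rw [Category.comp_id, Category.id_comp]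

/-- The kernels die along the transition maps. -/
def ARMono (f : ∀ n, G.obj (op n) ⟶ H.obj (op n)) : Prop :=
  ∀ n, ∃ (m : ℕ) (h : n ≤ m), kernel.ι (f m) ≫ trLE G h = 0

theorem ARMono.zero_of_comp {f : ∀ n, G.obj (op n) ⟶ H.obj (op n)} (hfc : Compat f) {n m k : ℕ}
    (h : n ≤ m) (h0 : kernel.ι (f m) ≫ trLE G h = 0) (hk : m ≤ k) {T : X.Modules}
    (x : T ⟶ G.obj (op k)) (hx : x ≫ f k = 0) : x ≫ trLE G (h.trans hk) = 0 := by
  have e : (x ≫ trLE G hk) ≫ f m = 0 := by
    rw [Category.assoc, hfc.trLE_comp hk, ← Category.assoc, hx, zero_comp]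
  rw [← trLE_trans G h hk, ← Category.assoc, ← kernel.lift_ι (f m) (x ≫ trLE G hk) e,
    Category.assoc, h0, comp_zero]

theorem ARMono.comp {K : ℕᵒᵖ ⥤ X.Modules} {f : ∀ n, G.obj (op n) ⟶ H.obj (op n)} (hf : ARMono f)
    (hfc : Compat f) {g : ∀ n, H.obj (op n) ⟶ K.obj (op n)} (hg : ARMono g) :
    ARMono fun n => f n ≫ g n := fun n => by
  obtain ⟨m, h, hm⟩ := hf n
  obtain ⟨k, hk, hk'⟩ := hg m
  refine ⟨k, h.trans hk, ?_⟩
  have e : (kernel.ι (f k ≫ g k) ≫ f k) ≫ trLE H hk = 0 := by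
    rw [← kernel.lift_ι (g k) (kernel.ι (f k ≫ g k) ≫ f k)
      (by rw [Category.assoc, kernel.condition]), Category.assoc, hk', comp_zero]
  have e' : (kernel.ι (f k ≫ g k) ≫ trLE G hk) ≫ f m = 0 := by
    rw [Category.assoc, hfc.trLE_comp hk, ← Category.assoc, e]
  rw [← trLE_trans G h hk, ← Category.assoc,
    ← kernel.lift_ι (f m) (kernel.ι (f k ≫ g k) ≫ trLE G hk) e', Category.assoc, hm, comp_zero]

/-- The image of `β` lies in that of `α`, up to the transition maps. -/
def ImageIn (β : ∀ n, G.obj (op n) ⟶ H.obj (op n)) (α : ∀ n, G'.obj (op n) ⟶ H.obj (op n)) : Prop :=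
  ∀ n, ∃ (m : ℕ) (h : n ≤ m), (trLE G h ≫ β n) ≫ cokernel.π (α n) = 0

variable {A : Type u} [CommRing A] [X.Over (Spec (CommRingCat.of A))] {I : Ideal A}

theorem epi_trLE (hG : Formal.IsCohFormal I G) {n k : ℕ} (h : n ≤ k) : Epi (trLE G h) := by
  induction k, h using Nat.le_induction with
  | base => rw [trLE_refl]; infer_instance
  | succ k hk ih =>
    have := epi_tr hG k
    rw [trLE_succ G hk]
    exact epi_comp _ _

/-- Maps to a module killed by `I^(n+1)` factor through level `n`. -/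
theorem exists_desc_trLE (hG : Formal.IsCohFormal I G) {n k : ℕ} (h : n ≤ k) {Z : X.Modules}
    (hZ : Formal.KilledBy (I ^ (n + 1)) Z) (f : G.obj (op k) ⟶ Z) :
    ∃ g : G.obj (op n) ⟶ Z, trLE G h ≫ g = f := by
  induction k, h using Nat.le_induction with
  | base => exact ⟨f, by rw [trLE_refl, Category.id_comp]⟩
  | succ k hk ih =>
    have hex := exact_smulFamily_tr hG k
    have := epi_tr hG k
    have h0 : Formal.smulFamily (I ^ (k + 1)) (G.obj (op (k + 1))) ≫ f = 0 :=
      Sigma.hom_ext _ _ fun c => by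
        rw [comp_zero, ← Category.assoc, ι_smulFamily, smulMod_natural,
          hZ c (Ideal.pow_le_pow_right (by omega : n + 1 ≤ k + 1) c.2), comp_zero]
    obtain ⟨g, hg⟩ : ∃ g, tr G k ≫ g = f := ⟨hex.desc f h0, hex.g_desc _ _⟩
    obtain ⟨g', hg'⟩ := ih g
    exact ⟨g', by rw [trLE_succ G hk, Category.assoc, hg', hg]⟩

variable {α : ∀ n, G'.obj (op n) ⟶ H.obj (op n)} {β : ∀ n, G.obj (op n) ⟶ H.obj (op n)}

/-- Two compatible lifts through an AR-injective family agree. -/
theorem eq_of_comp_eq (hG : Formal.IsCohFormal I G) (hα : ARMono α)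
    {u u' : ∀ n, G.obj (op n) ⟶ G'.obj (op n)} (hu : Compat u) (hu' : Compat u')
    (h : ∀ n, u n ≫ α n = u' n ≫ α n) (n : ℕ) : u n = u' n := by
  obtain ⟨m, hm, h0⟩ := hα n
  have := epi_trLE hG hm
  have e : (u m - u' m) ≫ α m = 0 := by rw [Preadditive.sub_comp, h, sub_self]
  have e2 : (u m - u' m) ≫ trLE G' hm = 0 := by
    rw [← kernel.lift_ι (α m) _ e, Category.assoc, h0, comp_zero]
  rw [Preadditive.sub_comp, sub_eq_zero, ← hu.trLE_comp, ← hu'.trLE_comp, cancel_epi] at e2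
  exact e2

/-- Lifting through an AR-injective family. -/
theorem exists_lift (hG : Formal.IsCohFormal I G)
    (hG' : ∀ n, Formal.KilledBy (I ^ (n + 1)) (G'.obj (op n))) (hαc : Compat α) (hβc : Compat β)
    (hα : ARMono α) (him : ImageIn β α) :
    ∃ u : ∀ n, G.obj (op n) ⟶ G'.obj (op n), Compat u ∧ ∀ n, u n ≫ α n = β n := by
  have key : ∀ n, ∃ (u : G.obj (op n) ⟶ G'.obj (op n)) (k₀ : ℕ),
      ∀ (k : ℕ) (h : n ≤ k), k₀ ≤ k → ∀ {T : X.Modules} (g : T ⟶ G.obj (op k))
        (y : T ⟶ G'.obj (op k)), y ≫ α k = g ≫ β k → g ≫ trLE G h ≫ u = y ≫ trLE G' h := by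
    intro n
    obtain ⟨n₁, hn, h0⟩ := hα n
    obtain ⟨m, hm, him'⟩ := him n₁
    let t := trLE G hm ≫ β n₁
    -- the map at the level `m`
    obtain ⟨l, hl⟩ : ∃ l : G.obj (op m) ⟶ Abelian.image (α n₁), l ≫ Abelian.image.ι _ = t :=
      ⟨kernel.lift _ t him', kernel.lift_ι _ _ _⟩
    have hker : kernel.ι (Abelian.factorThruImage (α n₁)) ≫ trLE G' hn = 0 := by
      have e : kernel.ι (Abelian.factorThruImage (α n₁)) ≫ α n₁ = 0 := by
        conv_lhs => arg 2; rw [← Abelian.image.fac (α n₁)]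
        rw [kernel.condition_assoc, zero_comp]
      rw [← kernel.lift_ι (α n₁) _ e, Category.assoc, h0, comp_zero]
    let d := Abelian.epiDesc (Abelian.factorThruImage (α n₁)) (trLE G' hn) hker
    have hd : Abelian.factorThruImage (α n₁) ≫ d = trLE G' hn := Abelian.comp_epiDesc _ _ _
    obtain ⟨u, hu⟩ := exists_desc_trLE hG (hn.trans hm) (hG' n) (l ≫ d)
    refine ⟨u, m, fun k h hk T g y hy => ?_⟩
    have e : (y ≫ trLE G' (hm.trans hk)) ≫ Abelian.factorThruImage (α n₁) =
        (g ≫ trLE G hk) ≫ l := by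
      rw [← cancel_mono (Abelian.image.ι (α n₁))]
      simp only [Category.assoc, Abelian.image.fac, hl]
      rw [hαc.trLE_comp, ← Category.assoc, hy, Category.assoc, ← hβc.trLE_comp]
      simp only [t]
      rw [← Category.assoc (trLE G hk), trLE_trans]
    rw [show trLE G h = trLE G hk ≫ trLE G (hn.trans hm) from (trLE_trans G _ _).symm,
      Category.assoc, hu, ← Category.assoc, ← Category.assoc, ← e, Category.assoc, hd,
      Category.assoc, trLE_trans]
  choose u k₀ hu using key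
  -- enough test elements
  have hsec : ∀ n k, n ≤ k → ∃ (T : X.Modules) (g : T ⟶ G.obj (op k)) (y : T ⟶ G'.obj (op k)),
      Epi g ∧ y ≫ α k = g ≫ β k := by
    intro n k _
    obtain ⟨m, hm, h0⟩ := him k
    obtain ⟨T, π, hπ, y, hy⟩ := (Limits.CokernelCofork.IsColimit.comp_π_eq_zero_iff_up_to_refinements
      (cokernelIsCokernel (α k)) (trLE G hm ≫ β k)).1 h0
    have := epi_trLE hG hm
    exact ⟨T, π ≫ trLE G hm, y, epi_comp _ _, by rw [Category.assoc, hy]⟩
  refine ⟨u, fun n => ?_, fun n => ?_⟩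
  · let k := max (n + 1) (max (k₀ n) (k₀ (n + 1)))
    have h1 : n + 1 ≤ k := le_max_left _ _
    have h2 : n ≤ k := (Nat.le_succ n).trans h1
    obtain ⟨T, g, y, hg, hy⟩ := hsec n k h2
    have := epi_trLE hG h1
    rw [← cancel_epi (trLE G h1), ← cancel_epi g]
    show g ≫ trLE G h1 ≫ trLE G (Nat.le_succ n) ≫ u n = g ≫ trLE G h1 ≫ u (n + 1) ≫ trLE G' (Nat.le_succ n)
    rw [← Category.assoc (trLE G h1) (trLE G _), trLE_trans,
      hu n k h2 (le_max_left _ _ |>.trans (le_max_right _ _)) g y hy,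
      ← Category.assoc (trLE G h1), ← Category.assoc g,
      hu (n + 1) k h1 (le_max_right _ _ |>.trans (le_max_right _ _)) g y hy, Category.assoc,
      trLE_trans]
  · let k := max n (k₀ n)
    have h2 : n ≤ k := le_max_left _ _
    obtain ⟨T, g, y, hg, hy⟩ := hsec n k h2
    have := epi_trLE hG h2
    rw [← cancel_epi (trLE G h2), ← cancel_epi g, hβc.trLE_comp, ← Category.assoc g,
      ← Category.assoc (g ≫ trLE G h2)]
    rw [Category.assoc g (trLE G h2), hu n k h2 (le_max_right _ _) g y hy, Category.assoc,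
      hαc.trLE_comp, ← Category.assoc, hy, Category.assoc]

/-- Two coherent formal modules with the same image under AR-injective families are isomorphic. -/
theorem nonempty_iso_of_image (hG : Formal.IsCohFormal I G) (hG' : Formal.IsCohFormal I G')
    (hαc : Compat α) (hβc : Compat β) (hα : ARMono α) (hβ : ARMono β) (h₁ : ImageIn β α)
    (h₂ : ImageIn α β) : Nonempty (G ≅ G') := by
  obtain ⟨u, huc, hu⟩ := exists_lift hG hG'.2.1 hαc hβc hα h₁
  obtain ⟨v, hvc, hv⟩ := exists_lift hG' hG.2.1 hβc hαc hβ h₂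
  have huv : ∀ n, u n ≫ v n = 𝟙 _ := fun n =>
    eq_of_comp_eq hG hβ (huc.comp hvc) (compat_id G)
      (fun n => by rw [Category.assoc, hv, hu, Category.id_comp]) n
  have hvu : ∀ n, v n ≫ u n = 𝟙 _ := fun n =>
    eq_of_comp_eq hG' hα (hvc.comp huc) (compat_id G')
      (fun n => by rw [Category.assoc, hu, hv, Category.id_comp]) n
  let η : G ⟶ G' := NatTrans.ofOpSequence u fun n => huc n
  have : ∀ k, IsIso (η.app k) := fun k => ⟨v k.unop, huv k.unop, hvu k.unop⟩
  have : IsIso η := NatIso.isIso_of_isIso_app η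
  exact ⟨asIso η⟩

end Groth.Agent.Coherent.Existence
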