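import Groth.Agent.Coherent.Existence.KillLemma
import Mathlib.AlgebraicGeometry.Morphisms.Proper

/-!
# Points and charts of a proper birational morphism over a formal affine base
-/

set_option autoImplicit false
set_option backward.isDefEq.respectTransparency false

universe u

open CategoryTheory CategoryTheory.Limits AlgebraicGeometry Opposite TopologicalSpace
open TensorProduct

namespace Groth.Agent.Coherent.Existence

theorem isPullback_postcomp_mono {C : Type*} [Category C] {P X Y Z Z' : C} {fst : P ⟶ X}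
    {snd : P ⟶ Y} {f : X ⟶ Z} {g : Y ⟶ Z} (h : IsPullback fst snd f g) (i : Z ⟶ Z') [Mono i] :
    IsPullback fst snd (f ≫ i) (g ≫ i) :=
  IsPullback.mk' (by rw [reassoc_of% h.w]) (fun _ _ _ e₁ e₂ => h.hom_ext e₁ e₂) fun _ a b e =>
    have e' : a ≫ f = b ≫ g := (cancel_mono i).1 (by simpa only [Category.assoc] using e)
    ⟨h.lift a b e', h.lift_fst _ _ _, h.lift_snd _ _ _⟩

variable {X X' : Scheme.{u}} (π : X' ⟶ X)

theorem injOn_preimage_of_isIso (W : X.Opens) [IsIso (π ∣_ W)] {z z' : X'} (hz : π z ∈ W)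
    (h : π z' = π z) : z' = z := by
  have hz' : π z' ∈ W := h ▸ hz
  have e : (π ∣_ W) ⟨z', hz'⟩ = (π ∣_ W) ⟨z, hz⟩ :=
    Subtype.ext ((morphismRestrict_base_coe π W ⟨z', hz'⟩).trans
      (h.trans (morphismRestrict_base_coe π W ⟨z, hz⟩).symm))
  exact congrArg Subtype.val ((π ∣_ W).isOpenEmbedding.injective e)

theorem isIso_app_of_le (W : X.Opens) [IsIso (π ∣_ W)] {D : X.Opens} (hD : D ≤ W) :
    IsIso (π.app D) := by
  have h := (inferInstance : IsIso ((π ∣_ W).app (W.ι ⁻¹ᵁ D)))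
  rw [morphismRestrict_app] at h
  have := h
  have hi : IsIso (π.app (W.ι ''ᵁ (W.ι ⁻¹ᵁ D))) := IsIso.of_isIso_comp_right _
    (X'.presheaf.map (eqToHom (image_morphismRestrict_preimage π W (W.ι ⁻¹ᵁ D))).op)
  have e : W.ι ''ᵁ (W.ι ⁻¹ᵁ D) = D := by
    rw [Scheme.Hom.image_preimage_eq_opensRange_inf, Scheme.Opens.opensRange_ι, inf_eq_right.2 hD]
  rwa [e] at hi

variable [UniversallyClosed π] {U : X.Opens} (hU : IsAffineOpen U)

include hU in
/-- Near a point over which `π` is an isomorphism, the chart is a localization of the base. -/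
theorem exists_basicOpen_chart (W : X.Opens) [IsIso (π ∣_ W)] {V : X'.Opens} (hV : IsAffineOpen V)
    (e : V ≤ π ⁻¹ᵁ U) {z : X'} (hz : z ∈ V) (hzW : π z ∈ W) :
    letI := (π.appLE U V e).hom.toAlgebra
    ∃ (g : Γ(X, U)) (_ : Γ(X', V) →ₐ[Γ(X, U)] Localization.Away g),
      π z ∈ X.basicOpen g ∧
        ∀ b : Γ(X', V), ∃ (k : ℕ) (r : Γ(X, U)),
          algebraMap Γ(X, U) Γ(X', V) g ^ k * b = algebraMap Γ(X, U) Γ(X', V) r := by
  let _ := (π.appLE U V e).hom.toAlgebra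
  let O : X.Opens := ⟨(π '' (V : Set X')ᶜ)ᶜ, (π.isClosedMap _ V.isOpen.isClosed_compl).isOpen_compl⟩
  have hO : π z ∈ O := fun ⟨w, hw, hwz⟩ => hw (injOn_preimage_of_isIso π W hzW hwz ▸ hz)
  obtain ⟨g, hg, hxg⟩ := hU.exists_basicOpen_le (V := O ⊓ W) ⟨π z, ⟨hO, hzW⟩⟩ (e hz)
  let D := X.basicOpen g
  have := isIso_app_of_le π W (show D ≤ W from hg.trans inf_le_right)
  have hDV : π ⁻¹ᵁ D ≤ V := fun w hw => by_contra fun hn => (hg hw).1 ⟨w, hn, rfl⟩
  have eg : π ⁻¹ᵁ D = X'.basicOpen (π.appLE U V e g) := by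
    rw [Scheme.basicOpen_appLE]
    exact (inf_eq_right.2 hDV).symm
  let _ : Algebra Γ(X', V) Γ(X', π ⁻¹ᵁ D) := (X'.presheaf.map (homOfLE hDV).op).hom.toAlgebra
  have hloc := hV.isLocalization_of_eq_basicOpen (π.appLE U V e g) (homOfLE hDV) eg
  have := hU.isLocalization_basicOpen g
  let eL : Γ(X, D) ≃ₐ[Γ(X, U)] Localization.Away g :=
    IsLocalization.algEquiv (Submonoid.powers g) _ _
  let σ : Γ(X', V) →+* Γ(X, D) :=
    ((X'.presheaf.map (homOfLE hDV).op) ≫ inv (π.app D)).hom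
  have hσ : ∀ r : Γ(X, U), σ (π.appLE U V e r) = algebraMap Γ(X, U) Γ(X, D) r := fun r => by
    show (inv (π.app D)) (X'.presheaf.map (homOfLE hDV).op (π.appLE U V e r)) = _
    have h1 : X'.presheaf.map (homOfLE hDV).op (π.appLE U V e r) =
        π.app D (X.presheaf.map (homOfLE (X.basicOpen_le g)).op r) := by
      rw [← CommRingCat.comp_apply, ← CommRingCat.comp_apply, Scheme.Hom.appLE_map,
        ← Scheme.Hom.appLE_eq_app, Scheme.Hom.map_appLE]
    rw [h1, ← CommRingCat.comp_apply, IsIso.hom_inv_id]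
    rfl
  let σA : Γ(X', V) →ₐ[Γ(X, U)] Γ(X, D) := { σ with commutes' := hσ }
  refine ⟨g, eL.toAlgHom.comp σA, hxg, fun b => ?_⟩
  obtain ⟨m, r, hr⟩ := IsLocalization.Away.surj (S := Γ(X, D)) g (σ b)
  have h0 : algebraMap Γ(X', V) Γ(X', π ⁻¹ᵁ D) (b * π.appLE U V e g ^ m) =
      algebraMap Γ(X', V) Γ(X', π ⁻¹ᵁ D) (π.appLE U V e r) := by
    have h2 : σ (b * π.appLE U V e g ^ m) = σ (π.appLE U V e r) := by
      rw [map_mul, map_pow, hσ, hσ]; exact hr
    have := congrArg (π.app D) h2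
    exact (ConcreteCategory.congr_hom (IsIso.inv_hom_id (π.app D)) _).symm.trans
      (this.trans (ConcreteCategory.congr_hom (IsIso.inv_hom_id (π.app D)) _))
  obtain ⟨⟨_, k, rfl⟩, hk⟩ := (IsLocalization.eq_iff_exists (Submonoid.powers (π.appLE U V e g)) _).1 h0
  refine ⟨k + m, g ^ k * r, ?_⟩
  show π.appLE U V e g ^ (k + m) * b = (π.appLE U V e).hom (g ^ k * r)
  rw [map_mul, map_pow, pow_add, mul_assoc, mul_comm _ b]
  exact hk

variable (S : Type u) [CommRing S] [Algebra Γ(X, U) S]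

include hU in
/-- A prime of the base and a specialization lift to a common chart. -/
theorem exists_chart_points {q m : Ideal S} [q.IsPrime] [m.IsPrime] (hqm : q ≤ m) (z : X')
    (hz : π z = hU.fromSpec ⟨q.comap (algebraMap Γ(X, U) S), Ideal.IsPrime.comap _⟩) :
    ∃ (V : X'.Opens) (_ : IsAffineOpen V) (e : V ≤ π ⁻¹ᵁ U),
      letI := (π.appLE U V e).hom.toAlgebra
      z ∈ V ∧ ∃ y y₀ : Ideal (S ⊗[Γ(X, U)] Γ(X', V)), y.IsPrime ∧ y₀.IsPrime ∧ y ≤ y₀ ∧
        y.comap (algebraMap S (S ⊗[Γ(X, U)] Γ(X', V))) = q ∧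
        y₀.comap (algebraMap S (S ⊗[Γ(X, U)] Γ(X', V))) = m := by
  let φ : Γ(X, U) ⟶ CommRingCat.of S := CommRingCat.ofHom (algebraMap Γ(X, U) S)
  let g' : Spec (CommRingCat.of S) ⟶ X := Spec.map φ ≫ hU.fromSpec
  let qp : PrimeSpectrum S := ⟨q, inferInstance⟩
  let mp : PrimeSpectrum S := ⟨m, inferInstance⟩
  obtain ⟨a, ha₁, ha₂⟩ := Scheme.Pullback.exists_preimage_pullback (f := π) (g := g') z qp hz
  obtain ⟨a₀, has, ha₀⟩ := (pullback.snd π g').isClosedMap.specializingMap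
    (show pullback.snd π g' a ⤳ (mp : Spec (CommRingCat.of S)) by
      rw [ha₂]; exact (PrimeSpectrum.le_iff_specializes qp mp).1 hqm)
  have hz₀ : π (pullback.fst π g' a₀) ∈ U := by
    rw [← Scheme.Hom.comp_apply, pullback.condition, Scheme.Hom.comp_apply]
    exact hU.range_fromSpec.le ⟨_, (Scheme.Hom.comp_apply (Spec.map φ) hU.fromSpec _).symm⟩
  obtain ⟨V, hV, hz₀V, hVU⟩ := exists_isAffineOpen_mem_and_subset (x := pullback.fst π g' a₀)
    (U := π ⁻¹ᵁ U) hz₀
  refine ⟨V, hV, hVU, ?_⟩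
  let _ := (π.appLE U V hVU).hom.toAlgebra
  let B := Γ(X', V)
  let ψ : Γ(X, U) ⟶ B := CommRingCat.ofHom (algebraMap Γ(X, U) B)
  let inl : CommRingCat.of S ⟶ CommRingCat.of (S ⊗[Γ(X, U)] B) :=
    CommRingCat.ofHom Algebra.TensorProduct.includeLeftRingHom
  let inr : B ⟶ CommRingCat.of (S ⊗[Γ(X, U)] B) :=
    CommRingCat.ofHom Algebra.TensorProduct.includeRight.toRingHom
  have hψ : Spec.map ψ ≫ hU.fromSpec = hV.fromSpec ≫ π := hU.SpecMap_appLE_fromSpec π hV hVU
  have hsq : IsPullback (Spec.map inl) (Spec.map inr) g' (hV.fromSpec ≫ π) :=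
    hψ ▸ isPullback_postcomp_mono
      (isPullback_SpecMap_of_isPushout φ ψ inl inr
        (CommRingCat.isPushout_tensorProduct Γ(X, U) S B)) hU.fromSpec
  let ι : Spec (CommRingCat.of (S ⊗[Γ(X, U)] B)) ⟶ pullback π g' :=
    pullback.lift (Spec.map inr ≫ hV.fromSpec) (Spec.map inl) (by
      rw [Category.assoc]; exact hsq.w.symm)
  have hl : IsPullback ι (Spec.map inr) (pullback.fst π g') hV.fromSpec :=
    IsPullback.of_right (show IsPullback (ι ≫ pullback.snd π g') _ g' _ by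
      rw [pullback.lift_snd]; exact hsq) (pullback.lift_fst _ _ _) (IsPullback.of_hasPullback π g').flip
  have hι : IsOpenImmersion ι := by
    rw [← hl.isoPullback_hom_fst]; infer_instance
  have hrange : ∀ p : ↥(pullback π g'), pullback.fst π g' p ∈ V → ∃ b, ι b = p := fun p hp => by
    obtain ⟨c, hc⟩ := (Scheme.Pullback.range_fst (pullback.fst π g') hV.fromSpec).ge
      (show p ∈ pullback.fst π g' ⁻¹' Set.range hV.fromSpec from hV.range_fromSpec.ge hp)
    refine ⟨hl.isoPullback.inv c, ?_⟩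
    rw [← Scheme.Hom.comp_apply, hl.isoPullback_inv_fst]
    exact hc
  have hzV : pullback.fst π g' a ∈ V :=
    (has.map (pullback.fst π g').continuous).mem_open V.isOpen hz₀V
  obtain ⟨b, hb⟩ := hrange a hzV
  obtain ⟨b₀, hb₀⟩ := hrange a₀ hz₀V
  have hbb : b ⤳ b₀ := ι.isOpenEmbedding.isInducing.specializes_iff.1 (hb.symm ▸ hb₀.symm ▸ has)
  refine ⟨ha₁ ▸ hzV, b.asIdeal, b₀.asIdeal, b.isPrime, b₀.isPrime,
    (PrimeSpectrum.le_iff_specializes b b₀).2 hbb, ?_, ?_⟩
  · have h1 : Spec.map inl b = qp := by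
      rw [show Spec.map inl = ι ≫ pullback.snd π g' from (pullback.lift_snd _ _ _).symm,
        Scheme.Hom.comp_apply]
      exact (congrArg (pullback.snd π g') hb).trans ha₂
    exact congrArg PrimeSpectrum.asIdeal h1
  · have h1 : Spec.map inl b₀ = mp := by
      rw [show Spec.map inl = ι ≫ pullback.snd π g' from (pullback.lift_snd _ _ _).symm,
        Scheme.Hom.comp_apply]
      exact (congrArg (pullback.snd π g') hb₀).trans ha₀
    exact congrArg PrimeSpectrum.asIdeal h1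

end Groth.Agent.Coherent.Existence
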