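import Groth.Agent.Coherent.Existence.StrEmbed

/-!
# A compatible system of closed subschemes of the thickenings comes from a closed subscheme
-/

set_option autoImplicit false
set_option backward.isDefEq.respectTransparency false

universe u

open CategoryTheory CategoryTheory.Limits AlgebraicGeometry Opposite TopologicalSpace
open Groth.Agent.Coherent Groth.Agent.Coherent.Serre

namespace Groth.Agent.Coherent.Existence

variable {A : Type u} [CommRing A] [IsNoetherianRing A] {I : Ideal A} {X : Scheme.{u}}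
  [X.Over (Spec (CommRingCat.of A))]

omit [IsNoetherianRing A] in
theorem comp_thickι_over (n : ℕ) {Z : Scheme.{u}}
    (z : Z ⟶ CohB1.thick (X ↘ Spec (CommRingCat.of A)) I n) :
    (z ≫ CohB1.thickι _ I n) ≫ (X ↘ Spec (CommRingCat.of A)) =
      (z ≫ CohB1.thickToBase _ I n) ≫ CohB1.specQuot I n := by
  rw [Category.assoc, Category.assoc, CohB1.thickι, CohB1.thickToBase, pullback.condition]

section Compat

variable {Z : ℕ → Scheme.{u}} (ζ : ∀ n, Z n ⟶ X) (t : ∀ n, Z n ⟶ Z (n + 1))
  (ht : ∀ n, t n ≫ ζ (n + 1) = ζ n)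

omit [IsNoetherianRing A] [X.Over (Spec (CommRingCat.of A))] in
theorem unitToPush_comp_overHom {P Q : Scheme.{u}} (a : P ⟶ X) (b : Q ⟶ X) (u : P ⟶ Q)
    (h : u ≫ b = a) : ClSub.unitToPush b ≫ overHom a b u h = ClSub.unitToPush a := by
  refine Scheme.Modules.hom_ext _ _ fun U => ?_
  ext (r : Γ(X, U))
  show u.appLE (b ⁻¹ᵁ U) (a ⁻¹ᵁ U) _ (b.app U r) = a.app U r
  subst h
  rw [← CommRingCat.comp_apply, Scheme.Hom.appLE, Scheme.Hom.comp_app]
  simp

variable [IsLocallyNoetherian X] [IsAdicComplete I A]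
  [IsSeparated (X ↘ Spec (CommRingCat.of A))] [LocallyOfFiniteType (X ↘ Spec (CommRingCat.of A))]
  [QuasiCompact (X ↘ Spec (CommRingCat.of A))]

set_option maxHeartbeats 400000 in
include ht in
/-- A module map `O → M`, surjective on affines, reducing to the given quotients. -/
theorem exists_quotient (q : ∀ n, Z n ⟶ Spec (CommRingCat.of (A ⧸ I ^ (n + 1))))
    (hq : ∀ n, ζ n ≫ (X ↘ Spec (CommRingCat.of A)) = q n ≫ CohB1.specQuot I n)
    (hcart : ∀ n, IsPullback (t n) (q n) (q (n + 1)) (CohB1.specQuotTrans I n))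
    [∀ n, IsClosedImmersion (ζ n)] (hp : IsProper (ζ 0 ≫ (X ↘ Spec (CommRingCat.of A)))) :
    ∃ (M : X.Modules) (_ : Coh.IsCoh M) (φ : Coh.structureModule X ⟶ M),
      ClSub.IsProperOver (X ↘ Spec (CommRingCat.of A)) (CohB1.support M) ∧
      ∀ U : X.affineOpens, Function.Surjective (φ.app U.1) ∧
        ∀ n (a : Γ(X, U.1)), (ζ n).app U.1 a = 0 ↔
          φ.app U.1 a ∈ openIdeal I U.1 ^ (n + 1) • (⊤ : Submodule Γ(X, U.1) Γ(M, U.1)) := by
  have : CompactSpace X := QuasiCompact.compactSpace_of_compactSpace (X ↘ Spec (CommRingCat.of A))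
  have : X.IsSeparated := Scheme.IsSeparated.mk (by
    rw [← Limits.terminal.comp_from (X ↘ Spec (CommRingCat.of A))]; infer_instance)
  let G := strSys ζ t ht
  have hG : Formal.IsCohFormal I G := isCohFormal_strSys ζ q hq t ht hcart
  have hs : ClSub.IsProperOver (X ↘ Spec (CommRingCat.of A)) (CohB1.support (G.obj (op 0))) :=
    Et18.IsProperOver.of_subset (Et18.isProperOver_of_isClosedImmersion _ (ζ 0))
      (isClosed_support _ (locallyFinGen_of_isFT _ (hG.1 0).2))
      (support_push_subset (ζ 0) (Coh.structureModule (Z 0)))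
  obtain ⟨M, hM, hMs, ⟨e⟩⟩ := algebraizable_of_properSupport X G hG hs
  let O := Coh.structureModule X
  have hO : Coh.IsCoh O := isCoh_structureModule X
  let ψ : ∀ n, (Formal.completion I O).obj (op n) ⟶ (Formal.completion I M).obj (op n) := fun n =>
    modPowDesc I (ClSub.unitToPush (ζ n) ≫ e.inv.app (op n)) (killedBy_modPow I (n + 1) M)
  have hψ : Compat ψ := fun n => by
    refine (cancel_epi (Formal.modPowπ I (n + 1 + 1) O)).1 ?_
    refine (π_tr_completion_assoc I O n _).trans ((π_modPowDesc I _ _).trans ?_)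
    refine Eq.trans ?_ (Category.assoc _ _ _)
    refine Eq.trans ?_ (congrArg (· ≫ tr (Formal.completion I M) n) (π_modPowDesc I _ _).symm)
    refine Eq.trans ?_ (Category.assoc _ _ _).symm
    refine Eq.trans ?_ (congrArg (ClSub.unitToPush (ζ (n + 1)) ≫ ·) (compat_natTrans e.inv n))
    refine Eq.trans ?_ (Category.assoc _ _ _)
    refine congrArg (· ≫ e.inv.app (op n)) ?_
    rw [tr_strSys]
    exact (unitToPush_comp_overHom (ζ n) (ζ (n + 1)) (t n) (ht n)).symm
  have := finiteOnSupp_of_isProperOver (A := A) (M := internalHom O M)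
    (Et18.IsProperOver.of_subset hMs
      (isClosed_support _ (locallyFinGen_of_isFT _ (isCoh_internalHom hO hM).2))
      (support_internalHom_subset_right O M hMs.choose))
  obtain ⟨φ, hφ⟩ := (existsUnique_hom I hO hM
    (NatTrans.ofOpSequence ψ fun n => hψ n)).exists
  have hφn : ∀ n, φ ≫ Formal.modPowπ I (n + 1) M = ClSub.unitToPush (ζ n) ≫ e.inv.app (op n) :=
    fun n => (hφ n).symm.trans (π_modPowDesc I (ClSub.unitToPush (ζ n) ≫ e.inv.app (op n))
      (killedBy_modPow I (n + 1) M))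
  have hval : ∀ n (U : X.Opens) (a : Γ(X, U)), (Formal.modPowπ I (n + 1) M).app U (φ.app U a) =
      (e.inv.app (op n)).app U ((ζ n).app U a) := fun n U a =>
    ((comp_app_eq φ (Formal.modPowπ I (n + 1) M) U a).symm.trans (app_congr (hφn n) U a)).trans
      (comp_app_eq (ClSub.unitToPush (ζ n)) (e.inv.app (op n)) U a)
  -- surjectivity
  have hC : Coh.IsCoh (cokernel φ) := isCoh_cokernel φ hO.1 hM
  have hCs : ClSub.IsProperOver (X ↘ Spec (CommRingCat.of A)) (CohB1.support (cokernel φ)) :=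
    Et18.IsProperOver.of_subset hMs (isClosed_support _ (locallyFinGen_of_isFT _ hC.2))
      (support_subset_of_epi (cokernel.π φ))
  have := hM.1
  have := hC.1
  have hC0 : ∀ (V : X.Opens) (a : Γ(cokernel φ, V)), a = 0 :=
    subsingleton_sections_of_nakayama (I := I) hC hCs fun U c => by
      obtain ⟨m, rfl⟩ := app_surjective_of_epi (cokernel.π φ) U.2 c
      obtain ⟨a, ha⟩ : ∃ a, φ.app U.1 a - m ∈
          openIdeal I U.1 • (⊤ : Submodule Γ(X, U.1) Γ(M, U.1)) := by
        obtain ⟨a, ha⟩ := (ζ 0).app_surjective U.1 U.2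
          ((e.hom.app (op 0)).app U.1 ((Formal.modPowπ I (0 + 1) M).app U.1 m))
        refine ⟨a, ?_⟩
        have h1 := (modPowπ_app_eq_zero_iff I hM (0 + 1) U.2 (φ.app U.1 a - m)).1 (by
          rw [map_sub, sub_eq_zero]
          refine (hval 0 U.1 a).trans ?_
          refine (congrArg ((e.inv.app (op 0)).app U.1) ha).trans ?_
          exact (comp_app_eq _ _ _ _).symm.trans (app_congr (Iso.hom_inv_id_app e (op 0)) U.1 _))
        rwa [zero_add, pow_one] at h1
      have h2 : (cokernel.π φ).app U.1 (φ.app U.1 a - m) = -((cokernel.π φ).app U.1 m) := by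
        rw [map_sub, ← comp_app_eq, app_congr (cokernel.condition φ)]
        exact zero_sub _
      have h3 : (cokernel.π φ).app U.1 (φ.app U.1 a - m) ∈
          openIdeal I U.1 • (⊤ : Submodule Γ(X, U.1) Γ(cokernel φ, U.1)) := by
        refine Submodule.smul_induction_on ha (p := fun z => (cokernel.π φ).app U.1 z ∈ _)
          (fun r hr z _ => ?_) fun z z' hz hz' => ?_
        · rw [Scheme.Modules.Hom.app_smul]
          exact Submodule.smul_mem_smul hr trivial
        · rw [map_add]; exact add_mem hz hz'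
      rw [h2] at h3
      exact neg_mem_iff.1 h3
  refine ⟨M, hM, φ, hMs, fun U => ⟨fun m => ?_, fun n a => ?_⟩⟩
  · have : Coh.IsQCoh O := hO.1
    have : Epi φ := Preadditive.epi_of_isZero_cokernel φ (ModStalk.isZero_of_stalks fun z =>
      (notMem_support_iff _ z).1 (notMem_support_of_subsingleton _ (U := ⊤) trivial
        fun V _ _ => subsingleton_of_forall_eq 0 (hC0 V)))
    exact app_surjective_of_epi φ U.2 m
  · rw [← modPowπ_app_eq_zero_iff I hM (n + 1) U.2]
    have h1 := hval n U.1 a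
    rw [h1]
    refine ⟨fun h => ?_, fun h => ?_⟩
    · exact (congrArg _ h).trans (map_zero _)
    · exact app_injective_of_mono (e.inv.app (op n)) U.1 (h.trans (map_zero _).symm)

end Compat

variable [IsAdicComplete I A] [IsSeparated (X ↘ Spec (CommRingCat.of A))]
  [LocallyOfFiniteType (X ↘ Spec (CommRingCat.of A))] [QuasiCompact (X ↘ Spec (CommRingCat.of A))]

/-- A compatible system of closed subschemes comes from a closed subscheme proper over the base. -/
theorem exists_closedSubscheme (Z : ℕ → Scheme.{u})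
    (z : ∀ n, Z n ⟶ CohB1.thick (X ↘ Spec (CommRingCat.of A)) I n) (t : ∀ n, Z n ⟶ Z (n + 1))
    (hz : ∀ n, IsClosedImmersion (z n))
    (ht : ∀ n, IsPullback (t n) (z n) (z (n + 1)) (CohB1.thickTrans (X ↘ Spec (CommRingCat.of A)) I n))
    (hp : IsProper (z 0 ≫ CohB1.thickToBase (X ↘ Spec (CommRingCat.of A)) I 0)) :
    ∃ (W : Scheme.{u}) (i : W ⟶ X) (w : ∀ n, Z n ⟶ W), IsClosedImmersion i ∧
      IsProper (i ≫ (X ↘ Spec (CommRingCat.of A))) ∧ (∀ n, w n = t n ≫ w (n + 1)) ∧
      ∀ n, IsPullback (w n) (z n) i (CohB1.thickι (X ↘ Spec (CommRingCat.of A)) I n) := by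
  let f := X ↘ Spec (CommRingCat.of A)
  have : IsLocallyNoetherian X := LocallyOfFiniteType.isLocallyNoetherian f
  let ζ : ∀ n, Z n ⟶ X := fun n => z n ≫ CohB1.thickι f I n
  let q : ∀ n, Z n ⟶ Spec (CommRingCat.of (A ⧸ I ^ (n + 1))) := fun n => z n ≫ CohB1.thickToBase f I n
  have hι := fun n => isClosedImmersion_thickι f I n
  have hζ : ∀ n, IsClosedImmersion (ζ n) := fun n => inferInstanceAs (IsClosedImmersion (z n ≫ _))
  have htζ : ∀ n, t n ≫ ζ (n + 1) = ζ n := fun n => by
    show t n ≫ z (n + 1) ≫ _ = z n ≫ _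
    rw [← Category.assoc, (ht n).w, Category.assoc, thickTrans_thickι]
  have hp' : IsProper (ζ 0 ≫ f) := by
    have : IsClosedImmersion (CohB1.specQuot I 0) :=
      IsClosedImmersion.spec_of_surjective _ Ideal.Quotient.mk_surjective
    rw [comp_thickι_over 0 (z 0)]
    infer_instance
  obtain ⟨M, hM, φ, hMs, hφ⟩ := exists_quotient ζ t htζ q (fun n => comp_thickι_over n (z n))
    (fun n => (ht n).paste_vert (isPullback_thickTrans f I n)) hp'
  let J := annSheaf hM.1 hM.2
  have hJW : IsProper (J.subschemeι ≫ f) := isProper_of_isProperOver f hMs J.subschemeι (by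
    rw [J.range_subschemeι]; exact support_annSheaf hM.1 hM.2)
  have hle : ∀ n, J ≤ (ζ n).ker := fun n U a ha => by
    rw [Scheme.Hom.ker_apply]
    refine RingHom.mem_ker.2 (((hφ U).2 n a).2 ?_)
    have : φ.app U.1 a = a • φ.app U.1 (show Γ(X, U.1) from 1) :=
      (congrArg (φ.app U.1) (mul_one a).symm).trans (Scheme.Modules.Hom.app_smul φ a _)
    exact (congrArg (· ∈ _) (this.trans (Module.mem_annihilator.1 ha _))).mpr (zero_mem _)
  let w : ∀ n, Z n ⟶ J.subscheme := fun n =>
    IsClosedImmersion.lift J.subschemeι (ζ n) (J.ker_subschemeι.trans_le (hle n))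
  have hw : ∀ n, w n ≫ J.subschemeι = ζ n := fun n => IsClosedImmersion.lift_fac _ _ _
  refine ⟨J.subscheme, J.subschemeι, w, inferInstance, hJW, fun n => ?_, fun n => ?_⟩
  · rw [← cancel_mono J.subschemeι, Category.assoc, hw, hw, htζ]
  refine isPullback_of_ker_comap J.subschemeι _ (z n) (w n) (hw n) ?_
  rw [J.ker_subschemeι, FSchLib.ker_eq_comap_ker_comp (z n) (CohB1.thickι f I n)]
  refine Scheme.IdealSheafData.ext_of_iSup_eq_top
    (fun U : X.affineOpens => ⟨CohB1.thickι f I n ⁻¹ᵁ U.1, U.2.preimage _⟩)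
    (FSchLib.iSup_preimage_eq_top (CohB1.thickι f I n) (fun U : X.affineOpens => U)
      (iSup_affineOpens_eq_top X)) fun U => ?_
  rw [FSchLib.ideal_comap_eq_map _ _ ⟨_, U.2.preimage _⟩ U le_rfl,
    FSchLib.ideal_comap_eq_map _ _ ⟨_, U.2.preimage _⟩ U le_rfl]
  refine le_antisymm (Ideal.map_le_iff_le_comap.2 fun a ha => ?_) (Ideal.map_mono (hle n U))
  have h0 : a ∈ RingHom.ker ((ζ n).app U.1).hom := (Scheme.Hom.ker_apply _ _).le ha
  obtain ⟨m, hm⟩ : ∃ j ∈ openIdeal I U.1 ^ (n + 1), a - j ∈ J.ideal U := by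
    have h1 := ((hφ U).2 n a).1 (RingHom.mem_ker.1 h0)
    have hmul : ∀ b : Γ(X, U.1), φ.app U.1 b = b • φ.app U.1 (show Γ(X, U.1) from 1) := fun b =>
      (congrArg (φ.app U.1) (mul_one b).symm).trans (Scheme.Modules.Hom.app_smul φ b _)
    obtain ⟨j, hj, hja⟩ : ∃ j ∈ openIdeal I U.1 ^ (n + 1), φ.app U.1 j = φ.app U.1 a := by
      refine Submodule.smul_induction_on h1 (p := fun y => ∃ j ∈ openIdeal I U.1 ^ (n + 1),
        φ.app U.1 j = y) (fun r hr y _ => ?_) ?_
      · obtain ⟨b, rfl⟩ := (hφ U).1 y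
        exact ⟨r * (show Γ(X, U.1) from b), Ideal.mul_mem_right _ _ hr, Scheme.Modules.Hom.app_smul φ r _⟩
      · rintro y y' ⟨j, hj, rfl⟩ ⟨j', hj', rfl⟩
        exact ⟨j + j', add_mem hj hj', map_add (φ.app U.1).hom j j'⟩
    refine ⟨j, hj, Module.mem_annihilator.2 fun y => ?_⟩
    obtain ⟨b, rfl⟩ := (hφ U).1 y
    rw [hmul b, smul_comm, sub_smul, ← hmul a, ← hmul j, hja, sub_self, smul_zero]
  rw [Ideal.mem_comap, show a = (a - m) + m from (sub_add_cancel a m).symm, map_add]
  refine add_mem (Ideal.mem_map_of_mem _ hm.2) ?_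
  suffices (openIdeal I U.1 ^ (n + 1)).map
      ((CohB1.thickι f I n).appLE U.1 (CohB1.thickι f I n ⁻¹ᵁ U.1) le_rfl).hom = ⊥ by
    have h2 := Ideal.mem_map_of_mem
      ((CohB1.thickι f I n).appLE U.1 (CohB1.thickι f I n ⁻¹ᵁ U.1) le_rfl).hom hm.1
    rw [this, Ideal.mem_bot] at h2
    exact (congrArg (· ∈ _) h2).mpr (zero_mem _)
  rw [openIdeal, ← Ideal.map_pow, Ideal.map_map, Ideal.map_eq_bot_iff_le_ker]
  intro c hc
  show (CohB1.thickι f I n).appLE U.1 _ le_rfl
    (X.presheaf.map (homOfLE (le_top (a := U.1))).op (baseHom A X c)) = 0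
  rw [Scheme.Hom.appLE_eq_app, ← CommRingCat.comp_apply, Scheme.Hom.naturality, CommRingCat.comp_apply]
  have h3 : (CohB1.thickι f I n).appTop (baseHom A X c) = 0 := by
    show Coh.toGlobal (CohB1.thickι f I n ≫ f) c = 0
    rw [CohB1.thickι, pullback.condition]
    exact toGlobal_specQuot_eq_zero _ hc
  erw [h3]
  rw [map_zero]

end Groth.Agent.Coherent.Existence
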