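import Groth.Agent.Coherent.Existence.Restrict

/-!
# The direct image of a completion along a proper morphism

The comparison `(p_* F)/I^n → p_* (F/I^n)` is AR-injective and, up to the transition maps, onto.
-/

set_option autoImplicit false
set_option backward.isDefEq.respectTransparency false

universe u

open CategoryTheory CategoryTheory.Limits AlgebraicGeometry Opposite TopologicalSpace
open Groth.Agent.Coherent Groth.Agent.Coherent.Serre Groth.Agent.PicLib

namespace Groth.Agent.Coherent.Existence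

theorem map_smulMod_eq {R : Type u} [CommRing R] {W : Scheme.{u}} [W.Over (Spec (CommRingCat.of R))]
    (M : W.Modules) (r : R) (q : ℕ) (x : Coh.HH W M q) :
    @Eq (Coh.HH W M q)
      (Sheaf.H.map ((SheafOfModules.toSheaf W.ringCatSheaf).map (Formal.smulMod R M r)) q x) (r • x) :=
  (HHA (A := R) M q).injective (by
    rw [HHA_natural, postA_smulMod, map_smul])

theorem map_app_map {X X' : Scheme.{u}} (p : X' ⟶ X) {U U' : X.Opens} (i : op U ⟶ op U') {W : X'.Opens}
    (j : op (p ⁻¹ᵁ U') ⟶ op W) (k : op (p ⁻¹ᵁ U) ⟶ op W) (r : Γ(X, U)) :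
    X'.presheaf.map j (p.app U' (X.presheaf.map i r)) = X'.presheaf.map k (p.app U r) := by
  simp only [← CommRingCat.comp_apply]
  rw [p.naturality, Category.assoc, ← Functor.map_comp]
  rfl

variable {A : Type u} [CommRing A] {X X' : Scheme.{u}} [X.Over (Spec (CommRingCat.of A))]
  [X'.Over (Spec (CommRingCat.of A))] {p : X' ⟶ X}
  (hp : p ≫ (X ↘ Spec (CommRingCat.of A)) = X' ↘ Spec (CommRingCat.of A)) {I : Ideal A}
  {U : X.Opens} (hU : IsAffineOpen U)

include hU in
/-- The preimage of an affine open, over the ring of the open. -/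
@[instance_reducible]
noncomputable def overR (p : X' ⟶ X) : ((p ⁻¹ᵁ U : X'.Opens) : Scheme.{u}).Over (Spec (CommRingCat.of Γ(X, U))) :=
  ⟨(p ∣_ U) ≫ hU.isoSpec.hom⟩

include hU in
theorem baseHom_overR (r : Γ(X, U)) :
    letI := overR hU p
    baseHom Γ(X, U) ((p ⁻¹ᵁ U : X'.Opens) : Scheme.{u}) r =
      rmap (p ⁻¹ᵁ U).ι_image_top.le ((p.app U) r) := by
  let := overR hU p
  show ((p ∣_ U) ≫ hU.isoSpec.hom).appTop ((Scheme.ΓSpecIso (CommRingCat.of Γ(X, U))).inv r) = _
  rw [Scheme.Hom.comp_appTop, hU.isoSpec_hom_appTop, morphismRestrict_appTop]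
  simp only [CommRingCat.comp_apply]
  erw [Iso.inv_hom_id_apply]
  exact map_app_map p _ _ _ r

include hp hU in
theorem openIdeal_overR :
    letI := overR hU p
    ∀ W : ((p ⁻¹ᵁ U : X'.Opens) : Scheme.{u}).Opens,
      openIdeal (openIdeal I U) W = (openIdeal I ((p ⁻¹ᵁ U).ι ''ᵁ W) : Ideal _) := by
  let := overR hU p
  intro W
  unfold openIdeal
  rw [Ideal.map_map]
  refine congrArg (fun φ => Ideal.map φ I) (RingHom.ext fun a => ?_)
  show (((p ⁻¹ᵁ U : X'.Opens) : Scheme.{u}).presheaf.map (homOfLE (le_top (a := W))).op)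
      (baseHom Γ(X, U) _ (rmap (le_top : U ≤ ⊤) (baseHom A X a))) =
    rmap (le_top : (p ⁻¹ᵁ U).ι ''ᵁ W ≤ ⊤) (baseHom A X' a)
  rw [baseHom_overR hU]
  show X'.presheaf.map _ (X'.presheaf.map _ (p.app U (X.presheaf.map _ (baseHom A X a)))) = _
  rw [← CommRingCat.comp_apply (X'.presheaf.map _) (X'.presheaf.map _), ← Functor.map_comp]
  exact (map_app_map p _ _ (homOfLE (le_top (a := (p ⁻¹ᵁ U).ι ''ᵁ W))).op _).trans
    (congrArg _ (toGlobal_comp hp a))

variable [IsNoetherianRing A] [IsLocallyNoetherian X] [IsProper p] {F : X'.Modules}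
  (hF : Coh.IsCoh F)

include hp hU hF in
/-- Sections dying modulo a high power of `I` are high multiples. -/
theorem exists_const_kernel : ∃ c : ℕ, ∀ (k : ℕ) (s : Γ((Coh.push p).obj F, U)),
    (Formal.modPowπ I (k + c + 1) F).app (p ⁻¹ᵁ U) s = 0 →
      s ∈ openIdeal I U ^ k • (⊤ : Submodule Γ(X, U) Γ((Coh.push p).obj F, U)) := by
  let := overR hU p
  let V : X'.Opens := p ⁻¹ᵁ U
  have := IsLocallyNoetherian.component_noetherian (X := X) ⟨U, hU⟩
  have : IsLocallyNoetherian X' := LocallyOfFiniteType.isLocallyNoetherian p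
  have : IsProper ((V : Scheme.{u}) ↘ Spec (CommRingCat.of Γ(X, U))) :=
    inferInstanceAs (IsProper ((p ∣_ U) ≫ hU.isoSpec.hom))
  have hF' : Coh.IsCoh (F.restrict V.ι) := AmpleLib.isCoh_restrict V.ι _ hF
  obtain ⟨c, hc⟩ := exists_imPow_le (openIdeal I U) hF' 0
  refine ⟨c, fun k s hs => ?_⟩
  have := isIso_restrComp V (openIdeal_overR (I := I) hp hU) (k + c + 1) hF
  let s' : Γ(F.restrict V.ι, ⊤) := resM F V.ι_image_top.le s
  have h0 : (Formal.modPowπ (openIdeal I U) (k + c + 1) (F.restrict V.ι)).app ⊤ s' = 0 := by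
    refine app_injective_of_mono (restrComp V (openIdeal_overR (I := I) hp hU) (k + c + 1) F) ⊤ ?_
    refine Eq.trans ?_ (map_zero _).symm
    refine ((comp_app_eq _ _ _ s').symm.trans
      (app_congr (π_restrComp V (openIdeal_overR (I := I) hp hU) (k + c + 1) F) ⊤ s')).trans ?_
    exact (app_resM (Formal.modPowπ I (k + c + 1) F) V.ι_image_top.le s).trans
      ((congrArg _ hs).trans (map_zero _))
  have h1 : (hSec (F.restrict V.ι)).symm s' ∈ imPow (openIdeal I U) (F.restrict V.ι) 0 (k + c + 1) := by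
    refine (mem_imPow_succ_iff (openIdeal I U) (F.restrict V.ι) 0 (k + c) _).2 ?_
    refine (hSec _).injective ((hSec_map _ _).trans ?_)
    rw [AddEquiv.apply_symm_apply]
    exact h0.trans (map_zero _).symm
  have h2 := hc (k + c + 1) (by omega) h1
  have h3 : (hSec (F.restrict V.ι)).symm s' ∈
      openIdeal I U ^ k • (⊤ : Submodule Γ(X, U) (Coh.HH (V : Scheme.{u}) (F.restrict V.ι) 0)) :=
    Submodule.smul_mono_left (Ideal.pow_le_pow_right (by omega)) h2
  let back : Γ(F.restrict V.ι, ⊤) → Γ((Coh.push p).obj F, U) :=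
    fun z => resM F V.ι_image_top.ge z
  suffices key : ∀ x ∈ openIdeal I U ^ k •
      (⊤ : Submodule Γ(X, U) (Coh.HH (V : Scheme.{u}) (F.restrict V.ι) 0)),
      back (hSec (F.restrict V.ι) x) ∈
        openIdeal I U ^ k • (⊤ : Submodule Γ(X, U) Γ((Coh.push p).obj F, U)) by
    have h4 := key _ h3
    rw [AddEquiv.apply_symm_apply] at h4
    have e : back s' = s := (resM_resM F _ _ s).trans (resM_self _ _ _)
    rwa [e] at h4
  intro x hx
  refine Submodule.smul_induction_on hx (fun r hr y _ => ?_) fun a b ha hb => ?_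
  · erw [← map_smulMod_eq (F.restrict V.ι) r 0 y]
    rw [hSec_map, smulMod_app]
    show resM F V.ι_image_top.ge _ ∈ _
    rw [restrict_smul F ⊤ _ (hSec (F.restrict V.ι) y), resM_smul]
    refine (congrArg (fun z : Γ(X', V) => z • (show Γ(F, V) from back (hSec (F.restrict V.ι) y)) ∈ _) ?_).mpr
      (Submodule.smul_mem_smul (N := (⊤ : Submodule Γ(X, U) Γ((Coh.push p).obj F, U)))
        (n := back (hSec (F.restrict V.ι) y)) hr trivial)
    show X'.presheaf.map _ (X'.presheaf.map _ (baseHom Γ(X, U) (V : Scheme.{u}) r)) = p.app U r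
    rw [baseHom_overR hU]
    show X'.presheaf.map _ (X'.presheaf.map _ (X'.presheaf.map _ (p.app U r))) = _
    rw [← CommRingCat.comp_apply, ← Functor.map_comp, ← CommRingCat.comp_apply, ← Functor.map_comp]
    exact ConcreteCategory.congr_hom (X'.presheaf.map_id _) _
  · rw [map_add]
    show resM F _ _ ∈ _
    erw [map_add]
    exact add_mem ha hb

include hp hU hF in
/-- Sections modulo a high power of `I` lift modulo a lower power. -/
theorem exists_const_range : ∃ c : ℕ, ∀ (n k : ℕ) (h : n ≤ k), n + c ≤ k →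
    ∀ t : Γ((Formal.completion I F).obj (op k), p ⁻¹ᵁ U), ∃ s : Γ(F, p ⁻¹ᵁ U),
      (trLE (Formal.completion I F) h).app (p ⁻¹ᵁ U) t = (Formal.modPowπ I (n + 1) F).app (p ⁻¹ᵁ U) s := by
  let := overR hU p
  let V : X'.Opens := p ⁻¹ᵁ U
  have := IsLocallyNoetherian.component_noetherian (X := X) ⟨U, hU⟩
  have : IsLocallyNoetherian X' := LocallyOfFiniteType.isLocallyNoetherian p
  have : IsProper ((V : Scheme.{u}) ↘ Spec (CommRingCat.of Γ(X, U))) :=
    inferInstanceAs (IsProper ((p ∣_ U) ≫ hU.isoSpec.hom))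
  have hF' : Coh.IsCoh (F.restrict V.ι) := AmpleLib.isCoh_restrict V.ι _ hF
  obtain ⟨c, hc⟩ := exists_range_eq (openIdeal I U) hF' 0
  refine ⟨c, fun n k h hk t => ?_⟩
  let J := openIdeal I U
  have hJ := openIdeal_overR (I := I) hp hU
  have := isIso_restrComp V hJ (k + 1) hF
  let t' : Γ((Formal.modPow I (k + 1) F).restrict V.ι, ⊤) :=
    resM (Formal.modPow I (k + 1) F) V.ι_image_top.le t
  let v : Γ(Formal.modPow J (k + 1) (F.restrict V.ι), ⊤) :=
    (inv (restrComp V hJ (k + 1) F)).app ⊤ t'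
  obtain ⟨x, hx⟩ : (Sheaf.H.map ((SheafOfModules.toSheaf _).map
      (trLE (Formal.completion J (F.restrict V.ι)) h)) 0
        ((hSec (Formal.modPow J (k + 1) (F.restrict V.ι))).symm v)) ∈
      Set.range (Formal.toHHmodPow J (F.restrict V.ι) 0 n) := by
    rw [← hc n k h hk]
    exact ⟨_, rfl⟩
  let s' : Γ(F.restrict V.ι, ⊤) := hSec (F.restrict V.ι) x
  have e1 : (Formal.modPowπ J (n + 1) (F.restrict V.ι)).app ⊤ s' =
      (trLE (Formal.completion J (F.restrict V.ι)) h).app ⊤ v := by
    have e := congrArg (hSec (Formal.modPow J (n + 1) (F.restrict V.ι))) hx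
    refine ((hSec_map _ x).symm.trans e).trans ((hSec_map _ _).trans ?_)
    exact congrArg _ (AddEquiv.apply_symm_apply _ v)
  have e3 : (restrComp V hJ (k + 1) F).app ⊤ v = t' :=
    (comp_app_eq _ _ _ t').symm.trans (app_congr (IsIso.inv_hom_id _) ⊤ t')
  have e2 := (app_congr (π_restrComp V hJ (n + 1) F) ⊤ s').symm.trans
    ((comp_app_eq _ _ _ s').trans ((congrArg _ e1).trans ((comp_app_eq _ _ _ v).symm.trans
      ((app_congr (restrComp_natural V hJ F h) ⊤ v).trans
        ((comp_app_eq _ _ _ v).trans (congrArg _ e3))))))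
  refine ⟨resM F V.ι_image_top.ge s', ?_⟩
  have e4 := congrArg (resM (Formal.modPow I (n + 1) F) V.ι_image_top.ge) e2
  refine Eq.trans ?_ (e4.symm.trans
    (app_resM (Formal.modPowπ I (n + 1) F) V.ι_image_top.ge s').symm)
  refine Eq.trans ?_ (app_resM (trLE (Formal.completion I F) h) V.ι_image_top.ge t')
  exact congrArg _ ((resM_resM _ _ _ t).trans (resM_self _ _ _)).symm

variable [CompactSpace X] (I)

include hp hF in
/-- The comparison is AR-injective. -/
theorem armono_theta :
    ARMono (G := Formal.completion I ((Coh.push p).obj F)) (H := pushSys p (Formal.completion I F))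
      fun n => theta (I := I) hp (n + 1) F := by
  obtain ⟨s, hs⟩ := Groth.Agent.H8Top.exists_finite_affine_cover X
  have hM := isCoh_push_of_isProper p hF
  choose c hc using fun i : s => exists_const_kernel (I := I) hp i.1.2 hF
  intro n
  let m := n + 1 + Finset.univ.sup c
  refine ⟨m, by omega, ?_⟩
  have : IsLocallyNoetherian X' := LocallyOfFiniteType.isLocallyNoetherian p
  have hQ := isCoh_push_of_isProper p (isCoh_modPow I hF (m + 1))
  have := (isCoh_kernel (theta (I := I) hp (m + 1) F) (isCoh_modPow I hM (m + 1)) hQ.1).1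
  have : Coh.IsQCoh ((Formal.completion I ((Coh.push p).obj F)).obj (op n)) :=
    (isCoh_modPow I hM (n + 1)).1
  refine hom_eq_zero_of_cover (fun i : s => i.1.1) (fun i => i.1.2)
    (fun x => Opens.mem_iSup.1 (hs.ge (Opens.mem_top x))) _ fun i z => ?_
  obtain ⟨a, ha⟩ := modPowπ_app_surjective' I hM (m + 1) i.1.2
    ((kernel.ι (theta (I := I) hp (m + 1) F)).app i.1.1 z)
  have h0 := app_eq_zero_of_push (π_modPowDesc I ((Coh.push p).map (Formal.modPowπ I (m + 1) F))
    (killedBy_push hp (m + 1) F)) i.1.1 a (by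
      refine (congrArg _ ha).trans ?_
      exact kernel_ι_app_zero (theta (I := I) hp (m + 1) F) _ _)
  have hle : c i ≤ Finset.univ.sup c := Finset.le_sup (Finset.mem_univ i)
  have em : m + 1 = (m - c i) + c i + 1 := by omega
  rw [em] at h0
  have h1 := hc i (m - c i) a h0
  have h2 : a ∈ openIdeal I i.1.1 ^ (n + 1) •
      (⊤ : Submodule Γ(X, i.1.1) Γ((Coh.push p).obj F, i.1.1)) :=
    Submodule.smul_mono_left (Ideal.pow_le_pow_right (by omega)) h1
  rw [← modPowπ_app_eq_zero_iff I hM (n + 1) i.1.2] at h2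
  refine (comp_app_eq _ _ _ z).trans ((congrArg _ ha.symm).trans ((comp_app_eq _ _ _ a).symm.trans ?_))
  exact (app_congr (modPowπ_completion_map I ((Coh.push p).obj F) (by omega : n ≤ m)) i.1.1 a).trans h2

omit [IsNoetherianRing A] [X.Over (Spec (CommRingCat.of A))] [X'.Over (Spec (CommRingCat.of A))]
  [IsLocallyNoetherian X] [IsProper p] [CompactSpace X] in
theorem push_local {M : X.Modules} {N N' C : X'.Modules} (q : (Coh.push p).obj N ⟶ M)
    (θ : M ⟶ (Coh.push p).obj N') (π : N ⟶ N') (h : q ≫ θ = (Coh.push p).map π) (T : C ⟶ N')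
    {U : X.Opens} (t : Γ(C, p ⁻¹ᵁ U)) (s : Γ(N, p ⁻¹ᵁ U))
    (hs : T.app (p ⁻¹ᵁ U) t = π.app (p ⁻¹ᵁ U) s) :
    θ.app U (q.app U s) = ((Coh.push p).map T).app U t :=
  ((comp_app_eq q θ U s).symm.trans (app_congr h U s)).trans hs.symm

omit [IsLocallyNoetherian X] [CompactSpace X] in
theorem trLE_pushSys (q : X' ⟶ X) (G : ℕᵒᵖ ⥤ X'.Modules) {n k : ℕ} (h : n ≤ k) :
    trLE (pushSys q G) h = (Coh.push q).map (trLE G h) := rfl

omit [IsNoetherianRing A] [X.Over (Spec (CommRingCat.of A))] [IsLocallyNoetherian X] [CompactSpace X] in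
/-- A family whose local sections come, up to the transition maps, from `θ` lands in `θ`. -/
theorem imageIn_of_local {P G G' : ℕᵒᵖ ⥤ X.Modules} (θ : ∀ n, G'.obj (op n) ⟶ P.obj (op n))
    {η : ∀ n, G.obj (op n) ⟶ P.obj (op n)} (hη : Compat η) (hP : ∀ n, Coh.IsQCoh (P.obj (op n)))
    (hcok : ∀ n, Coh.IsQCoh (cokernel (θ n))) {ι : Type*} [Fintype ι] (V : ι → X.Opens)
    (hV : ∀ i, IsAffineOpen (V i)) (hc : ∀ x, ∃ i, x ∈ V i) (c : ι → ℕ)
    (h : ∀ i n k (h : n ≤ k), n + c i ≤ k → ∀ t : Γ(P.obj (op k), V i),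
      ∃ y, (θ n).app (V i) y = (trLE P h).app (V i) t) : ImageIn η θ := by
  intro n
  refine ⟨n + Finset.univ.sup c, Nat.le_add_right _ _, ?_⟩
  have := hP (n + Finset.univ.sup c)
  have := hcok n
  have e : trLE P (Nat.le_add_right n (Finset.univ.sup c)) ≫ cokernel.π (θ n) = 0 :=
    hom_eq_zero_of_cover V hV hc _ fun i t => by
      obtain ⟨y, hy⟩ := h i n _ (Nat.le_add_right n (Finset.univ.sup c))
        (Nat.add_le_add_left (Finset.le_sup (Finset.mem_univ i)) n) t
      exact (comp_app_eq _ _ _ t).trans ((congrArg _ hy.symm).trans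
        ((comp_app_eq _ _ _ y).symm.trans (app_congr (cokernel.condition _) (V i) y)))
  rw [hη.trLE_comp, Category.assoc, e, comp_zero]

include hp hF in
/-- Every compatible family into `p_* (F/I^n)` lands, up to the transition maps, in the comparison. -/
theorem imageIn_theta {G : ℕᵒᵖ ⥤ X.Modules}
    {η : ∀ n, G.obj (op n) ⟶ (pushSys p (Formal.completion I F)).obj (op n)} (hη : Compat η) :
    ImageIn (G' := Formal.completion I ((Coh.push p).obj F)) (H := pushSys p (Formal.completion I F))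
      η fun n => theta (I := I) hp (n + 1) F := by
  obtain ⟨s, hs⟩ := Groth.Agent.H8Top.exists_finite_affine_cover X
  have hM := isCoh_push_of_isProper p hF
  choose c hc using fun i : s => exists_const_range (I := I) hp i.1.2 hF
  have : IsLocallyNoetherian X' := LocallyOfFiniteType.isLocallyNoetherian p
  have hPn : ∀ k, Coh.IsCoh ((pushSys p (Formal.completion I F)).obj (op k)) := fun k =>
    isCoh_push_of_isProper p (isCoh_modPow I hF (k + 1))
  refine imageIn_of_local (G' := Formal.completion I ((Coh.push p).obj F))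
    (P := pushSys p (Formal.completion I F)) (fun n => theta (I := I) hp (n + 1) F) hη (fun k => (hPn k).1)
    (fun n => (isCoh_cokernel (theta (I := I) hp (n + 1) F) (isCoh_modPow I hM (n + 1)).1 (hPn n)).1) (fun i : s => i.1.1)
    (fun i => i.1.2) (fun x => Opens.mem_iSup.1 (hs.ge (Opens.mem_top x))) c
    fun i n k h hk t => ?_
  obtain ⟨y, hy⟩ := hc i n k h hk t
  rw [trLE_pushSys]
  exact ⟨_, push_local _ (theta (I := I) hp (n + 1) F) (Formal.modPowπ I (n + 1) F)
    (π_modPowDesc I _ (killedBy_push hp (n + 1) F)) (trLE (Formal.completion I F) h) t y hy⟩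

end Groth.Agent.Coherent.Existence
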