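import Groth.Agent.Coherent.Existence.Kill
import Groth.Agent.Coherent.Existence.Relative
import Mathlib.AlgebraicGeometry.IdealSheaf.Subscheme

/-!
# Embedding a formal module into a completion along a birational modification
-/

set_option autoImplicit false
set_option backward.isDefEq.respectTransparency false

universe u

open CategoryTheory CategoryTheory.Limits AlgebraicGeometry Opposite TopologicalSpace
open Groth.Agent.Coherent Groth.Agent.Coherent.Serre Groth.Agent.PicLib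

namespace Groth.Agent.Coherent.Existence

theorem compat_natTrans {X : Scheme.{u}} {G H : ℕᵒᵖ ⥤ X.Modules} (τ : G ⟶ H) :
    Compat (P := G) (G := H) fun n => τ.app (op n) :=
  fun n => τ.naturality (homOfLE (Nat.le_succ n)).op

variable {A : Type u} [CommRing A] [IsNoetherianRing A] {X : Scheme.{u}}
  [X.Over (Spec (CommRingCat.of A))] [IsLocallyNoetherian X] {I : Ideal A}

/-- A section of the limit lying in `K ^ N • G_n` at every level lies in `K ^ N • lim`. -/
theorem mem_smul_lim {G : ℕᵒᵖ ⥤ X.Modules} (hG : Formal.IsCohFormal I G) {U : X.Opens}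
    (hU : IsAffineOpen U) (K : Ideal Γ(X, U)) (x : lim hG U)
    (hx : ∀ n, (show Γ(G.obj (op n), U) from x.1 n) ∈ K • (⊤ : Submodule Γ(X, U) Γ(G.obj (op n), U))) :
    x ∈ K.map (algebraMap Γ(X, U) (Cpl I U)) • (⊤ : Submodule (Cpl I U) (lim hG U)) := by
  have := isNoetherianRing_cpl (I := I) U hU
  have := isAdicComplete_cpl (I := I) U hU
  obtain ⟨hfin, hker⟩ := finite_lim_and_ker hG U hU
  let P := K.map (algebraMap Γ(X, U) (Cpl I U)) • (⊤ : Submodule (Cpl I U) (lim hG U))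
  have key : ∀ (n : ℕ) (a : Γ(G.obj (op n), U)),
      a ∈ K • (⊤ : Submodule Γ(X, U) Γ(G.obj (op n), U)) → ∃ w ∈ P, w.1 n = a := fun n a ha => by
    refine Submodule.smul_induction_on ha (fun r hr b _ => ?_) ?_
    · obtain ⟨y, hy⟩ := lim_proj_surjective hG U hU n b
      refine ⟨algebraMap Γ(X, U) (Cpl I U) r • y, Submodule.smul_mem_smul (Ideal.mem_map_of_mem _ hr)
        trivial, ?_⟩
      exact (IsScalarTower.algebraMap_smul (Cpl I U) r (y.1 n)).trans (congrArg (r • ·) hy)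
    · rintro a b ⟨w, hw, rfl⟩ ⟨w', hw', rfl⟩
      exact ⟨w + w', add_mem hw hw', rfl⟩
  have h1 : Submodule.mkQ P x ∈ (⨅ i : ℕ, cplIdeal I U ^ i •
      (⊤ : Submodule (Cpl I U) (lim hG U ⧸ P))) := by
    refine (Submodule.mem_iInf _).2 fun i => ?_
    obtain ⟨w, hw, he⟩ := key i _ (hx i)
    have h2 : x - w ∈ cplIdeal I U ^ (i + 1) • (⊤ : Submodule (Cpl I U) (lim hG U)) :=
      (hker i (x - w)).1 (sub_eq_zero.2 he.symm)
    have h3 := Submodule.mem_map_of_mem (f := Submodule.mkQ P) h2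
    rw [Submodule.map_smul'', map_sub, Submodule.mkQ_apply _ w, (Submodule.Quotient.mk_eq_zero P).2 hw,
      sub_zero] at h3
    exact Submodule.smul_mono (Ideal.pow_le_pow_right (Nat.le_succ i)) le_top h3
  rw [Ideal.iInf_pow_smul_eq_bot_of_le_jacobson _ (IsAdicComplete.le_jacobson_bot _),
    Submodule.mem_bot] at h1
  exact (Submodule.Quotient.mk_eq_zero P).1 h1

omit [IsLocallyNoetherian X] in
/-- A compatible family killing exactly what dies in `π_* π^*`, from an algebraization of the pullback. -/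
theorem exists_alpha {X' : Scheme.{u}} [X'.Over (Spec (CommRingCat.of A))] [IsLocallyNoetherian X]
    [CompactSpace X] (π : X' ⟶ X) [IsProper π]
    (hπ : π ≫ (X ↘ Spec (CommRingCat.of A)) = X' ↘ Spec (CommRingCat.of A)) {G : ℕᵒᵖ ⥤ X.Modules}
    (hG : Formal.IsCohFormal I G) {F : X'.Modules} (hF : Coh.IsCoh F)
    (e : Formal.completion I F ≅ pullSys π G) :
    ∃ α : ∀ n, G.obj (op n) ⟶ (Formal.completion I ((Coh.push π).obj F)).obj (op n), Compat α ∧
      ∀ n (U : X.Opens) (a : Γ(G.obj (op n), U)), (α n).app U a = 0 →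
        (etaHom π (G.obj (op n))).app U a = 0 := by
  let η : ∀ n, G.obj (op n) ⟶ (pushSys π (Formal.completion I F)).obj (op n) :=
    fun n => etaHom π (G.obj (op n)) ≫ (Coh.push π).map (e.inv.app (op n))
  have hη : Compat η := (compat_etaHom G).comp (compat_push (compat_natTrans e.inv))
  obtain ⟨α, hαc, hα⟩ := exists_lift hG
    (isCohFormal_completion I (isCoh_push_of_isProper π hF)).2.1 (compat_theta hπ F) hη
    (armono_theta (I := I) (hp := hπ) (hF := hF)) (imageIn_theta (I := I) (hp := hπ) (hF := hF) hη)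
  refine ⟨α, hαc, fun n U a ha => ?_⟩
  have h1 : (η n).app U a = 0 :=
    ((app_congr (hα n) U a).symm.trans (comp_app_eq _ _ _ a)).trans
      ((congrArg _ ha).trans (map_zero _))
  exact app_injective_of_mono ((Coh.push π).map (e.inv.app (op n))) U
    (((comp_app_eq _ _ _ a).symm.trans h1).trans (map_zero _).symm)

/-- A compatible family killing only multiples of the ideal of a closed subscheme. -/
theorem exists_gamma {W : Scheme.{u}} [W.Over (Spec (CommRingCat.of A))] (j : W ⟶ X)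
    [IsClosedImmersion j] (hj : j ≫ (X ↘ Spec (CommRingCat.of A)) = W ↘ Spec (CommRingCat.of A))
    {G : ℕᵒᵖ ⥤ X.Modules} (hG : Formal.IsCohFormal I G) {M : W.Modules} (hM : Coh.IsCoh M)
    (e : Formal.completion I M ≅ pullSys j G) :
    ∃ γ : ∀ n, G.obj (op n) ⟶ (Formal.completion I ((Coh.push j).obj M)).obj (op n), Compat γ ∧
      ∀ n (U : X.Opens), IsAffineOpen U → ∀ a : Γ(G.obj (op n), U), (γ n).app U a = 0 →
        a ∈ RingHom.ker (j.app U).hom • (⊤ : Submodule Γ(X, U) Γ(G.obj (op n), U)) := by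
  have : IsLocallyNoetherian W := LocallyOfFiniteType.isLocallyNoetherian j
  have hθ : ∀ n, IsIso (theta (I := I) hj (n + 1) M) := fun n => isIso_theta hj (n + 1) hM
  let δ : ∀ n, G.obj (op n) ⟶ (pushSys j (Formal.completion I M)).obj (op n) :=
    fun n => etaHom j (G.obj (op n)) ≫ (Coh.push j).map (e.inv.app (op n))
  have hδ : Compat δ := (compat_etaHom G).comp (compat_push (compat_natTrans e.inv))
  refine ⟨fun n => δ n ≫ inv (theta (I := I) hj (n + 1) M), hδ.comp fun n => ?_, fun n U hU a ha => ?_⟩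
  · rw [IsIso.eq_inv_comp, ← Category.assoc, IsIso.comp_inv_eq]
    exact (compat_theta hj M n).symm
  · have := (hG.1 n).1
    refine mem_smul_of_etaHom_eq_zero hU (G.obj (op n)) a ?_
    have h1 : (δ n).app U a = 0 :=
      app_injective_of_mono (inv (theta (I := I) hj (n + 1) M)) U
        (((comp_app_eq _ _ _ a).symm.trans ha).trans (map_zero _).symm)
    exact app_injective_of_mono ((Coh.push j).map (e.inv.app (op n))) U
      (((comp_app_eq _ _ _ a).symm.trans h1).trans (map_zero _).symm)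

omit [IsNoetherianRing A] [IsLocallyNoetherian X] in
/-- Killed by a power of `K` and lying in a high multiple of `K` forces zero. -/
theorem eq_zero_of_artinRees {G : ℕᵒᵖ ⥤ X.Modules} (hG : Formal.IsCohFormal I G) {U : X.Opens}
    (K : Ideal Γ(X, U)) (H : Submodule (Cpl I U) (lim hG U)) {N₀ c : ℕ}
    (hN₀ : ∀ r ∈ K ^ N₀, ∀ x ∈ H, ∀ n, r • (show Γ(G.obj (op n), U) from x.1 n) = 0)
    (hc : ∀ n, (K.map (algebraMap Γ(X, U) (Cpl I U)) ^ (n + c) •
      (⊤ : Submodule (Cpl I U) (lim hG U)) ⊓ H) ≤ K.map (algebraMap Γ(X, U) (Cpl I U)) ^ n • H)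
    (x : lim hG U) (hx : x ∈ H) {N : ℕ} (hN : N₀ + c ≤ N)
    (hxK : x ∈ (K ^ N).map (algebraMap Γ(X, U) (Cpl I U)) • (⊤ : Submodule (Cpl I U) (lim hG U))) :
    x = 0 := by
  rw [Ideal.map_pow] at hxK
  have h3 := hc N₀ ⟨Submodule.smul_mono_left (Ideal.pow_le_pow_right hN) hxK, hx⟩
  refine Submodule.smul_induction_on h3 (p := fun y => y = 0) (fun a ha y hy => ?_)
    fun a b ha hb => by rw [ha, hb, add_zero]
  rw [← Ideal.map_pow] at ha
  induction ha using Submodule.span_induction generalizing y with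
  | mem a ha =>
    obtain ⟨r, hr, rfl⟩ := ha
    exact Subtype.ext (funext fun n => (IsScalarTower.algebraMap_smul (Cpl I U) r (y.1 n)).trans
      (hN₀ r hr y hy n))
  | zero => rw [zero_smul]
  | add a b _ _ ha hb => rw [add_smul, ha y hy, hb y hy, add_zero]
  | smul d a _ ha => rw [smul_eq_mul, mul_smul, ha y hy, smul_zero]

/-- Joint injectivity on the limits gives joint AR-injectivity. -/
theorem exists_level_hom {G H₁ H₂ : ℕᵒᵖ ⥤ X.Modules} (hG : Formal.IsCohFormal I G)
    (h₁ : Formal.IsCohFormal I H₁) (h₂ : Formal.IsCohFormal I H₂)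
    {α : ∀ n, G.obj (op n) ⟶ H₁.obj (op n)} (hαc : Compat α)
    {γ : ∀ n, G.obj (op n) ⟶ H₂.obj (op n)} (hγc : Compat γ)
    {ι : Type*} [Fintype ι] (U : ι → X.Opens) (hU : ∀ i, IsAffineOpen (U i))
    (hcov : ∀ x : X, ∃ i, x ∈ U i)
    (hinj : ∀ i (x : lim hG (U i)),
      limMap hG (U i) h₁ hαc x = 0 → limMap hG (U i) h₂ hγc x = 0 → x = 0) (n : ℕ) :
    ∃ (m : ℕ) (hm : n ≤ m), ∀ {T : X.Modules} (x : T ⟶ G.obj (op m)),
      x ≫ α m = 0 → x ≫ γ m = 0 → x ≫ trLE G hm = 0 := by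
  choose m hm hlev using fun i => exists_level_of_injective hG (U i) (hU i) h₁ h₂ hαc hγc (hinj i) n
  let M := n + Finset.univ.sup m
  have hnM : n ≤ M := Nat.le_add_right _ _
  refine ⟨M, hnM, fun {T} x hxα hxγ => ?_⟩
  let k₁ := kernel.ι (α M)
  let k₂ := kernel.ι (k₁ ≫ γ M)
  have hk₁ := isCoh_kernel (α M) (hG.1 M) (h₁.1 M).1
  have := (isCoh_kernel (k₁ ≫ γ M) hk₁ (h₂.1 M).1).1
  have := (hG.1 n).1
  have hz : (k₂ ≫ k₁) ≫ trLE G hnM = 0 :=
    hom_eq_zero_of_cover U hU hcov _ fun i a => by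
      refine (comp_app_eq _ _ _ a).trans ?_
      have hmi : m i ≤ M := (Finset.le_sup (Finset.mem_univ i)).trans (Nat.le_add_left _ _)
      refine hlev i M hmi _ ?_ ?_
      · exact (congrArg _ (comp_app_eq k₂ k₁ _ a)).trans (kernel_ι_app_zero (α M) _ _)
      · refine (congrArg _ (comp_app_eq k₂ k₁ _ a)).trans ?_
        exact (comp_app_eq k₁ (γ M) _ _).symm.trans (kernel_ι_app_zero (k₁ ≫ γ M) _ a)
  have h1 : kernel.lift (α M) x hxα ≫ k₁ ≫ γ M = 0 := by
    rw [← Category.assoc, kernel.lift_ι]; exact hxγ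
  have hx : x = kernel.lift (k₁ ≫ γ M) _ h1 ≫ k₂ ≫ k₁ := by
    rw [← Category.assoc, kernel.lift_ι, kernel.lift_ι]
  rw [hx, Category.assoc, hz, comp_zero]

variable [CompactSpace X]

/-- A formal module embeds into the sum of a completion on a modification and one on the exceptional
closed subscheme. -/
theorem exists_embedding {X' : Scheme.{u}} [X'.Over (Spec (CommRingCat.of A))] (π : X' ⟶ X)
    [IsProper π] (hπ : π ≫ (X ↘ Spec (CommRingCat.of A)) = X' ↘ Spec (CommRingCat.of A))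
    (V : X.Opens) [IsIso (π ∣_ V)] {G : ℕᵒᵖ ⥤ X.Modules} (hG : Formal.IsCohFormal I G)
    {F : X'.Modules} (hF : Coh.IsCoh F) (e : Formal.completion I F ≅ pullSys π G)
    (Q : X.Modules → Prop) (hQ : ∀ {M N : X.Modules}, Q M → Q N → Q (M ⊞ N))
    (hQF : Q ((Coh.push π).obj F))
    (hclosed : ∀ {W : Scheme.{u}} [W.Over (Spec (CommRingCat.of A))] (j : W ⟶ X) [IsClosedImmersion j],
      j ≫ (X ↘ Spec (CommRingCat.of A)) = W ↘ Spec (CommRingCat.of A) →
      Set.range j ⊆ (V : Set X)ᶜ →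
      ∃ M : W.Modules, Coh.IsCoh M ∧ Q ((Coh.push j).obj M) ∧
        Nonempty (Formal.completion I M ≅ pullSys j G)) :
    ∃ M : X.Modules, Coh.IsCoh M ∧ Q M ∧
      ∃ β : ∀ n, G.obj (op n) ⟶ (Formal.completion I M).obj (op n), Compat β ∧ ARMono β := by
  classical
  obtain ⟨s, hs⟩ := Groth.Agent.H8Top.exists_finite_affine_cover X
  have hcov : ∀ x : X, ∃ i : s, x ∈ i.1.1 := fun x => Opens.mem_iSup.1 (hs.ge (Opens.mem_top x))
  obtain ⟨α, hαc, hα⟩ := exists_alpha π hπ hG hF e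
  let K := Scheme.IdealSheafData.vanishingIdeal (X := X) ⟨(V : Set X)ᶜ, V.isOpen.isClosed_compl⟩
  have hK : ∀ (i : s) (p : PrimeSpectrum Γ(X, i.1.1)), ¬ K.ideal i.1 ≤ p.asIdeal →
      i.1.2.fromSpec p ∈ V := fun i p hp => by
    by_contra hpV
    refine hp ?_
    rw [Scheme.IdealSheafData.vanishingIdeal_ideal]
    exact fun r hr => (PrimeSpectrum.mem_vanishingIdeal _ _).1 hr p hpV
  choose N₀ hN₀ using fun i : s => exists_pow_kill_lim hG π i.1.1 V i.1.2 (K.ideal i.1) (hK i)
  have hAR : ∀ i : s, ∃ c, ∀ n, ((K.ideal i.1).map (algebraMap Γ(X, i.1.1) (Cpl I i.1.1)) ^ (n + c) •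
      (⊤ : Submodule (Cpl I i.1.1) (lim hG i.1.1)) ⊓ etaKer hG π i.1.1) ≤
      (K.ideal i.1).map (algebraMap Γ(X, i.1.1) (Cpl I i.1.1)) ^ n • etaKer hG π i.1.1 := fun i => by
    have := isNoetherianRing_cpl (I := I) i.1.1 i.1.2
    have := (finite_lim_and_ker hG i.1.1 i.1.2).1
    exact exists_pow_inf_le _ _
  choose c hc using hAR
  let N := Finset.univ.sup N₀ + Finset.univ.sup c + 1
  let j := (K ^ N).subschemeι
  let _ : (K ^ N).subscheme.Over (Spec (CommRingCat.of A)) := ⟨j ≫ (X ↘ Spec (CommRingCat.of A))⟩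
  obtain ⟨MW, hMW, hQW, ⟨eW⟩⟩ := hclosed j rfl (by
    rw [Scheme.IdealSheafData.range_subschemeι, Scheme.IdealSheafData.support_pow _ _ (Nat.succ_ne_zero _)]
    exact (Scheme.IdealSheafData.coe_support_vanishingIdeal _).le)
  obtain ⟨γ, hγc, hγ⟩ := exists_gamma j rfl hG hMW eW
  have hM₁ := isCoh_push_of_isProper π hF
  have hM₂ := isCoh_push_finite j hMW
  obtain ⟨β, hβc, hβ⟩ := exists_pair I hαc hγc (exists_level_hom hG (isCohFormal_completion I hM₁)
    (isCohFormal_completion I hM₂) hαc hγc (fun i : s => i.1.1) (fun i => i.1.2) hcov fun i x h₁ h₂ =>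
      eq_zero_of_artinRees hG (K.ideal i.1) (etaKer hG π i.1.1) (hN₀ i) (hc i) x
        (fun n => hα n i.1.1 (x.1 n) (congrArg (fun z => z.1 n) h₁))
        (N := N) (by
          have hle₁ : N₀ i ≤ Finset.univ.sup N₀ := Finset.le_sup (Finset.mem_univ i)
          have hle₂ : c i ≤ Finset.univ.sup c := Finset.le_sup (Finset.mem_univ i)
          omega)
        (mem_smul_lim hG i.1.2 (K.ideal i.1 ^ N) x fun n => by
          have h := hγ n i.1.1 i.1.2 (x.1 n) (congrArg (fun z => z.1 n) h₂)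
          rw [Scheme.IdealSheafData.ker_subschemeι_app, Scheme.IdealSheafData.ideal_pow,
            Pi.pow_apply] at h
          exact h))
  exact ⟨_, isCoh_biprod hM₁ hM₂, hQ hQF hQW, β, hβc, hβ⟩

end Groth.Agent.Coherent.Existence
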