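import Groth.Agent.Coherent.Existence.PullSys

/-!
# Pullback commutes with completion
-/

set_option autoImplicit false
set_option backward.isDefEq.respectTransparency false

universe u

open CategoryTheory CategoryTheory.Limits AlgebraicGeometry Opposite TopologicalSpace
open Groth.Agent.Coherent Groth.Agent.Coherent.Serre

namespace Groth.Agent.Coherent.Existence

variable {A : Type u} [CommRing A] {X X' : Scheme.{u}} [X.Over (Spec (CommRingCat.of A))]
  [X'.Over (Spec (CommRingCat.of A))] {p : X' ⟶ X}
  (hp : p ≫ (X ↘ Spec (CommRingCat.of A)) = X' ↘ Spec (CommRingCat.of A)) {I : Ideal A}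

include hp in
theorem killedBy_pull (n : ℕ) (M : X.Modules) :
    Formal.KilledBy (I ^ n) ((Scheme.Modules.pullback p).obj (Formal.modPow I n M)) := fun c hc =>
  (pull_map_smulMod hp _ c).symm.trans
    ((congrArg _ (killedBy_modPow I n M c hc)).trans (Functor.map_zero _ _ _))

include hp in
/-- The comparison `(p^* M)/I^n → p^*(M/I^n)`. -/
noncomputable def pullComp (n : ℕ) (M : X.Modules) :
    Formal.modPow I n ((Scheme.Modules.pullback p).obj M) ⟶
      (Scheme.Modules.pullback p).obj (Formal.modPow I n M) :=
  modPowDesc I ((Scheme.Modules.pullback p).map (Formal.modPowπ I n M)) (killedBy_pull hp n M)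

include hp in
theorem killedBy_push' {n : ℕ} {N : X'.Modules} (hN : Formal.KilledBy (I ^ n) N) :
    Formal.KilledBy (I ^ n) ((Coh.push p).obj N) := fun c hc =>
  (push_map_smulMod hp _ c).symm.trans ((congrArg _ (hN c hc)).trans (Functor.map_zero _ _ _))

include hp in
theorem isIso_pullComp (n : ℕ) (M : X.Modules) : IsIso (pullComp (I := I) hp n M) := by
  let P := Scheme.Modules.pullback p
  let adj := Scheme.Modules.pullbackPushforwardAdjunction p
  let b := (adj.homEquiv _ _).symm (modPowDesc I
    (etaHom p M ≫ (Coh.push p).map (Formal.modPowπ I n (P.obj M)))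
    (killedBy_push' hp (killedBy_modPow I n (P.obj M))))
  have hb : P.map (Formal.modPowπ I n M) ≫ b = Formal.modPowπ I n (P.obj M) := by
    refine pull_hom_ext ?_
    have e : etaHom p (Formal.modPow I n M) ≫ (Coh.push p).map b =
        modPowDesc I (etaHom p M ≫ (Coh.push p).map (Formal.modPowπ I n (P.obj M)))
          (killedBy_push' hp (killedBy_modPow I n (P.obj M))) := by
      rw [← Adjunction.homEquiv_unit]; exact Equiv.apply_symm_apply _ _
    rw [Functor.map_comp, ← Category.assoc, ← etaHom_natural, Category.assoc, e]
    exact π_modPowDesc I _ _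
  have : Epi (P.map (Formal.modPowπ I n M)) := by
    have := Adjunction.leftAdjoint_preservesColimits.{0, 0} adj
    infer_instance
  refine ⟨b, ?_, ?_⟩
  · refine (cancel_epi (Formal.modPowπ I n (P.obj M))).1 ?_
    refine ((Category.assoc _ _ _).symm.trans (congrArg (· ≫ b) (π_modPowDesc I _ _))).trans ?_
    exact hb.trans (Category.comp_id _).symm
  · refine (cancel_epi (P.map (Formal.modPowπ I n M))).1 ?_
    refine ((Category.assoc _ _ _).symm.trans (congrArg (· ≫ _) hb)).trans ?_
    exact (π_modPowDesc I _ _).trans (Category.comp_id _).symm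

include hp in
theorem compat_pullComp (M : X.Modules) :
    Compat (P := Formal.completion I ((Scheme.Modules.pullback p).obj M))
      (G := pullSys p (Formal.completion I M)) fun n => pullComp (I := I) hp (n + 1) M := fun n => by
  refine (cancel_epi (Formal.modPowπ I (n + 1 + 1) _)).1 ?_
  refine (π_tr_completion_assoc I _ n _).trans ((π_modPowDesc I _ _).trans ?_)
  refine Eq.trans ?_ (Category.assoc _ _ _)
  refine Eq.trans ?_
    (congrArg (· ≫ tr (pullSys p (Formal.completion I M)) n) (π_modPowDesc I _ _).symm)
  exact (congrArg (Scheme.Modules.pullback p).map (π_tr_completion I M n).symm).trans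
    (Functor.map_comp _ _ _)

include hp in
/-- Pullback commutes with completion. -/
theorem nonempty_completion_pull (M : X.Modules) :
    Nonempty (Formal.completion I ((Scheme.Modules.pullback p).obj M) ≅
      pullSys p (Formal.completion I M)) := by
  let τ := NatTrans.ofOpSequence (F := Formal.completion I ((Scheme.Modules.pullback p).obj M))
    (G := pullSys p (Formal.completion I M)) (fun n => pullComp (I := I) hp (n + 1) M)
    fun n => compat_pullComp hp M n
  have : ∀ k, IsIso (τ.app k) := fun k => by
    obtain ⟨k⟩ := k
    exact isIso_pullComp hp (k + 1) M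
  have : IsIso τ := NatIso.isIso_of_isIso_app τ
  exact ⟨asIso τ⟩

end Groth.Agent.Coherent.Existence
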