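import Groth.Agent.Coherent.Existence.FullFaithful
import Groth.Agent.Coherent.FormalSupport

/-!
# Support of the internal Hom
-/

set_option autoImplicit false
set_option backward.isDefEq.respectTransparency false

universe u

open CategoryTheory CategoryTheory.Limits AlgebraicGeometry Opposite TopologicalSpace
open Groth.Agent.Coherent

namespace Groth.Agent.Coherent.Existence

variable {X : Scheme.{u}}

/-- Sections vanish outside the support. -/
theorem eq_zero_of_disjoint_support (F : X.Modules) (W : X.Opens) (hW : ∀ y ∈ W, y ∉ CohB1.support F)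
    (a : Γ(F, W)) : a = 0 := by
  refine AmpleLib.sec_ext F a 0 fun y hy => ?_
  have hsub : Subsingleton (F.presheaf.stalk y) := not_not.1 (hW y hy)
  obtain ⟨W', hyW', i, j, h⟩ := F.presheaf.germ_eq y hy hy a 0 (hsub.elim _ _)
  exact ⟨W', leOfHom i, hyW', h⟩

/-- `Hom(F, N)` is supported in the support of `F`. -/
theorem support_internalHom_subset (F N : X.Modules) (hF : IsClosed (CohB1.support F)) :
    CohB1.support (internalHom F N) ⊆ CohB1.support F := by
  intro z hz
  by_contra hzF
  refine hz (subsingleton_of_forall_eq 0 fun t => ?_)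
  obtain ⟨V, hzV, φ, rfl⟩ := TopCat.Presheaf.exists_germ_eq (internalHom F N).presheaf t
  let W : X.Opens := V ⊓ ⟨(CohB1.support F)ᶜ, hF.isOpen_compl⟩
  have h0 : resM (internalHom F N) (inf_le_left : W ≤ V) φ = 0 := by
    refine locHom_ext (φ := secHom (resM (internalHom F N) (inf_le_left : W ≤ V) φ)) fun W' hW a => ?_
    rw [eq_zero_of_disjoint_support F W' (fun y hy => (hW hy).2) a]
    exact (map_zero ((secHom (resM (internalHom F N) (inf_le_left : W ≤ V) φ)).1 W' hW)).trans rfl
  refine ((internalHom F N).presheaf.germ_res_apply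
    (homOfLE (inf_le_left : W ≤ V)) z ⟨hzV, hzF⟩ φ).symm.trans ?_
  exact (congrArg _ h0).trans (map_zero _)

end Groth.Agent.Coherent.Existence
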