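import Groth.Agent.Coherent.Existence.Embedding
import Groth.Agent.Coherent.Existence.HomSupport
import Groth.Agent.Coherent.ProperFinite
import Groth.Agent.Coherent.ProperOverApps
import Groth.Agent.Coherent.Devissage

/-!
# Supports of coherent formal modules
-/

set_option autoImplicit false
set_option backward.isDefEq.respectTransparency false

universe u

open CategoryTheory CategoryTheory.Limits AlgebraicGeometry Opposite TopologicalSpace
open Groth.Agent.Coherent Groth.Agent.Coherent.Serre

namespace Groth.Agent.Coherent.Existence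

variable {A : Type u} [CommRing A] [IsNoetherianRing A] {X : Scheme.{u}}
  [X.Over (Spec (CommRingCat.of A))] [IsLocallyNoetherian X] {I : Ideal A} {G : ℕᵒᵖ ⥤ X.Modules}

/-- All levels vanish on an affine open where the first one does. -/
theorem sections_eq_zero_of_first (hG : Formal.IsCohFormal I G) {V : X.Opens} (hV : IsAffineOpen V)
    (h : ∀ a : Γ(G.obj (op 0), V), a = 0) : ∀ (n : ℕ) (a : Γ(G.obj (op n), V)), a = 0 := by
  intro n
  induction n with
  | zero => exact h
  | succ n ih =>
    let J := openIdeal I V
    let M := (⊤ : Submodule Γ(X, V) Γ(G.obj (op (n + 1)), V))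
    have h1 : M ≤ J ^ (n + 1) • M := fun a _ => (tr_app_eq_zero_iff hG V hV n a).1 (ih _)
    have h2 : M ≤ J ^ (n + 1) • (J ^ (n + 1) • M) := h1.trans (Submodule.smul_mono le_rfl h1)
    rw [← Submodule.smul_assoc, smul_eq_mul, ← pow_add] at h2
    intro a
    have h3 := Submodule.smul_mono_left
      (Ideal.pow_le_pow_right (show n + 1 + 1 ≤ n + 1 + (n + 1) by omega)) (h2 (Submodule.mem_top (x := a)))
    refine Submodule.smul_induction_on h3 (p := fun y => y = 0) (fun r hr y _ => ?_)
      fun x y hx hy => by rw [hx, hy, add_zero]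
    exact openIdeal_smul_eq_zero hG V (n + 1) hr y

theorem subsingleton_sections_of_disjoint (hG : Formal.IsCohFormal I G) {V : X.Opens}
    (hV : IsAffineOpen V) (h : ∀ y ∈ V, y ∉ CohB1.support (G.obj (op 0))) (n : ℕ) :
    Subsingleton Γ(G.obj (op n), V) :=
  subsingleton_of_forall_eq 0
    (sections_eq_zero_of_first hG hV (eq_zero_of_disjoint_support _ V h) n)

/-- All levels are supported where the first one is. -/
theorem support_obj_subset (hG : Formal.IsCohFormal I G) (n : ℕ) :
    CohB1.support (G.obj (op n)) ⊆ CohB1.support (G.obj (op 0)) := fun x hx => by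
  by_contra hx0
  exact notMem_support_of_subsingleton _
    (U := ⟨(CohB1.support (G.obj (op 0)))ᶜ,
      (isClosed_support _ (locallyFinGen_of_isFT _ (hG.1 0).2)).isOpen_compl⟩) hx0
    (fun V hV hle => subsingleton_sections_of_disjoint hG hV (fun y hy => hle hy) n) hx

omit [IsNoetherianRing A] [IsLocallyNoetherian X] in
theorem support_modPow_subset_support (n : ℕ) (M : X.Modules) :
    CohB1.support (Formal.modPow I n M) ⊆ CohB1.support M :=
  support_subset_of_epi (Formal.modPowπ I n M)

omit [IsNoetherianRing A] [X.Over (Spec (CommRingCat.of A))] [IsLocallyNoetherian X] in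
/-- Supports of direct images under closed maps. -/
theorem support_push_subset_image {Y : Scheme.{u}} (p : Y ⟶ X) (hp : IsClosedMap p) (F : Y.Modules)
    (hF : IsClosed (CohB1.support F)) :
    CohB1.support ((Coh.push p).obj F) ⊆ p '' CohB1.support F := fun x hx => by
  by_contra hx0
  refine notMem_support_of_subsingleton _
    (U := ⟨(p '' CohB1.support F)ᶜ, (hp _ hF).isOpen_compl⟩) hx0 (fun V _ hle => ?_) hx
  exact subsingleton_of_forall_eq 0 fun a => eq_zero_of_disjoint_support F (p ⁻¹ᵁ V)
    (fun y hy hys => hle hy ⟨y, hys, rfl⟩) a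

omit [IsNoetherianRing A] [IsLocallyNoetherian X] in
theorem isProperOver_support_biprod [LocallyOfFiniteType (X ↘ Spec (CommRingCat.of A))]
    {M N : X.Modules} (hM : Coh.IsCoh M) (hN : Coh.IsCoh N)
    (hMs : ClSub.IsProperOver (X ↘ Spec (CommRingCat.of A)) (CohB1.support M))
    (hNs : ClSub.IsProperOver (X ↘ Spec (CommRingCat.of A)) (CohB1.support N)) :
    ClSub.IsProperOver (X ↘ Spec (CommRingCat.of A)) (CohB1.support (M ⊞ N)) :=
  (isProperOver_support_shortExact (X ↘ Spec (CommRingCat.of A)) _
    (ShortComplex.Splitting.ofHasBinaryBiproduct M N).shortExact hM.2 hN.2).2 ⟨hMs, hNs⟩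

end Groth.Agent.Coherent.Existence
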