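import Groth.Agent.Coherent.Existence.Proper
import Groth.Agent.Coherent.Existence.PullCompletion
import Groth.Agent.Coherent.Existence.SysSupport
import Groth.Agent.Coherent.RpushSupport
import Groth.Agent.Coherent.SupportPullback

/-!
# Formal modules with proper support on an open subscheme of a proper scheme
-/

set_option autoImplicit false
set_option backward.isDefEq.respectTransparency false

universe u

open CategoryTheory CategoryTheory.Limits AlgebraicGeometry Opposite TopologicalSpace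
open Groth.Agent.Coherent Groth.Agent.Coherent.Serre Groth.Agent.PicLib

namespace Groth.Agent.Coherent.Existence

variable {A : Type u} [CommRing A] {U X : Scheme.{u}} [X.Over (Spec (CommRingCat.of A))]
  [U.Over (Spec (CommRingCat.of A))] {j : U ⟶ X} [IsOpenImmersion j]
  (hj : j ≫ (X ↘ Spec (CommRingCat.of A)) = U ↘ Spec (CommRingCat.of A)) {I : Ideal A}

omit [X.Over (Spec (CommRingCat.of A))] [U.Over (Spec (CommRingCat.of A))] in
theorem nonempty_pull_push_iso (G : ℕᵒᵖ ⥤ U.Modules) : Nonempty (pullSys j (pushSys j G) ≅ G) := by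
  let P := Scheme.Modules.pullback j
  let e : Coh.push j ⋙ P ≅ 𝟭 U.Modules :=
    Functor.isoWhiskerLeft _ (Scheme.Modules.restrictFunctorIsoPullback j).symm ≪≫
      Scheme.Modules.restrictFunctorAdjCounitIso j
  exact ⟨Functor.associator G (Coh.push j) P ≪≫ Functor.isoWhiskerLeft G e ≪≫ Functor.rightUnitor G⟩

omit [X.Over (Spec (CommRingCat.of A))] [U.Over (Spec (CommRingCat.of A))] in
theorem exists_mem_rad_affine {S : Set X} (hS : IsClosed S) (hSj : S ⊆ j.opensRange) (x : X) :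
    ∃ V : X.Opens, IsAffineOpen V ∧ x ∈ V ∧ (V ≤ j.opensRange ∨ ∀ y ∈ V, y ∉ S) := by
  by_cases hx : x ∈ j.opensRange
  · obtain ⟨V, hV, hxV, hVU⟩ := exists_isAffineOpen_mem_and_subset hx
    exact ⟨V, hV, hxV, Or.inl hVU⟩
  · obtain ⟨V, hV, hxV, hVU⟩ := exists_isAffineOpen_mem_and_subset
      (U := ⟨Sᶜ, hS.isOpen_compl⟩) (show x ∈ Sᶜ from fun h => hx (hSj h))
    exact ⟨V, hV, hxV, Or.inr fun y hy => hVU hy⟩

variable [IsNoetherianRing A] [IsLocallyNoetherian X] [IsLocallyNoetherian U]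

omit [IsLocallyNoetherian U] [U.Over (Spec (CommRingCat.of A))] in
/-- A criterion for `M/I^n M → N` to be an isomorphism. -/
theorem isIso_desc_of_cover {n : ℕ} {M N : X.Modules} (hM : Coh.IsCoh M) (hN : Coh.IsCoh N) (T : M ⟶ N)
    (h : Formal.smulFamily (I ^ n) M ≫ T = 0) {ι : Type*} (V : ι → X.Opens)
    (hV : ∀ i, IsAffineOpen (V i)) (hc : ∀ x, ∃ i, x ∈ V i)
    (hsurj : ∀ i, Function.Surjective (T.app (V i)))
    (hker : ∀ i (a : Γ(M, V i)), T.app (V i) a = 0 →
      a ∈ openIdeal I (V i) ^ n • (⊤ : Submodule Γ(X, V i) Γ(M, V i))) :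
    IsIso (cokernel.desc _ T h) := by
  let d : Formal.modPow I n M ⟶ N := cokernel.desc _ T h
  have hd : Formal.modPowπ I n M ≫ d = T := cokernel.π_desc _ _ _
  have := (isCoh_modPow I hM n).1
  have := hN.1
  have he : Epi d := epi_of_cover_surjective V hV hc d fun i b => by
    obtain ⟨a, ha⟩ := hsurj i b
    exact ⟨(Formal.modPowπ I n M).app (V i) a,
      ((comp_app_eq _ _ _ a).symm.trans (app_congr hd (V i) a)).trans ha⟩
  have hm : Mono d := by
    refine Preadditive.mono_of_isZero_kernel _ ((IsZero.iff_id_eq_zero _).2 ?_)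
    rw [← cancel_mono (kernel.ι _), Category.id_comp, zero_comp]
    have := (isCoh_kernel d (isCoh_modPow I hM n) hN.1).1
    refine hom_eq_zero_of_cover V hV hc _ fun i k => ?_
    obtain ⟨a, ha⟩ := modPowπ_app_surjective' I hM n (hV i) ((kernel.ι d).app (V i) k)
    rw [← ha, modPowπ_app_eq_zero_iff I hM n (hV i)]
    refine hker i a (((app_congr hd (V i) a).symm.trans (comp_app_eq _ _ _ a)).trans ?_)
    rw [ha]
    exact kernel_ι_app_zero _ _ _
  exact isIso_of_mono_of_epi d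

omit [IsNoetherianRing A] [IsLocallyNoetherian X] [IsLocallyNoetherian U] [IsOpenImmersion j] in
include hj in
theorem smulFamily_push_comp {n : ℕ} {M N : U.Modules} (T : M ⟶ N)
    (hN : Formal.KilledBy (I ^ n) N) :
    Formal.smulFamily (I ^ n) ((Coh.push j).obj M) ≫ (Coh.push j).map T = 0 :=
  Sigma.hom_ext _ _ fun c => by
    rw [comp_zero, ← Category.assoc, ι_smulFamily, smulMod_natural, killedBy_push' hj hN c c.2,
      comp_zero]

include hj in
/-- The direct image on sections over a cover. -/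
theorem isIso_desc_push {G : ℕᵒᵖ ⥤ U.Modules} (hG : Formal.IsCohFormal I G) {S : Set U}
    (hS : IsClosed (j '' S)) (hGS : CohB1.support (G.obj (op 0)) ⊆ S)
    (hcoh : ∀ n, Coh.IsCoh ((Coh.push j).obj (G.obj (op n)))) (n : ℕ) :
    IsIso (cokernel.desc _ ((Coh.push j).map (tr G n))
      (smulFamily_push_comp (I := I) hj (tr G n) (hG.2.1 n))) := by
  choose V hV hxV hVc using exists_mem_rad_affine (j := j) hS (fun x ⟨z, _, hz⟩ => ⟨z, hz⟩)
  have hzero : ∀ x, (∀ y ∈ V x, y ∉ j '' S) → ∀ (k : ℕ) (a : Γ(G.obj (op k), j ⁻¹ᵁ V x)), a = 0 :=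
    fun x hx k a => eq_zero_of_disjoint_support (G.obj (op k)) (j ⁻¹ᵁ V x)
      (fun y hy hys => hx (j y) hy ⟨y, hGS (support_obj_subset hG k hys), rfl⟩) a
  refine isIso_desc_of_cover (hcoh (n + 1)) (hcoh n) _ _ V hV (fun x => ⟨x, hxV x⟩) (fun x b => ?_)
    fun x a ha => ?_
  · rcases hVc x with h1 | h1
    · exact tr_app_surjective hG (j ⁻¹ᵁ V x) ((hV x).preimage_of_isOpenImmersion j h1) n b
    · exact ⟨0, (map_zero _).trans (hzero x h1 n b).symm⟩
  · rcases hVc x with h1 | h1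
    · have h2 := (tr_app_eq_zero_iff hG (j ⁻¹ᵁ V x) ((hV x).preimage_of_isOpenImmersion j h1) n a).1 ha
      rw [openIdeal_preimage hj, ← Ideal.map_pow] at h2
      exact mem_push_of_mem_map (G.obj (op (n + 1))) (openIdeal I (V x) ^ (n + 1)) _ h2
    · have h2 : (show Γ(G.obj (op (n + 1)), j ⁻¹ᵁ V x) from a) = 0 := hzero x h1 (n + 1) _
      exact (congrArg (· ∈ _) h2).mpr (zero_mem _)

include hj in
theorem isCohFormal_pushSys_open {G : ℕᵒᵖ ⥤ U.Modules} (hG : Formal.IsCohFormal I G) {S : Set U}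
    (hS : IsClosed (j '' S)) (hGS : CohB1.support (G.obj (op 0)) ⊆ S)
    (hcoh : ∀ n, Coh.IsCoh ((Coh.push j).obj (G.obj (op n)))) :
    Formal.IsCohFormal I (pushSys j G) :=
  ⟨hcoh, fun n => killedBy_push' hj (hG.2.1 n), fun n =>
    ⟨smulFamily_push_comp (I := I) hj (tr G n) (hG.2.1 n), isIso_desc_push hj hG hS hGS hcoh n⟩⟩

omit [IsNoetherianRing A] [IsLocallyNoetherian X] in
theorem openIdeal_le_prime {V : X.Opens} (hV : IsAffineOpen V) {x : X} (hxV : x ∈ V)
    (hx : (X ↘ Spec (CommRingCat.of A)) x ∈ PrimeSpectrum.zeroLocus (I : Set A)) :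
    openIdeal I V ≤ (hV.primeIdealOf ⟨x, hxV⟩).asIdeal := by
  refine Ideal.map_le_iff_le_comap.2 fun c hc => ?_
  rw [Ideal.mem_comap]
  by_contra hn
  have h1 : x ∈ X.basicOpen ((X.presheaf.map (homOfLE le_top).op) (baseHom A X c) : Γ(X, V)) := by
    have h2 : (hV.primeIdealOf ⟨x, hxV⟩) ∈ PrimeSpectrum.basicOpen
        ((X.presheaf.map (homOfLE le_top).op) (baseHom A X c) : Γ(X, V)) := hn
    rw [← hV.fromSpec_preimage_basicOpen] at h2
    have h3 : hV.fromSpec (hV.primeIdealOf ⟨x, hxV⟩) ∈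
        X.basicOpen ((X.presheaf.map (homOfLE le_top).op) (baseHom A X c) : Γ(X, V)) := h2
    rwa [hV.fromSpec_primeIdealOf] at h3
  rw [Scheme.basicOpen_res] at h1
  have h4 : x ∈ (X ↘ Spec (CommRingCat.of A)) ⁻¹ᵁ
      (Spec (CommRingCat.of A)).basicOpen ((Scheme.ΓSpecIso (CommRingCat.of A)).inv c) := by
    rw [Scheme.preimage_basicOpen]
    exact h1.2
  rw [basicOpen_eq_of_affine] at h4
  exact (show c ∉ _ from h4) (hx hc)

variable [IsAdicComplete I A] [IsProper (X ↘ Spec (CommRingCat.of A))]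

/-- The support of an algebraization lies in the open, when that of the first level does. -/
theorem support_subset_of_completion {M : X.Modules} (hM : Coh.IsCoh M) {S : Set X} (hS : IsClosed S)
    {O : X.Opens} (hSO : S ⊆ O) {H : ℕᵒᵖ ⥤ X.Modules} (e : Formal.completion I M ≅ H)
    (hH : CohB1.support (H.obj (op 0)) ⊆ S) : CohB1.support M ⊆ O := by
  let f := X ↘ Spec (CommRingCat.of A)
  have hcl : IsClosed (CohB1.support M ∩ (O : Set X)ᶜ) :=
    (isClosed_support M (locallyFinGen_of_isFT M hM.2)).inter O.isOpen.isClosed_compl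
  by_contra hne
  obtain ⟨x₀, hx₀, hx₀O⟩ := Set.not_subset.1 hne
  obtain ⟨m, hm, hle⟩ := Ideal.exists_le_maximal (f x₀).asIdeal (f x₀).isPrime.ne_top
  obtain ⟨x, ⟨hxM, hxO⟩, hxm⟩ : ∃ x ∈ CohB1.support M ∩ (O : Set X)ᶜ,
      f x = (⟨m, hm.isPrime⟩ : PrimeSpectrum A) :=
    ((PrimeSpectrum.le_iff_specializes (f x₀) ⟨m, hm.isPrime⟩).1 hle).mem_closed
      (f.isClosedMap _ hcl) ⟨x₀, ⟨hx₀, hx₀O⟩, rfl⟩
  have hIx : f x ∈ PrimeSpectrum.zeroLocus (I : Set A) := by
    rw [hxm]
    exact (IsAdicComplete.le_jacobson_bot I).trans (sInf_le ⟨bot_le, hm⟩)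
  obtain ⟨V, hV, hxV, hVS⟩ := exists_isAffineOpen_mem_and_subset
    (U := ⟨Sᶜ, hS.isOpen_compl⟩) (show x ∈ Sᶜ from fun h => hxO (hSO h))
  have h0 : ∀ a : Γ(M, V), a ∈ openIdeal I V • (⊤ : Submodule Γ(X, V) Γ(M, V)) := fun a => by
    have := (modPowπ_app_eq_zero_iff I hM 1 hV a).1
      (app_injective_of_mono (e.hom.app (op 0)) V ((eq_zero_of_disjoint_support (H.obj (op 0)) V
        (fun y hy hys => hVS hy (hH hys)) _).trans (map_zero _).symm))
    rwa [pow_one] at this
  have hfg := ((isCoh_iff_finite_sections _).1 hM).2 V hV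
  obtain ⟨r, hr, hr0⟩ := Submodule.exists_sub_one_mem_and_smul_eq_zero_of_fg_of_le_smul
    (openIdeal I V) (⊤ : Submodule Γ(X, V) Γ(M, V)) hfg.fg_top fun a _ => h0 a
  have hxr : x ∈ X.basicOpen r := by
    have h1 : (hV.primeIdealOf ⟨x, hxV⟩) ∈ PrimeSpectrum.basicOpen r := fun hmem =>
      (hV.primeIdealOf ⟨x, hxV⟩).isPrime.ne_top ((Ideal.eq_top_iff_one _).2 (by
        have := sub_mem hmem (openIdeal_le_prime hV hxV hIx hr)
        rwa [sub_sub_cancel] at this))
    rw [← hV.fromSpec_preimage_basicOpen] at h1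
    have h2 : hV.fromSpec (hV.primeIdealOf ⟨x, hxV⟩) ∈ X.basicOpen r := h1
    rwa [hV.fromSpec_primeIdealOf] at h2
  have := hM.1
  refine hxM (subsingleton_of_forall_eq 0 fun a => ?_)
  obtain ⟨g, w, hg, hw⟩ := QCohLoc.exists_smul_stalk_eq_germ M hV hxV a
  have h3 := congrArg (M.presheaf.germ V x hxV) (hr0 w trivial)
  rw [QCohLoc.germ_smul', map_zero, ← hw, ← smul_assoc, smul_eq_mul, IsUnit.smul_eq_zero
    (((Scheme.mem_basicOpen _ _ _ hxV).1 hxr).mul ((Scheme.mem_basicOpen _ _ _ hxV).1 hg))] at h3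
  exact h3

include hj in
/-- Formal modules with proper support on an open of a proper scheme are completions. -/
theorem algebraizable_of_openImmersion [LocallyOfFiniteType (U ↘ Spec (CommRingCat.of A))]
    [LocallyOfFiniteType j] {G : ℕᵒᵖ ⥤ U.Modules}
    (hG : Formal.IsCohFormal I G)
    (hs : ClSub.IsProperOver (U ↘ Spec (CommRingCat.of A)) (CohB1.support (G.obj (op 0)))) :
    ∃ M : U.Modules, Coh.IsCoh M ∧
      ClSub.IsProperOver (U ↘ Spec (CommRingCat.of A)) (CohB1.support M) ∧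
      Nonempty (Formal.completion I M ≅ G) := by
  have := hasInjectiveResolutions_modules U
  have hcl : IsClosed (CohB1.support (G.obj (op 0))) := hs.choose
  have hS : IsClosed (j '' CohB1.support (G.obj (op 0))) :=
    (isProperOver_image_of_isSeparated (f := U ↘ Spec (CommRingCat.of A))
      (q := X ↘ Spec (CommRingCat.of A)) j hj hs).choose
  have hjp : ∀ n, ClSub.IsProperOver j (CohB1.support (G.obj (op n))) := fun n => by
    refine Et18.IsProperOver.of_subset ?_ (isClosed_support _ (locallyFinGen_of_isFT _ (hG.1 n).2))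
      (support_obj_subset hG n)
    obtain ⟨h, hp⟩ := hs
    refine ⟨h, ?_⟩
    rw [← hj, ← Category.assoc] at hp
    exact IsProper.of_comp _ (X ↘ Spec (CommRingCat.of A))
  have hcoh : ∀ n, Coh.IsCoh ((Coh.push j).obj (G.obj (op n))) := fun n =>
    Groth.Agent.Coherent.isCoh_of_iso ((Coh.push j).rightDerivedZeroIsoSelf.app (G.obj (op n)))
      (isCoh_rpush_of_isProperOver j (hG.1 n) (hjp n) 0)
  have hG' := isCohFormal_pushSys_open hj hG hS subset_rfl hcoh
  obtain ⟨M₀, hM₀, ⟨e⟩⟩ := algebraizable_of_proper X (pushSys j G) hG'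
  have hsupp : CohB1.support M₀ ⊆ (j.opensRange : Set X) :=
    support_subset_of_completion hM₀ hS (fun x ⟨z, _, hz⟩ => ⟨z, hz⟩) e
      (fun x hx => by
        by_contra hxS
        exact notMem_support_of_subsingleton _ (U := ⟨_, hS.isOpen_compl⟩) hxS
          (fun V _ hle => subsingleton_of_forall_eq 0 fun a => eq_zero_of_disjoint_support
            (G.obj (op 0)) (j ⁻¹ᵁ V) (fun y hy hys => hle hy ⟨y, hys, rfl⟩) a) hx)
  refine ⟨(Scheme.Modules.pullback j).obj M₀, ?_, ?_, ?_⟩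
  · exact ⟨(by have := hM₀.1; exact EGA43.InjFibre.isQCoh_pullback j M₀),
      isFT_pullback_qcoh j hM₀.1 hM₀.2⟩
  · rw [support_pullback_qcoh j hM₀.1 hM₀.2]
    let J := Et18.redSub (CohB1.support M₀) (isClosed_support M₀ (locallyFinGen_of_isFT M₀ hM₀.2))
    have hJr : Set.range J.subschemeι ⊆ Set.range j := by
      rw [Et18.range_redSub]; exact hsupp
    let k := IsOpenImmersion.lift j J.subschemeι hJr
    have hk : k ≫ j = J.subschemeι := IsOpenImmersion.lift_fac _ _ _
    have : IsClosedImmersion k := by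
      have : IsClosedImmersion (k ≫ j) := hk ▸ inferInstance
      exact IsClosedImmersion.of_comp k j
    have hrange : Set.range k = j.base ⁻¹' CohB1.support M₀ := by
      ext z
      refine ⟨?_, fun hz => ?_⟩
      · rintro ⟨t, rfl⟩
        show j (k t) ∈ CohB1.support M₀
        rw [← Scheme.Hom.comp_apply, hk]
        exact (Et18.range_redSub _ _).le ⟨t, rfl⟩
      · obtain ⟨t, ht⟩ := (Et18.range_redSub _ (isClosed_support M₀
          (locallyFinGen_of_isFT M₀ hM₀.2))).ge hz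
        refine ⟨t, j.isOpenEmbedding.injective ?_⟩
        rw [← Scheme.Hom.comp_apply, hk]
        exact ht
    rw [← hrange]
    have : IsProper (k ≫ (U ↘ Spec (CommRingCat.of A))) := by
      rw [← hj, ← Category.assoc, hk]; infer_instance
    exact Et18.isProperOver_of_isClosedImmersion _ k
  · obtain ⟨e₁⟩ := nonempty_completion_pull (I := I) hj M₀
    obtain ⟨e₂⟩ := nonempty_pull_push_iso (j := j) G
    exact ⟨e₁ ≪≫ Functor.isoWhiskerRight e (Scheme.Modules.pullback j) ≪≫ e₂⟩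

end Groth.Agent.Coherent.Existence
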