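import Groth.Agent.Coherent.Existence.ClosedAlgebraize
import Groth.Agent.RelVALib.VBEmbed
import Groth.Agent.SymAlgLib.Consequences
import Groth.Agent.H8Lim.RelSpecMap

/-!
# Algebraizing a compatible system of finite schemes over the thickenings
-/

set_option autoImplicit false
set_option backward.isDefEq.respectTransparency false

universe u

open CategoryTheory CategoryTheory.Limits AlgebraicGeometry Opposite TopologicalSpace
open Groth.Agent.Coherent Groth.Agent.Coherent.Serre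

namespace Groth.Agent.Coherent.Existence

section Alg

variable {P Q X : Scheme.{u}}

/-- The direct image of the structure sheaf as the module underlying the direct image algebra. -/
noncomputable def strToAlg (a : P ⟶ X) [QuasiCompact a] [QuasiSeparated a] :
    (Coh.push a).obj (Coh.structureModule P) ⟶ (RelSpec.QCAlg.directImage a).toModule :=
  ⟨letI := (RelSpec.QCAlg.directImage a).moduleSect
   PresheafOfModules.homMk
    { app := fun U => AddCommGrpCat.ofHom (AddMonoidHom.id Γ(P, a ⁻¹ᵁ U.unop))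
      naturality := fun _ _ _ => rfl }
    fun _ _ _ => rfl⟩

theorem strToAlg_app (a : P ⟶ X) [QuasiCompact a] [QuasiSeparated a] (U : X.Opens)
    (s : Γ(P, a ⁻¹ᵁ U)) : (strToAlg a).app U s = s := rfl

variable (a : P ⟶ X) (b : Q ⟶ X) (t : P ⟶ Q) (h : t ≫ b = a)

/-- The map of direct image algebras. -/
noncomputable def algTrans [QuasiCompact a] [QuasiSeparated a] [QuasiCompact b] [QuasiSeparated b] :
    RelSpec.QCAlg.directImage b ⟶ RelSpec.QCAlg.directImage a :=
  ⟨AffAlg.algHom b a t h, AffAlg.algHom_comm b a t h⟩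

theorem overHom_strToAlg [QuasiCompact a] [QuasiSeparated a] [QuasiCompact b] [QuasiSeparated b] :
    overHom a b t h ≫ strToAlg a =
      strToAlg b ≫ RelSpec.QCAlg.Hom.toModuleMap (algTrans a b t h) := by
  refine Scheme.Modules.hom_ext _ _ fun U => ?_
  ext (s : Γ(Q, b ⁻¹ᵁ U))
  show t.appLE (b ⁻¹ᵁ U) (a ⁻¹ᵁ U) _ s = (AffAlg.algHom b a t h).app (op U) s
  rw [RelVALib.algHom_app_eq a b t h U]
  rfl

theorem toSpec_comp {A : RelSpec.QCAlg X} (φ : A.presheaf ⟶ b.base _* Q.presheaf) :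
    t ≫ H8Lim.toSpec b φ = H8Lim.toSpec a (φ ≫ AffAlg.algHom b a t h) := by
  refine (H8Lim.preCover a).hom_ext _ _ fun U => ?_
  change (a ⁻¹ᵁ U.1).ι ≫ t ≫ _ = (a ⁻¹ᵁ U.1).ι ≫ _
  have e : a ⁻¹ᵁ U.1 ≤ t ⁻¹ᵁ (b ⁻¹ᵁ U.1) := le_of_eq (by rw [← h]; rfl)
  rw [← Scheme.Hom.resLE_comp_ι_assoc t e, H8Lim.ι_toSpec, H8Lim.ι_toSpec, H8Lim.toSpecChart,
    H8Lim.toSpecChart, H8Lim.algComp, H8Lim.algComp, NatTrans.comp_app,
    RelVALib.algHom_app_eq a b t h U.1, Spec.map_comp, Category.assoc,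
    Scheme.Opens.toSpecΓ_SpecMap_appLE_assoc]

end Alg

variable {A : Type u} [CommRing A] [IsNoetherianRing A] {I : Ideal A} [IsAdicComplete I A]
  {X : Scheme.{u}} [X.Over (Spec (CommRingCat.of A))] [IsSeparated (X ↘ Spec (CommRingCat.of A))]
  [LocallyOfFiniteType (X ↘ Spec (CommRingCat.of A))] [QuasiCompact (X ↘ Spec (CommRingCat.of A))]

/-- Compatible closed immersions of a system of finite schemes into one affine scheme of finite type. -/
theorem exists_affine_embedding {Y : ℕ → Scheme.{u}} (ζ : ∀ n, Y n ⟶ X) [∀ n, IsFinite (ζ n)]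
    (q : ∀ n, Y n ⟶ Spec (CommRingCat.of (A ⧸ I ^ (n + 1))))
    (hq : ∀ n, ζ n ≫ (X ↘ Spec (CommRingCat.of A)) = q n ≫ CohB1.specQuot I n)
    (t : ∀ n, Y n ⟶ Y (n + 1)) (ht : ∀ n, t n ≫ ζ (n + 1) = ζ n)
    (hcart : ∀ n, IsPullback (t n) (q n) (q (n + 1)) (CohB1.specQuotTrans I n))
    (hp : IsProper (ζ 0 ≫ (X ↘ Spec (CommRingCat.of A)))) :
    ∃ (V : Scheme.{u}) (π : V ⟶ X) (i : ∀ n, Y n ⟶ V), IsAffineHom π ∧ LocallyOfFiniteType π ∧
      (∀ n, i n ≫ π = ζ n) ∧ (∀ n, IsClosedImmersion (i n)) ∧ ∀ n, t n ≫ i (n + 1) = i n := by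
  have : IsLocallyNoetherian X := LocallyOfFiniteType.isLocallyNoetherian (X ↘ Spec (CommRingCat.of A))
  let G := strSys ζ t ht
  have hG : Formal.IsCohFormal I G := isCohFormal_strSys ζ q hq t ht hcart
  have hs : ClSub.IsProperOver (X ↘ Spec (CommRingCat.of A)) (CohB1.support (G.obj (op 0))) := by
    refine Et18.IsProperOver.of_subset (isProperOver_image_of_universallyClosed
      (f := ζ 0 ≫ (X ↘ Spec (CommRingCat.of A))) (q := X ↘ Spec (CommRingCat.of A)) (ζ 0) rfl
      (Et18.isProperOver_of_isClosedImmersion (ζ 0 ≫ (X ↘ Spec (CommRingCat.of A))) (𝟙 _)))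
      (isClosed_support _ (locallyFinGen_of_isFT _ (hG.1 0).2)) ?_
    have : IsLocallyNoetherian (Y 0) := LocallyOfFiniteType.isLocallyNoetherian (ζ 0)
    exact (support_push_subset_image (ζ 0) (ζ 0).isClosedMap (Coh.structureModule (Y 0))
      (isClosed_support _ (locallyFinGen_of_isFT _ (isCoh_structureModule (Y 0)).2))).trans
      (Set.image_mono fun x _ => ⟨x, rfl⟩)
  obtain ⟨M, hM, -, ⟨e⟩⟩ := algebraizable_of_properSupport X G hG hs
  let α : ∀ n, M ⟶ (RelSpec.QCAlg.directImage (ζ n)).toModule := fun n =>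
    Formal.modPowπ I (n + 1) M ≫ e.hom.app (op n) ≫ strToAlg (ζ n)
  have hαt : ∀ n, α (n + 1) ≫ RelSpec.QCAlg.Hom.toModuleMap (algTrans (ζ n) (ζ (n + 1)) (t n) (ht n)) =
      α n := fun n => by
    simp only [α, Category.assoc]
    rw [← overHom_strToAlg, ← tr_strSys ζ t ht n, ← Category.assoc (e.hom.app _),
      ← compat_natTrans e.hom n, Category.assoc, ← Category.assoc (Formal.modPowπ I (n + 1 + 1) M)]
    erw [π_tr_completion I M n]
  have := hM.1
  choose ψ hψ huniq using fun n => SymAlgLib.isSymAlg_symAlg M (RelSpec.QCAlg.directImage (ζ n)) (α n)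
  let V := SymAlgLib.symAlg M
  have hψt : ∀ n, ψ (n + 1) ≫ algTrans (ζ n) (ζ (n + 1)) (t n) (ht n) = ψ n := fun n =>
    huniq n _ (by
      dsimp only
      rw [SymAlgLib.toModuleMap_comp, ← Category.assoc, hψ (n + 1), hαt])
  refine ⟨V.spec, V.π, fun n => H8Lim.toSpec (ζ n) (ψ n).hom, inferInstance, ?_,
    fun n => H8Lim.toSpec_π (ζ n) _ (ψ n).comm, fun n => ?_, fun n => ?_⟩
  · exact SymAlgLib.locallyOfFiniteType_π fun U hU => SymAlgLib.finiteType_str
      (SymAlgLib.isSymAlg_symAlg M) hU (((isCoh_iff_finite_sections _).1 hM).2 U hU)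
  · show IsClosedImmersion (H8Lim.toSpec (ζ n) (ψ n).hom)
    rw [← H8Lim.specMap_toSpec (ζ n) (ψ n).hom (A' := RelSpec.QCAlg.directImage (ζ n)) (𝟙 _) (ψ n)
      (Category.comp_id _)]
    have := RelVALib.isIso_toRelSpec (ζ n)
    have := SymAlgLib.isClosedImmersion_specMap (ψ n) fun U hU b => by
      have : Coh.IsQCoh ((Formal.completion I M).obj (op n)) := (isCoh_modPow I hM (n + 1)).1
      have : Coh.IsQCoh (G.obj (op n)) := (hG.1 n).1
      obtain ⟨c, hc⟩ := app_surjective_of_epi (e.hom.app (op n)) hU b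
      obtain ⟨m, rfl⟩ := modPowπ_app_surjective' I hM (n + 1) hU c
      refine ⟨(SymAlgLib.gen M).app U m, ?_⟩
      have h1 := app_congr (hψ n) U m
      rw [comp_app_eq] at h1
      refine h1.trans ?_
      exact (comp_app_eq _ _ _ _).trans ((comp_app_eq _ _ _ _).trans
        ((strToAlg_app (ζ n) U _).trans hc))
    exact inferInstanceAs (IsClosedImmersion (RelVALib.toRelSpec (ζ n) ≫ RelSpec.QCAlg.specMap (ψ n)))
  · show t n ≫ H8Lim.toSpec (ζ (n + 1)) (ψ (n + 1)).hom = H8Lim.toSpec (ζ n) (ψ n).hom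
    rw [toSpec_comp (ζ n) (ζ (n + 1)) (t n) (ht n), ← hψt n]
    rfl

/-- A compatible system of finite schemes comes from a finite scheme proper over the base. -/
theorem exists_finiteScheme (Y : ℕ → Scheme.{u})
    (y : ∀ n, Y n ⟶ CohB1.thick (X ↘ Spec (CommRingCat.of A)) I n) (t : ∀ n, Y n ⟶ Y (n + 1))
    (hy : ∀ n, IsFinite (y n))
    (ht : ∀ n, IsPullback (t n) (y n) (y (n + 1)) (CohB1.thickTrans (X ↘ Spec (CommRingCat.of A)) I n))
    (hp : IsProper (y 0 ≫ CohB1.thickToBase (X ↘ Spec (CommRingCat.of A)) I 0)) :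
    ∃ (W : Scheme.{u}) (i : W ⟶ X) (w : ∀ n, Y n ⟶ W), IsFinite i ∧
      IsProper (i ≫ (X ↘ Spec (CommRingCat.of A))) ∧ (∀ n, w n = t n ≫ w (n + 1)) ∧
      ∀ n, IsPullback (w n) (y n) i (CohB1.thickι (X ↘ Spec (CommRingCat.of A)) I n) := by
  let f := X ↘ Spec (CommRingCat.of A)
  have hι := fun n => isClosedImmersion_thickι f I n
  let ζ : ∀ n, Y n ⟶ X := fun n => y n ≫ CohB1.thickι f I n
  let q : ∀ n, Y n ⟶ Spec (CommRingCat.of (A ⧸ I ^ (n + 1))) := fun n => y n ≫ CohB1.thickToBase f I n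
  have hζ : ∀ n, IsFinite (ζ n) := fun n => inferInstanceAs (IsFinite (y n ≫ _))
  have hqc : ∀ n, IsPullback (t n) (q n) (q (n + 1)) (CohB1.specQuotTrans I n) :=
    fun n => (ht n).paste_vert (isPullback_thickTrans f I n)
  have htζ : ∀ n, t n ≫ ζ (n + 1) = ζ n := fun n => by
    show t n ≫ y (n + 1) ≫ _ = y n ≫ _
    rw [← Category.assoc, (ht n).w, Category.assoc, thickTrans_thickι]
  have hp' : IsProper (ζ 0 ≫ f) := by
    have : IsClosedImmersion (CohB1.specQuot I 0) :=
      IsClosedImmersion.spec_of_surjective _ Ideal.Quotient.mk_surjective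
    rw [comp_thickι_over 0 (y 0)]
    infer_instance
  obtain ⟨V, π, j, hπ, hπft, hjπ, hj, hjt⟩ :=
    exists_affine_embedding ζ q (fun n => comp_thickι_over n (y n)) t htζ hqc hp'
  let s := π ≫ f
  let _ : V.Over (Spec (CommRingCat.of A)) := ⟨s⟩
  have : IsSeparated (V ↘ Spec (CommRingCat.of A)) := inferInstanceAs (IsSeparated (π ≫ f))
  have : LocallyOfFiniteType (V ↘ Spec (CommRingCat.of A)) :=
    inferInstanceAs (LocallyOfFiniteType (π ≫ f))
  have : QuasiCompact (V ↘ Spec (CommRingCat.of A)) := inferInstanceAs (QuasiCompact (π ≫ f))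
  let z : ∀ n, Y n ⟶ CohB1.thick s I n := fun n => pullback.lift (j n) (q n) (by
    rw [← Category.assoc, hjπ, comp_thickι_over n (y n)])
  have hzι : ∀ n, z n ≫ CohB1.thickι s I n = j n := fun n => pullback.lift_fst _ _ _
  have hzb : ∀ n, z n ≫ CohB1.thickToBase s I n = q n := fun n => pullback.lift_snd _ _ _
  let m : ∀ n, CohB1.thick s I n ⟶ CohB1.thick f I n := fun n =>
    pullback.lift (CohB1.thickι s I n ≫ π) (CohB1.thickToBase s I n) (by
      rw [Category.assoc]; exact pullback.condition)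
  have hmι : ∀ n, m n ≫ CohB1.thickι f I n = CohB1.thickι s I n ≫ π :=
    fun n => pullback.lift_fst _ _ _
  have hmb : ∀ n, m n ≫ CohB1.thickToBase f I n = CohB1.thickToBase s I n :=
    fun n => pullback.lift_snd _ _ _
  have hzm : ∀ n, z n ≫ m n = y n := fun n => by
    apply pullback.hom_ext
    · show (z n ≫ m n) ≫ CohB1.thickι f I n = y n ≫ CohB1.thickι f I n
      rw [Category.assoc, hmι, ← Category.assoc, hzι, hjπ]
    · show (z n ≫ m n) ≫ CohB1.thickToBase f I n = y n ≫ CohB1.thickToBase f I n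
      rw [Category.assoc, hmb, hzb]
  have hmPB : ∀ n, IsPullback (CohB1.thickι s I n) (m n) π (CohB1.thickι f I n) := fun n => by
    refine IsPullback.of_bot ?_ (hmι n).symm (IsPullback.of_hasPullback f (CohB1.specQuot I n))
    rw [show m n ≫ pullback.snd f (CohB1.specQuot I n) = CohB1.thickToBase s I n from hmb n]
    exact IsPullback.of_hasPullback s (CohB1.specQuot I n)
  have hzc : ∀ n, IsClosedImmersion (z n) := fun n => by
    have := isClosedImmersion_thickι s I n
    have : IsClosedImmersion (z n ≫ CohB1.thickι s I n) := by rw [hzι]; exact hj n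
    exact IsClosedImmersion.of_comp (z n) (CohB1.thickι s I n)
  have htz : ∀ n, IsPullback (t n) (z n) (z (n + 1)) (CohB1.thickTrans s I n) := fun n => by
    refine IsPullback.of_bot ?_ ?_ (isPullback_thickTrans s I n)
    · rw [hzb, hzb]; exact hqc n
    · apply pullback.hom_ext
      · show (_ ≫ z (n + 1)) ≫ CohB1.thickι s I (n + 1) = (_ ≫ _) ≫ CohB1.thickι s I (n + 1)
        rw [Category.assoc, hzι, Category.assoc, thickTrans_thickι, hzι, hjt]
      · show (_ ≫ z (n + 1)) ≫ CohB1.thickToBase s I (n + 1) =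
          (_ ≫ _) ≫ CohB1.thickToBase s I (n + 1)
        rw [Category.assoc, hzb, Category.assoc, (isPullback_thickTrans s I n).w, (hqc n).w,
          ← Category.assoc, hzb]
  obtain ⟨W, i, w, hi, hip, hwt, hpb⟩ :=
    exists_closedSubscheme (A := A) (I := I) (X := V) Y z t hzc htz (show IsProper (z 0 ≫ CohB1.thickToBase s I 0) from (hzb 0).symm ▸ hp)
  have hip' : IsProper ((i ≫ π) ≫ f) := by rw [Category.assoc]; exact hip
  have : IsProper (i ≫ π) := IsProper.of_comp (i ≫ π) f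
  exact ⟨W, i ≫ π, w, IsFinite.iff_isProper_and_isAffineHom.2 ⟨inferInstance, inferInstance⟩, hip',
    hwt, fun n => hzm n ▸ (hpb n).paste_vert (hmPB n)⟩

end Groth.Agent.Coherent.Existence
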