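import Groth.Agent.Coherent.Existence.IsoThick

set_option autoImplicit false
set_option backward.isDefEq.respectTransparency false

universe u

open CategoryTheory CategoryTheory.Limits AlgebraicGeometry Opposite TopologicalSpace
open Groth.Agent.Coherent Groth.Agent.Coherent.Serre

namespace Groth.Agent.Coherent.Existence

variable {A : Type u} [CommRing A] {I : Ideal A}

/-- A closed subset missing the closed thickening is empty. -/
theorem eq_empty_of_disjoint_thick [IsAdicComplete I A] {X : Scheme.{u}} (f : X ⟶ Spec (CommRingCat.of A))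
    [IsProper f] (Z : Set X) (hZ : IsClosed Z) (h : Disjoint Z (Set.range (CohB1.thickι f I 0))) : Z = ∅ := by
  refine Set.eq_empty_of_forall_notMem fun y₀ hy₀ => ?_
  obtain ⟨m, hm, hle⟩ := Ideal.exists_le_maximal (f y₀).asIdeal (f y₀).isPrime.ne_top
  obtain ⟨y, hyZ, hym⟩ : ∃ y ∈ Z, f y = (⟨m, hm.isPrime⟩ : PrimeSpectrum A) :=
    ((PrimeSpectrum.le_iff_specializes (f y₀) ⟨m, hm.isPrime⟩).1 hle).mem_closed
      (f.isClosedMap _ hZ) ⟨y₀, hy₀, rfl⟩
  refine Set.disjoint_left.1 h hyZ ((Scheme.Pullback.range_fst f (CohB1.specQuot I 0)).ge ?_)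
  show f y ∈ Set.range (PrimeSpectrum.comap (Ideal.Quotient.mk (I ^ (0 + 1))))
  rw [_root_.range_comap_of_surjective _ _ Ideal.Quotient.mk_surjective, Ideal.mk_ker,
    zero_add, pow_one, hym]
  exact (IsAdicComplete.le_jacobson_bot I).trans (sInf_le ⟨bot_le, hm⟩)

/-- Morphisms from a proper scheme over a complete base agree if they agree on every thickening. -/
theorem eq_of_thickenings [IsNoetherianRing A] [IsAdicComplete I A] {X Y : Scheme.{u}}
    (f : X ⟶ Spec (CommRingCat.of A)) (h : Y ⟶ Spec (CommRingCat.of A)) [IsProper f] [LocallyOfFiniteType h]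
    (φ ψ : X ⟶ Y) (hφ : φ ≫ h = f) (hψ : ψ ≫ h = f)
    (e : ∀ n : ℕ, CohB1.thickι f I n ≫ φ = CohB1.thickι f I n ≫ ψ) : φ = ψ := by
  let _ : X.Over (Spec (CommRingCat.of A)) := ⟨f⟩
  have : IsProper (X ↘ Spec (CommRingCat.of A)) := ‹IsProper f›
  let l : X ⟶ pullback h h := pullback.lift φ ψ (hφ.trans hψ.symm)
  let ι : pullback (pullback.diagonal h) l ⟶ X := pullback.snd _ _
  have hι : ι ≫ φ = ι ≫ ψ := by
    have hc := pullback.condition (f := pullback.diagonal h) (g := l)
    have h1 := congrArg (· ≫ pullback.fst h h) hc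
    have h2 := congrArg (· ≫ pullback.snd h h) hc
    simp only [Category.assoc, pullback.diagonal_fst, pullback.diagonal_snd, Category.comp_id, l,
      pullback.lift_fst, pullback.lift_snd] at h1 h2
    exact h1.symm.trans h2
  have : IsImmersion ι := inferInstance
  let w : ∀ n, CohB1.thick f I n ⟶ pullback (pullback.diagonal h) l := fun n =>
    pullback.lift (CohB1.thickι f I n ≫ φ) (CohB1.thickι f I n) (by
      apply pullback.hom_ext
      · simp [l]
      · simp [l, e n])
  have hw' : ∀ n, w n ≫ ι = CohB1.thickι f I n := fun n => pullback.lift_snd _ _ _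
  have hcl : IsClosedImmersion ι := by
    refine IsClosedImmersion.of_isPreimmersion ι ?_
    have hU : (ι.coborderRange : Set X) = Set.univ := by
      rw [← Set.compl_empty_iff]
      refine eq_empty_of_disjoint_thick (I := I) f _ ι.coborderRange.isOpen.isClosed_compl ?_
      refine Set.disjoint_left.2 fun x hx hx' => hx (subset_coborder ?_)
      obtain ⟨z, rfl⟩ := hx'
      exact ⟨w 0 z, by rw [← Scheme.Hom.comp_apply, hw' 0]⟩
    exact (coborder_eq_univ_iff).1 hU
  have : IsIso ι := isIso_of_thickenings (X := X) (I := I) ι w fun n => by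
    refine IsPullback.mk' ?_ ?_ ?_
    · exact (hw' n).trans (Category.id_comp _).symm
    · intro T a b h1 h2
      exact (Category.comp_id a).symm.trans (h2.trans (Category.comp_id b))
    · intro T a b hab
      exact ⟨b, (cancel_mono ι).1 (by rw [Category.assoc, hw']; exact hab.symm), Category.comp_id b⟩
  exact (cancel_epi ι).1 hι

end Groth.Agent.Coherent.Existence
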