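import Groth.Agent.Coherent.Existence.StrEmbed
import Groth.Agent.MorProj.ProperFinite

/-!
# A proper morphism which is an isomorphism on all thickenings is an isomorphism
-/

set_option autoImplicit false
set_option backward.isDefEq.respectTransparency false

universe u

open CategoryTheory CategoryTheory.Limits AlgebraicGeometry Opposite TopologicalSpace
open Groth.Agent.Coherent Groth.Agent.Coherent.Serre

namespace Groth.Agent.Coherent.Existence

theorem map_map_cancel {Y : Scheme.{u}} {U V : Y.Opens} (i : op U ⟶ op V) (j : op V ⟶ op U)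
    (x : Γ(Y, U)) : Y.presheaf.map j (Y.presheaf.map i x) = x := by
  rw [← CommRingCat.comp_apply, ← Functor.map_comp, Subsingleton.elim (i ≫ j) (𝟙 _),
    CategoryTheory.Functor.map_id]
  rfl

theorem mem_smul_top_of_mem {Y : Scheme.{u}} {U : Y.Opens} (J : Ideal Γ(Y, U))
    (x : Γ(Coh.structureModule Y, U)) (hx : (show Γ(Y, U) from x) ∈ J) :
    x ∈ J • (⊤ : Submodule Γ(Y, U) Γ(Coh.structureModule Y, U)) := by
  have h := Submodule.smul_mem_smul (N := (⊤ : Submodule Γ(Y, U) Γ(Coh.structureModule Y, U)))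
    (n := (show Γ(Y, U) from 1)) hx trivial
  have e : (show Γ(Y, U) from x) • (show Γ(Coh.structureModule Y, U) from (1 : Γ(Y, U))) = x :=
    mul_one (show Γ(Y, U) from x)
  exact (congrArg (· ∈ _) e).mp h

variable {A : Type u} [CommRing A] [IsNoetherianRing A] {I : Ideal A} {X : Scheme.{u}}
  [X.Over (Spec (CommRingCat.of A))]

omit [IsNoetherianRing A] in
/-- The ideal of the thickening on an affine open. -/
theorem ker_thickι_app (n : ℕ) {U : X.Opens} (hU : IsAffineOpen U) :
    RingHom.ker ((CohB1.thickι (X ↘ Spec (CommRingCat.of A)) I n).app U).hom =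
      openIdeal I U ^ (n + 1) := by
  let f := X ↘ Spec (CommRingCat.of A)
  have : IsClosedImmersion (CohB1.specQuot I n) :=
    IsClosedImmersion.spec_of_surjective _ Ideal.Quotient.mk_surjective
  have := isClosedImmersion_thickι f I n
  have h : ((CohB1.thickι f I n).ker).ideal ⟨U, hU⟩ =
      ((CohB1.specQuot I n).ker.comap f).ideal ⟨U, hU⟩ := by
    rw [CohB1.thickι, FSchLib.ker_of_isPullback (IsPullback.of_hasPullback f (CohB1.specQuot I n))]
  rw [Scheme.Hom.ker_apply] at h
  rw [h, FSchLib.ideal_comap_eq_map f _ ⟨U, hU⟩ ⟨⊤, isAffineOpen_top _⟩ le_top, FSchLib.ker_specQuot,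
    Scheme.IdealSheafData.ideal_pow, Pi.pow_apply, FSchLib.idealSpec_ideal_top, Ideal.map_pow,
    Ideal.map_map]
  refine congrArg (fun φ => Ideal.map φ I ^ (n + 1)) (RingHom.ext fun c => ?_)
  rfl

variable [IsAdicComplete I A] [IsProper (X ↘ Spec (CommRingCat.of A))] {W : Scheme.{u}} (p : W ⟶ X)
  [IsProper p] (w : ∀ n, CohB1.thick (X ↘ Spec (CommRingCat.of A)) I n ⟶ W)
  (hw : ∀ n, IsPullback (w n) (𝟙 _) p (CohB1.thickι (X ↘ Spec (CommRingCat.of A)) I n))

omit [IsNoetherianRing A] in
include hw in
theorem isFinite_of_thickenings : IsFinite p := by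
  let f := X ↘ Spec (CommRingCat.of A)
  obtain ⟨G, hG, hfin⟩ := MorProj.exists_finite_fibre_locus p
  suffices hGtop : G = ⊤ by
    subst hGtop
    exact IsZariskiLocalAtTarget.of_iSup_eq_top (P := @IsFinite) (fun _ : Unit => (⊤ : X.Opens))
      (iSup_const) fun _ => hfin
  refine Opens.ext (Set.eq_univ_of_forall fun y₀ => ?_)
  by_contra hy₀
  obtain ⟨m, hm, hle⟩ := Ideal.exists_le_maximal (f y₀).asIdeal (f y₀).isPrime.ne_top
  obtain ⟨y, hyG, hym⟩ : ∃ y ∈ (G : Set X)ᶜ, f y = (⟨m, hm.isPrime⟩ : PrimeSpectrum A) :=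
    ((PrimeSpectrum.le_iff_specializes (f y₀) ⟨m, hm.isPrime⟩).1 hle).mem_closed
      (f.isClosedMap _ G.isOpen.isClosed_compl) ⟨y₀, hy₀, rfl⟩
  refine hyG ?_
  rw [hG]
  obtain ⟨x, rfl⟩ : y ∈ Set.range (CohB1.thickι f I 0) := by
    refine (Scheme.Pullback.range_fst f (CohB1.specQuot I 0)).ge ?_
    show f y ∈ Set.range (PrimeSpectrum.comap (Ideal.Quotient.mk (I ^ (0 + 1))))
    rw [_root_.range_comap_of_surjective _ _ Ideal.Quotient.mk_surjective, Ideal.mk_ker,
      zero_add, pow_one, hym]
    exact (IsAdicComplete.le_jacobson_bot I).trans (sInf_le ⟨bot_le, hm⟩)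
  refine (Set.finite_singleton (w 0 x)).subset fun z (hz : p z = _) => ?_
  have := isClosedImmersion_thickι f I 0
  obtain ⟨c, hc₁, hc₂⟩ := Scheme.Pullback.exists_preimage_pullback (f := p)
    (g := CohB1.thickι f I 0) z x hz
  let x' := (hw 0).isoPullback.inv c
  have h₁ : w 0 x' = z := by
    rw [← Scheme.Hom.comp_apply, (hw 0).isoPullback_inv_fst]; exact hc₁
  have h₂ : x' = x := by
    have := congrArg (fun ψ : pullback p (CohB1.thickι f I 0) ⟶ _ => ψ c) (hw 0).isoPullback_inv_snd
    simp only [Category.comp_id] at this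
    exact this.trans hc₂
  exact (congrArg (w 0) h₂).symm.trans h₁ ▸ rfl

set_option maxHeartbeats 400000 in
include hw in
/-- A proper morphism which is an isomorphism over every thickening is an isomorphism. -/
theorem isIso_of_thickenings : IsIso p := by
  let f := X ↘ Spec (CommRingCat.of A)
  have := isFinite_of_thickenings p w hw
  have : IsLocallyNoetherian X := LocallyOfFiniteType.isLocallyNoetherian f
  have : IsLocallyNoetherian W := LocallyOfFiniteType.isLocallyNoetherian p
  let O := Coh.structureModule X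
  let M := (Coh.push p).obj (Coh.structureModule W)
  let u : O ⟶ M := ClSub.unitToPush p
  have hO : Coh.IsCoh O := isCoh_structureModule X
  have hM : Coh.IsCoh M := isCoh_push_finite p (isCoh_structureModule W)
  have hproper : ∀ {F : X.Modules}, Coh.IsCoh F → ClSub.IsProperOver f (CohB1.support F) := fun {F} hF =>
    Et18.IsProperOver.of_subset (Et18.isProperOver_of_isClosedImmersion f (𝟙 X))
      (isClosed_support F (locallyFinGen_of_isFT F hF.2)) (fun x _ => ⟨x, rfl⟩)
  have hwker : ∀ n (U : X.affineOpens),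
      RingHom.ker ((w n).app (p ⁻¹ᵁ U.1)).hom = (openIdeal I U.1 ^ (n + 1)).map (p.app U.1).hom := by
    intro n U
    have := isClosedImmersion_thickι f I n
    have : IsClosedImmersion (w n) :=
      MorphismProperty.of_isPullback (P := @IsClosedImmersion) (hw n).flip inferInstance
    have h := congrArg (fun J : W.IdealSheafData => J.ideal ⟨p ⁻¹ᵁ U.1, U.2.preimage p⟩)
      (FSchLib.ker_of_isPullback (hw n))
    dsimp only at h
    rw [Scheme.Hom.ker_apply, FSchLib.ideal_comap_eq_map p _ ⟨_, U.2.preimage p⟩ U le_rfl,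
      Scheme.Hom.ker_apply, ker_thickι_app n U.2, Scheme.Hom.appLE_eq_app] at h
    exact h
  have hwp : ∀ n, w n ≫ p = CohB1.thickι f I n := fun n => (hw n).w.trans (Category.id_comp _)
  have hcomp : ∀ n (U : X.Opens) (a : Γ(X, U)), (CohB1.thickι f I n).app U a = 0 ↔
      (w n).app (p ⁻¹ᵁ U) (p.app U a) = 0 := fun n U a => by
    have := Scheme.Hom.congr_app (hwp n) U
    rw [Scheme.Hom.comp_app] at this
    have h1 := ConcreteCategory.congr_hom this a
    rw [CommRingCat.comp_apply, CommRingCat.comp_apply] at h1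
    rw [h1]
    exact ⟨fun h => by rw [h, map_zero], fun h =>
      (ConcreteCategory.bijective_of_isIso
        ((CohB1.thick f I n).presheaf.map (eqToHom _).op)).1 (h.trans (map_zero _).symm)⟩
  -- cokernel
  have hC : Coh.IsCoh (cokernel u) := isCoh_cokernel u hO.1 hM
  have hC0 : ∀ (V : X.Opens) (a : Γ(cokernel u, V)), a = 0 :=
    subsingleton_sections_of_nakayama (I := I) hC (hproper hC) fun U c => by
      have := hM.1
      have := hC.1
      obtain ⟨b, rfl⟩ := app_surjective_of_epi (cokernel.π u) U.2 c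
      have := isClosedImmersion_thickι f I 0
      obtain ⟨a', ha'⟩ := (CohB1.thickι f I 0).app_surjective U.1 U.2
        ((CohB1.thick f I 0).presheaf.map (eqToHom (by rw [← hwp 0]; rfl)).op
          ((w 0).app (p ⁻¹ᵁ U.1) (show Γ(W, p ⁻¹ᵁ U.1) from b)))
      have hb : p.app U.1 a' - (show Γ(W, p ⁻¹ᵁ U.1) from b) ∈
          (openIdeal I U.1).map (p.app U.1).hom := by
        have h := hwker 0 U
        rw [zero_add, pow_one] at h
        rw [← h, RingHom.mem_ker, map_sub, sub_eq_zero]
        have := Scheme.Hom.congr_app (hwp 0) U.1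
        rw [Scheme.Hom.comp_app] at this
        have h1 := ConcreteCategory.congr_hom this a'
        rw [CommRingCat.comp_apply, CommRingCat.comp_apply, ha'] at h1
        exact h1.trans (map_map_cancel _ _ _)
      have hb' : u.app U.1 a' - b ∈ openIdeal I U.1 • (⊤ : Submodule Γ(X, U.1) Γ(M, U.1)) := by
        refine mem_push_of_mem_map (Coh.structureModule W) (openIdeal I U.1) _ ?_
        exact mem_smul_top_of_mem _ _ hb
      have h2 : (cokernel.π u).app U.1 (u.app U.1 a' - b) = -((cokernel.π u).app U.1 b) := by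
        rw [map_sub, ← comp_app_eq, app_congr (cokernel.condition u)]
        exact zero_sub _
      have h3 : (cokernel.π u).app U.1 (u.app U.1 a' - b) ∈
          openIdeal I U.1 • (⊤ : Submodule Γ(X, U.1) Γ(cokernel u, U.1)) := by
        refine Submodule.smul_induction_on hb' (p := fun z => (cokernel.π u).app U.1 z ∈ _)
          (fun r hr z _ => ?_) fun z z' hz hz' => ?_
        · rw [Scheme.Modules.Hom.app_smul]
          exact Submodule.smul_mem_smul hr trivial
        · rw [map_add]; exact add_mem hz hz'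
      rw [h2] at h3
      exact neg_mem_iff.1 h3
  -- kernel
  have hK : Coh.IsCoh (kernel u) := isCoh_kernel u hO hM.1
  have hK0 : ∀ (V : X.Opens) (a : Γ(kernel u, V)), a = 0 :=
    subsingleton_sections_of_nakayama (I := I) hK (hproper hK) fun U z => by
      have := IsLocallyNoetherian.component_noetherian (X := X) U
      have := ((isCoh_iff_finite_sections _).1 hO).2 U.1 U.2
      let ιK : Γ(kernel u, U.1) →ₗ[Γ(X, U.1)] Γ(O, U.1) := appLin (kernel.ι u) U.1
      obtain ⟨c, hc⟩ := exists_pow_inf_le (openIdeal I U.1) (LinearMap.range ιK)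
      have hz : ιK z ∈ openIdeal I U.1 ^ (1 + c) • (⊤ : Submodule Γ(X, U.1) Γ(O, U.1)) := by
        have h0 : p.app U.1 (ιK z) = 0 := kernel_ι_app_zero u U.1 z
        have h1 : (show Γ(X, U.1) from ιK z) ∈ openIdeal I U.1 ^ (c + 1) := by
          rw [← ker_thickι_app c U.2, RingHom.mem_ker]
          exact (hcomp c U.1 _).2 (by
            rw [show p.app U.1 (show Γ(X, U.1) from ιK z) = 0 from h0, map_zero])
        rw [add_comm 1 c]
        exact mem_smul_top_of_mem _ _ h1
      have h4 := hc 1 ⟨hz, ⟨z, rfl⟩⟩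
      rw [LinearMap.range_eq_map, ← Submodule.map_smul'', pow_one] at h4
      obtain ⟨y, hy, hyz⟩ := h4
      have hyz' : y = z := app_injective_of_mono (kernel.ι u) U.1 hyz
      exact hyz' ▸ hy
  -- bijectivity
  have hz : ∀ (F : X.Modules), (∀ (V : X.Opens) (a : Γ(F, V)), a = 0) → IsZero F := fun F hF =>
    ModStalk.isZero_of_stalks fun x => (notMem_support_iff _ x).1
      (notMem_support_of_subsingleton _ (U := ⊤) trivial fun V _ _ => subsingleton_of_forall_eq 0 (hF V))
  have : Mono u := Preadditive.mono_of_isZero_kernel u (hz _ hK0)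
  have : Epi u := Preadditive.epi_of_isZero_cokernel u (hz _ hC0)
  have hiso : IsIso u := isIso_of_mono_of_epi u
  refine (HasAffineProperty.iff_of_iSup_eq_top (P := MorphismProperty.isomorphisms Scheme.{u})
    (fun U : X.affineOpens => U) (iSup_affineOpens_eq_top X)).2 fun U => ?_
  refine ⟨U.2.preimage p, ?_⟩
  rw [morphismRestrict_appTop]
  have : IsIso (p.app (U.1.ι ''ᵁ ⊤)) := (ConcreteCategory.isIso_iff_bijective _).2
    ((ConcreteCategory.isIso_iff_bijective (u.app (U.1.ι ''ᵁ ⊤))).1 inferInstance)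
  infer_instance

end Groth.Agent.Coherent.Existence
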