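import Groth.Agent.Coherent.Existence.AffineLimit
import Groth.Agent.Coherent.ClosedEquiv
import Groth.Agent.Coherent.SupportPullback
import Groth.Agent.Coherent.HigherQcoh
import Groth.Agent.Coherent.PullUnit
import Groth.Agent.Coherent.FinitePres

/-!
# Pullback of coherent formal modules, and closed subschemes
-/

set_option autoImplicit false
set_option backward.isDefEq.respectTransparency false

universe u

open CategoryTheory CategoryTheory.Limits AlgebraicGeometry Opposite TopologicalSpace
open Groth.Agent.Coherent Groth.Agent.Coherent.Serre Groth.Agent.PicLib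

namespace Groth.Agent.Coherent.Existence

variable {A : Type u} [CommRing A] {X X' : Scheme.{u}} [X.Over (Spec (CommRingCat.of A))]
  [X'.Over (Spec (CommRingCat.of A))] {p : X' ⟶ X}
  (hp : p ≫ (X ↘ Spec (CommRingCat.of A)) = X' ↘ Spec (CommRingCat.of A)) {I : Ideal A}

include hp in
theorem toGlobal_comp (a : A) :
    p.appTop (Coh.toGlobal (X ↘ Spec (CommRingCat.of A)) a) =
      Coh.toGlobal (X' ↘ Spec (CommRingCat.of A)) a := by
  rw [← hp]
  simp only [Coh.toGlobal, RingHom.comp_apply, Scheme.Hom.comp_appTop]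
  rfl

include hp in
theorem push_map_smulMod (M : X'.Modules) (a : A) :
    (Coh.push p).map (Formal.smulMod A M a) = Formal.smulMod A ((Coh.push p).obj M) a := by
  refine Eq.trans ?_ (push_map_smulModΓ p (Coh.toGlobal (X ↘ Spec (CommRingCat.of A)) a) M)
  exact congrArg (fun r => (Coh.push p).map (Formal.smulModΓ M r)) (toGlobal_comp hp a).symm

/-- The unit `M → p_* p^* M`. -/
noncomputable abbrev etaHom (p : X' ⟶ X) (M : X.Modules) :
    M ⟶ (Coh.push p).obj ((Scheme.Modules.pullback p).obj M) :=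
  (Scheme.Modules.pullbackPushforwardAdjunction p).unit.app M

theorem etaHom_natural {M N : X.Modules} (f : M ⟶ N) :
    f ≫ etaHom p N = etaHom p M ≫ (Coh.push p).map ((Scheme.Modules.pullback p).map f) :=
  (Scheme.Modules.pullbackPushforwardAdjunction p).unit.naturality f

theorem pull_hom_ext {M : X.Modules} {N : X'.Modules} {f g : (Scheme.Modules.pullback p).obj M ⟶ N}
    (h : etaHom p M ≫ (Coh.push p).map f = etaHom p M ≫ (Coh.push p).map g) : f = g := by
  refine ((Scheme.Modules.pullbackPushforwardAdjunction p).homEquiv M N).injective ?_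
  rw [Adjunction.homEquiv_unit, Adjunction.homEquiv_unit]
  exact h

include hp in
theorem pull_map_smulMod (M : X.Modules) (a : A) :
    (Scheme.Modules.pullback p).map (Formal.smulMod A M a) = Formal.smulMod A _ a := by
  refine pull_hom_ext ?_
  rw [← etaHom_natural, push_map_smulMod hp, smulMod_natural]

/-- Pullback of a system. -/
noncomputable abbrev pullSys (p : X' ⟶ X) (G : ℕᵒᵖ ⥤ X.Modules) : ℕᵒᵖ ⥤ X'.Modules :=
  G ⋙ Scheme.Modules.pullback p

/-- Direct image of a system. -/
noncomputable abbrev pushSys (p : X' ⟶ X) (G : ℕᵒᵖ ⥤ X'.Modules) : ℕᵒᵖ ⥤ X.Modules :=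
  G ⋙ Coh.push p

theorem compat_etaHom (G : ℕᵒᵖ ⥤ X.Modules) :
    Compat (P := G) (G := pushSys p (pullSys p G)) fun n => etaHom p (G.obj (op n)) :=
  fun n => etaHom_natural (tr G n)

theorem compat_push {G H : ℕᵒᵖ ⥤ X'.Modules} {f : ∀ n, G.obj (op n) ⟶ H.obj (op n)} (hf : Compat f) :
    Compat (P := pushSys p G) (G := pushSys p H) fun n => (Coh.push p).map (f n) := fun n => by
  show (Coh.push p).map (tr G n) ≫ _ = _ ≫ (Coh.push p).map (tr H n)
  rw [← Functor.map_comp, ← Functor.map_comp, hf n]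

include hp in
theorem isCohFormal_pullSys [IsLocallyNoetherian X'] {G : ℕᵒᵖ ⥤ X.Modules}
    (hG : Formal.IsCohFormal I G) : Formal.IsCohFormal I (pullSys p G) := by
  refine ⟨fun n => ?_, fun n c hc => ?_, fun n => ?_⟩
  · have := (hG.1 n).1
    exact ⟨EGA43.InjFibre.isQCoh_pullback p _, isFT_pullback_qcoh p (hG.1 n).1 (hG.1 n).2⟩
  · exact (pull_map_smulMod hp _ c).symm.trans
      ((congrArg _ (hG.2.1 n c hc)).trans (Functor.map_zero _ _ _))
  · let F := Scheme.Modules.pullback p
    have h : Formal.smulFamily (I ^ (n + 1)) (F.obj (G.obj (op (n + 1)))) ≫ F.map (tr G n) = 0 := by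
      refine Sigma.hom_ext _ _ fun c => ?_
      rw [comp_zero, ← Category.assoc, ι_smulFamily, ← pull_map_smulMod hp, ← Functor.map_comp,
        ← ι_smulFamily (I ^ (n + 1)) _ c, Category.assoc, smulFamily_tr hG, comp_zero,
        Functor.map_zero]
    refine ⟨h, ?_⟩
    let q := cokernel.π (Formal.smulFamily (I ^ (n + 1)) (F.obj (G.obj (op (n + 1)))))
    have hex := exact_smulFamily_tr hG n
    have := epi_tr hG n
    let t := etaHom p (G.obj (op (n + 1))) ≫ (Coh.push p).map q
    have ht : Formal.smulFamily (I ^ (n + 1)) (G.obj (op (n + 1))) ≫ t = 0 := by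
      refine Sigma.hom_ext _ _ fun c => ?_
      rw [comp_zero, ← Category.assoc, ι_smulFamily, ← Category.assoc, etaHom_natural,
        Category.assoc, ← Functor.map_comp, pull_map_smulMod hp,
        ← ι_smulFamily (I ^ (n + 1)) _ c, Category.assoc, cokernel.condition, comp_zero,
        Functor.map_zero, comp_zero]
    obtain ⟨b₀, hb₀⟩ : ∃ b₀, tr G n ≫ b₀ = t := ⟨hex.desc _ ht, hex.g_desc _ _⟩
    let b := ((Scheme.Modules.pullbackPushforwardAdjunction p).homEquiv (G.obj (op n))
      (cokernel (Formal.smulFamily (I ^ (n + 1)) (F.obj (G.obj (op (n + 1))))))).symm b₀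
    have hb : etaHom p (G.obj (op n)) ≫ (Coh.push p).map b = b₀ := by
      rw [← Adjunction.homEquiv_unit]; exact Equiv.apply_symm_apply _ _
    have hqb : F.map (tr G n) ≫ b = q := by
      refine pull_hom_ext ?_
      rw [Functor.map_comp, ← Category.assoc, ← etaHom_natural, Category.assoc, hb, hb₀]
    refine ⟨b, ?_, ?_⟩
    · refine (cancel_epi q).1 ?_
      refine ((Category.assoc _ _ _).symm.trans (congrArg (· ≫ b) (cokernel.π_desc _ _ h))).trans ?_
      exact hqb.trans (Category.comp_id q).symm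
    · have : Epi (F.map (tr G n)) := by
        have := Adjunction.leftAdjoint_preservesColimits.{0, 0}
          (Scheme.Modules.pullbackPushforwardAdjunction p)
        infer_instance
      refine (cancel_epi (F.map (tr G n))).1 ?_
      refine ((Category.assoc _ _ _).symm.trans (congrArg (· ≫ _) hqb)).trans ?_
      exact (cokernel.π_desc _ _ h).trans (Category.comp_id _).symm

section Closed

variable {j : X' ⟶ X} [IsClosedImmersion j]
  (hj : j ≫ (X ↘ Spec (CommRingCat.of A)) = X' ↘ Spec (CommRingCat.of A))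

omit [IsClosedImmersion j] in
include hj in
theorem openIdeal_preimage (U : X.Opens) :
    openIdeal I (j ⁻¹ᵁ U) = (openIdeal I U).map (j.app U).hom := by
  rw [openIdeal, openIdeal, Ideal.map_map]
  refine congrArg (fun φ => Ideal.map φ I) (RingHom.ext fun a => ?_)
  show (X'.presheaf.map (homOfLE le_top).op) (baseHom A X' a) =
    j.app U ((X.presheaf.map (homOfLE le_top).op) (baseHom A X a))
  refine Eq.trans ?_ (ConcreteCategory.congr_hom (j.naturality (homOfLE le_top).op) (baseHom A X a)).symm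
  exact congrArg _ (toGlobal_comp hj a).symm

omit [IsClosedImmersion j] in
include hj in
theorem killedBy_push (n : ℕ) (M : X'.Modules) :
    Formal.KilledBy (I ^ n) ((Coh.push j).obj (Formal.modPow I n M)) := fun c hc =>
  (push_map_smulMod hj _ c).symm.trans
    ((congrArg _ (killedBy_modPow I n M c hc)).trans (Functor.map_zero _ _ _))

omit [IsClosedImmersion j] in
include hj in
/-- The comparison `(j_* M)/I^n → j_* (M/I^n)`. -/
noncomputable def theta (n : ℕ) (M : X'.Modules) :
    Formal.modPow I n ((Coh.push j).obj M) ⟶ (Coh.push j).obj (Formal.modPow I n M) :=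
  modPowDesc I ((Coh.push j).map (Formal.modPowπ I n M)) (killedBy_push hj n M)

omit [IsClosedImmersion j] in
include hj in
theorem compat_theta (M : X'.Modules) :
    Compat (P := Formal.completion I ((Coh.push j).obj M)) (G := pushSys j (Formal.completion I M))
      fun n => theta (I := I) hj (n + 1) M := fun n => by
  refine (cancel_epi (Formal.modPowπ I (n + 1 + 1) _)).1 ?_
  refine (π_tr_completion_assoc I _ n _).trans ((π_modPowDesc I _ _).trans ?_)
  refine Eq.trans ?_ (Category.assoc _ _ _)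
  refine Eq.trans ?_ (congrArg (· ≫ tr (pushSys j (Formal.completion I M)) n) (π_modPowDesc I _ _).symm)
  exact (congrArg (Coh.push j).map (π_tr_completion I M n).symm).trans (Functor.map_comp _ _ _)

omit [IsClosedImmersion j] [X.Over (Spec (CommRingCat.of A))] [X'.Over (Spec (CommRingCat.of A))] in
theorem mem_push_of_mem_map (M : X'.Modules) {U : X.Opens} (J : Ideal Γ(X, U)) (z : Γ(M, j ⁻¹ᵁ U))
    (hz : z ∈ J.map (j.app U).hom • (⊤ : Submodule Γ(X', j ⁻¹ᵁ U) Γ(M, j ⁻¹ᵁ U))) :
    (show Γ((Coh.push j).obj M, U) from z) ∈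
      J • (⊤ : Submodule Γ(X, U) Γ((Coh.push j).obj M, U)) := by
  refine Submodule.smul_induction_on hz (fun c hc w _ => ?_) fun a b ha hb => add_mem ha hb
  clear z hz
  induction hc using Submodule.span_induction generalizing w with
  | mem c hc =>
    obtain ⟨r, hr, rfl⟩ := hc
    exact Submodule.smul_mem_smul (N := (⊤ : Submodule Γ(X, U) Γ((Coh.push j).obj M, U)))
      (n := (show Γ((Coh.push j).obj M, U) from w)) hr trivial
  | zero => rw [zero_smul]; exact zero_mem _
  | add a b _ _ ha hb => rw [add_smul]; exact add_mem (ha _ trivial) (hb _ trivial)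
  | smul d a _ ha => rw [smul_eq_mul, mul_comm, mul_smul]; exact ha _ trivial

omit [IsClosedImmersion j] [X.Over (Spec (CommRingCat.of A))] [X'.Over (Spec (CommRingCat.of A))] in
theorem surjective_app_of_push {M Q : X'.Modules} {N : X.Modules} {π : M ⟶ Q}
    {q : (Coh.push j).obj M ⟶ N} {θ : N ⟶ (Coh.push j).obj Q} (h : q ≫ θ = (Coh.push j).map π)
    (U : X.Opens) (hs : Function.Surjective (π.app (j ⁻¹ᵁ U))) : Function.Surjective (θ.app U) :=
  fun x => by
    obtain ⟨y, hy⟩ := hs x
    exact ⟨q.app U y, ((comp_app_eq q θ U y).symm.trans (app_congr h U y)).trans hy⟩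

omit [IsClosedImmersion j] [X.Over (Spec (CommRingCat.of A))] [X'.Over (Spec (CommRingCat.of A))] in
theorem app_eq_zero_of_push {M Q : X'.Modules} {N : X.Modules} {π : M ⟶ Q}
    {q : (Coh.push j).obj M ⟶ N} {θ : N ⟶ (Coh.push j).obj Q} (h : q ≫ θ = (Coh.push j).map π)
    (U : X.Opens) (y : Γ((Coh.push j).obj M, U)) (hy : θ.app U (q.app U y) = 0) :
    π.app (j ⁻¹ᵁ U) (show Γ(M, j ⁻¹ᵁ U) from y) = 0 :=
  ((app_congr h U y).symm.trans (comp_app_eq q θ U y)).trans hy

set_option maxHeartbeats 400000 in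
include hj in
theorem isIso_theta [IsNoetherianRing A] [IsLocallyNoetherian X] [IsLocallyNoetherian X'] (n : ℕ)
    {M : X'.Modules} (hM : Coh.IsCoh M) : IsIso (theta (I := I) hj n M) := by
  have hMj : Coh.IsCoh ((Coh.push j).obj M) := isCoh_push_finite j hM
  have := (isCoh_push_finite j (isCoh_modPow I hM n)).1
  have := (isCoh_modPow I hMj n).1
  have hπ : Formal.modPowπ I n ((Coh.push j).obj M) ≫ theta (I := I) hj n M =
      (Coh.push j).map (Formal.modPowπ I n M) :=
    π_modPowDesc I ((Coh.push j).map (Formal.modPowπ I n M)) (killedBy_push hj n M)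
  have he : Epi (theta (I := I) hj n M) := epi_of_affine_surjective _ fun U hU =>
    surjective_app_of_push hπ U (modPowπ_app_surjective' I hM n (hU.preimage j))
  have hm : Mono (theta (I := I) hj n M) := by
    refine Preadditive.mono_of_isZero_kernel _ ((IsZero.iff_id_eq_zero _).2 ?_)
    rw [← cancel_mono (kernel.ι _), Category.id_comp, zero_comp]
    have := (isCoh_kernel (theta (I := I) hj n M) (isCoh_modPow I hMj n)
      (isCoh_push_finite j (isCoh_modPow I hM n)).1).1
    refine hom_eq_zero_of_cover (fun U : X.affineOpens => U.1) (fun U => U.2) (fun x => ?_) _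
      fun U k => ?_
    · obtain ⟨U, hU, hxU, -⟩ := exists_isAffineOpen_mem_and_subset (x := x) (U := (⊤ : X.Opens)) trivial
      exact ⟨⟨U, hU⟩, hxU⟩
    · obtain ⟨y, hy⟩ := modPowπ_app_surjective' I hMj n U.2 ((kernel.ι (theta (I := I) hj n M)).app U.1 k)
      have h0 := app_eq_zero_of_push hπ U.1 y (by rw [hy]; exact kernel_ι_app_zero _ _ _)
      rw [modPowπ_app_eq_zero_iff I hM n (U.2.preimage j), openIdeal_preimage hj, ← Ideal.map_pow] at h0
      rw [← hy, modPowπ_app_eq_zero_iff I hMj n U.2]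
      exact mem_push_of_mem_map M (openIdeal I U.1 ^ n) _ h0
  exact isIso_of_mono_of_epi _

/-- The kernel of `M → j_* j^* M` on an affine open. -/
theorem mem_smul_of_etaHom_eq_zero {U : X.Opens} (hU : IsAffineOpen U) (M : X.Modules) [Coh.IsQCoh M]
    (x : Γ(M, U)) (hx : (etaHom j M).app U x = 0) :
    x ∈ RingHom.ker (j.app U).hom • (⊤ : Submodule Γ(X, U) Γ(M, U)) := by
  have he : (j.appLE U (j ⁻¹ᵁ U) le_rfl) = j.app U := Scheme.Hom.appLE_eq_app j
  let B := Γ(X', j ⁻¹ᵁ U)
  let φ : Γ(X, U) →+* B := (j.appLE U (j ⁻¹ᵁ U) le_rfl).hom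
  have hsurj : Function.Surjective φ := by
    show Function.Surjective (j.appLE U (j ⁻¹ᵁ U) le_rfl).hom
    rw [he]; exact j.app_surjective U hU
  obtain ⟨μ, hμ, hμm⟩ := EGA43.InjFibre.pullMap_isBaseChange j hU (hU.preimage j) le_rfl M
  let _ := φ.toAlgebra
  let _ := Module.compHom Γ((Scheme.Modules.pullback j).obj M, j ⁻¹ᵁ U) φ
  have : IsScalarTower Γ(X, U) B Γ((Scheme.Modules.pullback j).obj M, j ⁻¹ᵁ U) :=
    IsScalarTower.of_algebraMap_smul fun _ _ => rfl
  have h0 : μ x = 0 := by
    rw [hμm, pullMap_eq_resM_pullSec j hU (hU.preimage j) le_rfl M x]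
    exact (congrArg _ hx).trans (map_zero _)
  have h1 : (1 : B) ⊗ₜ[Γ(X, U)] x = 0 := hμ.equiv.injective (by
    rw [IsBaseChange.equiv_tmul, one_smul, h0, map_zero])
  let K := RingHom.ker φ
  let e : (Γ(X, U) ⧸ K) ≃ₐ[Γ(X, U)] B :=
    Ideal.quotientKerAlgEquivOfSurjective (f := Algebra.ofId Γ(X, U) B) hsurj
  have h2 := congrArg (TensorProduct.map e.symm.toLinearMap (LinearMap.id (R := Γ(X, U)) (M := Γ(M, U)))) h1
  rw [map_zero, TensorProduct.map_tmul, LinearMap.id_apply] at h2
  have h3 := congrArg (TensorProduct.quotTensorEquivQuotSMul Γ(M, U) K) h2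
  rw [map_zero, show e.symm.toLinearMap 1 = Ideal.Quotient.mk K 1 from map_one e.symm,
    TensorProduct.quotTensorEquivQuotSMul_mk_tmul, one_smul, Submodule.Quotient.mk_eq_zero] at h3
  have hK : K = RingHom.ker (j.app U).hom := by
    show RingHom.ker (j.appLE U (j ⁻¹ᵁ U) le_rfl).hom = _
    rw [he]
  rw [← hK]
  exact h3

end Closed

end Groth.Agent.Coherent.Existence
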