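import Groth.Agent.Coherent.Existence.Chart
import Groth.Agent.Coherent.Existence.PullSys

/-!
# The kernel of `G → π_* π^* G` on an affine open is killed by a power of the exceptional ideal
-/

set_option autoImplicit false
set_option backward.isDefEq.respectTransparency false

universe u

open CategoryTheory CategoryTheory.Limits AlgebraicGeometry Opposite TopologicalSpace
open Groth.Agent.Coherent Groth.Agent.Coherent.Serre Groth.Agent.PicLib
open TensorProduct

namespace Groth.Agent.Coherent.Existence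

/-- Sections dying in `π_* π^* M` die after tensoring with any chart. -/
theorem one_tmul_eq_zero_of_etaHom {X X' : Scheme.{u}} (π : X' ⟶ X) {U : X.Opens}
    (hU : IsAffineOpen U) {V : X'.Opens} (hV : IsAffineOpen V) (e : V ≤ π ⁻¹ᵁ U) (M : X.Modules)
    [Coh.IsQCoh M] (x : Γ(M, U)) (hx : (etaHom π M).app U x = 0) :
    letI := (π.appLE U V e).hom.toAlgebra
    (1 : Γ(X', V)) ⊗ₜ[Γ(X, U)] x = 0 := by
  let φ := (π.appLE U V e).hom
  obtain ⟨μ, hμ, hμm⟩ := EGA43.InjFibre.pullMap_isBaseChange π hU hV e M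
  let _ := φ.toAlgebra
  let _ := Module.compHom Γ((Scheme.Modules.pullback π).obj M, V) φ
  have : IsScalarTower Γ(X, U) Γ(X', V) Γ((Scheme.Modules.pullback π).obj M, V) :=
    IsScalarTower.of_algebraMap_smul fun _ _ => rfl
  have h0 : μ x = 0 := by
    rw [hμm, pullMap_eq_resM_pullSec π hU hV e M x]
    exact (congrArg _ hx).trans (map_zero _)
  exact hμ.equiv.injective (by rw [IsBaseChange.equiv_tmul, one_smul, h0, map_zero])

variable {A : Type u} [CommRing A] [IsNoetherianRing A] {X X' : Scheme.{u}}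
  [X.Over (Spec (CommRingCat.of A))] [IsLocallyNoetherian X] {I : Ideal A}
  {G : ℕᵒᵖ ⥤ X.Modules} (hG : Formal.IsCohFormal I G) (π : X' ⟶ X) (U : X.Opens)

omit [IsNoetherianRing A] [IsLocallyNoetherian X] in
/-- The families dying in `π_* π^*`. -/
noncomputable def etaKer : Submodule (Cpl I U) (lim hG U) where
  carrier := {x | ∀ n, (etaHom π (G.obj (op n))).app U (x.1 n) = 0}
  zero_mem' n := map_zero ((etaHom π (G.obj (op n))).app U).hom
  add_mem' {a b} ha hb n :=
    (map_add ((etaHom π (G.obj (op n))).app U).hom (a.1 n) (b.1 n)).trans (by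
      exact (congrArg₂ (· + ·) (ha n) (hb n)).trans (add_zero _))
  smul_mem' c a ha n := by
    obtain ⟨s, h₁, -⟩ := exists_lift_evalₐ U c n
    show (etaHom π (G.obj (op n))).app U (show Γ(G.obj (op n), U) from c • a.1 n) = 0
    rw [cpl_smul_eq hG U h₁]
    exact (Scheme.Modules.Hom.app_smul _ s _).trans ((congrArg _ (ha n)).trans (smul_zero _))

theorem exists_pow_kill_lim [IsProper π] (W : X.Opens) [IsIso (π ∣_ W)] (hU : IsAffineOpen U)
    (K : Ideal Γ(X, U)) (hK : ∀ p : PrimeSpectrum Γ(X, U), ¬ K ≤ p.asIdeal → hU.fromSpec p ∈ W) :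
    ∃ N : ℕ, ∀ c ∈ K ^ N, ∀ x ∈ etaKer hG π U, ∀ n, c • (show Γ(G.obj (op n), U) from x.1 n) = 0 := by
  have := isNoetherianRing_cpl (I := I) U hU
  have := isAdicComplete_cpl (I := I) U hU
  obtain ⟨hfin, hker⟩ := finite_lim_and_ker hG U hU
  let φ := algebraMap Γ(X, U) (Cpl I U)
  obtain ⟨N, hN⟩ := exists_pow_kill (R := Γ(X, U)) (cplIdeal I U) (K.map φ) (etaKer hG π U)
    fun q hqp hKq => by
      have hKq0 : ¬ K ≤ q.comap φ := fun h => hKq (Ideal.map_le_iff_le_comap.2 h)
      have hxW := hK ⟨q.comap φ, Ideal.IsPrime.comap φ⟩ hKq0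
      obtain ⟨⟨z, hzW⟩, hz⟩ := (π ∣_ W).homeomorph.surjective ⟨_, hxW⟩
      have hπz : π z = hU.fromSpec ⟨q.comap φ, Ideal.IsPrime.comap φ⟩ :=
        (morphismRestrict_base_coe π W _).symm.trans (congrArg Subtype.val hz)
      obtain ⟨m, hm, hqm⟩ := Ideal.exists_le_maximal q hqp.ne_top
      obtain ⟨V, hV, e, hzV, y, y₀, hy, hy₀, hle, hcy, hcy₀⟩ :=
        exists_chart_points π hU (Cpl I U) hqm z hπz
      let _ := (π.appLE U V e).hom.toAlgebra
      obtain ⟨g, θ, hzg, hB⟩ := exists_basicOpen_chart π hU W hV e hzV hzW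
      have hft : Algebra.FiniteType Γ(X, U) Γ(X', V) := π.finiteType_appLE hU hV e
      have hJ : cplIdeal I U ≤ m := by
        refine (IsAdicComplete.le_jacobson_bot (cplIdeal I U)).trans ?_
        exact sInf_le ⟨bot_le, hm⟩
      refine ⟨Γ(X', V), inferInstance, inferInstance, hft, y, y₀, g, θ, hy, hy₀, hle, ?_, hcy, ?_, hB,
        fun h hh n => ?_⟩
      · exact Ideal.map_le_iff_le_comap.2 (hcy₀.ge.trans' hJ)
      · rw [hπz] at hzg
        intro hgq
        have h1 : (⟨q.comap φ, Ideal.IsPrime.comap φ⟩ : PrimeSpectrum Γ(X, U)) ∈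
            PrimeSpectrum.basicOpen g := by
          rw [← hU.fromSpec_preimage_basicOpen g]; exact hzg
        exact h1 hgq
      · cases n with
        | zero => rw [pow_zero, Ideal.one_eq_top, Submodule.top_smul]; trivial
        | succ n =>
          rw [← Ideal.map_pow]
          refine tmul_one_mem_of_eq_zero (cplIdeal I U ^ (n + 1))
            ((LinearMap.proj n).comp (lim hG U).subtype) (lim_proj_surjective hG U hU n)
            (fun x hx => (hker n x).1 (LinearMap.mem_ker.1 hx)) h ?_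
          have := (hG.1 n).1
          exact one_tmul_eq_zero_of_etaHom π hU hV e (G.obj (op n)) (h.1 n) (hh n)
  refine ⟨N, fun c hc x hx n => ?_⟩
  have h1 := hN (φ c) (by rw [← Ideal.map_pow]; exact Ideal.mem_map_of_mem φ hc) x hx
  exact ((IsScalarTower.algebraMap_smul (Cpl I U) c (x.1 n)).symm.trans
    (congrArg (fun z : lim hG U => z.1 n) h1) :)

end Groth.Agent.Coherent.Existence
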