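import Mathlib.RingTheory.Filtration
import Mathlib.RingTheory.FiniteType
import Mathlib.RingTheory.Finiteness.Ideal
import Mathlib.LinearAlgebra.TensorProduct.RightExactness
import Mathlib.RingTheory.TensorProduct.Basic
import Mathlib.RingTheory.Localization.Away.Basic
import Mathlib.RingTheory.Localization.BaseChange
import Mathlib.RingTheory.FiniteStability
import Mathlib.RingTheory.TensorProduct.Finite

/-!
# Killing the kernel of the map to a birational modification

Pure algebra behind: if `p` is proper and an isomorphism outside `V(K)`, then the kernel of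
`G → p_* p^* G` on the completion is killed by a power of `K`.
-/

set_option autoImplicit false

universe u

open TensorProduct

namespace Groth.Agent.Coherent.Existence

variable {R : Type u} [CommRing R] {S : Type u} [CommRing S] [Algebra R S]
  {L : Type u} [AddCommGroup L] [Module S L]

theorem tmul_one_mem_of_eq_zero (J : Ideal S) {B : Type u} [CommRing B] [Algebra R B]
    {P : Type u} [AddCommGroup P] [Module S P] [Module R P] [IsScalarTower R S P]
    (f : L →ₗ[S] P) (hf : Function.Surjective f) (hker : LinearMap.ker f ≤ J • (⊤ : Submodule S L))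
    (h : L) (h0 : (1 : B) ⊗ₜ[R] f h = 0) :
    (1 : S ⊗[R] B) ⊗ₜ[S] h ∈
      J.map (algebraMap S (S ⊗[R] B)) • (⊤ : Submodule (S ⊗[R] B) ((S ⊗[R] B) ⊗[S] L)) := by
  -- transport the vanishing
  let bil : B →ₗ[R] P →ₗ[R] (S ⊗[R] B) ⊗[S] P :=
    LinearMap.mk₂ R (fun b p => ((1 : S) ⊗ₜ[R] b) ⊗ₜ[S] p)
      (fun b b' p => by rw [tmul_add, add_tmul])
      (fun r b p => by simp only [TensorProduct.tmul_smul, ← TensorProduct.smul_tmul'])
      (fun b p p' => by rw [tmul_add])
      (fun r b p => by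
        rw [← IsScalarTower.algebraMap_smul S r p, TensorProduct.tmul_smul,
          IsScalarTower.algebraMap_smul])
  have h1 : (1 : S ⊗[R] B) ⊗ₜ[S] f h = 0 := by
    have := congrArg (TensorProduct.lift bil) h0
    rw [map_zero, TensorProduct.lift.tmul] at this
    exact this
  obtain ⟨z, hz⟩ := (lTensor_exact (S ⊗[R] B) (f.exact_subtype_ker_map) hf
    ((1 : S ⊗[R] B) ⊗ₜ[S] h)).1 h1
  rw [← hz]
  clear hz h1
  induction z with
  | zero => rw [map_zero]; exact zero_mem _
  | add a b ha hb => rw [map_add]; exact add_mem ha hb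
  | tmul c k =>
    rw [LinearMap.lTensor_tmul]
    refine Submodule.smul_induction_on (p := fun l => c ⊗ₜ[S] l ∈ _) (hker k.2) ?_ ?_
    · intro j hj l _
      rw [TensorProduct.tmul_smul, ← IsScalarTower.algebraMap_smul (S ⊗[R] B) j]
      exact Submodule.smul_mem_smul (Ideal.mem_map_of_mem _ hj) trivial
    · intro a b ha hb
      rw [TensorProduct.tmul_add]
      exact add_mem ha hb

variable [IsNoetherianRing S] [Module.Finite S L]

theorem exists_pow_kill (J K : Ideal S) (H : Submodule S L)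
    (hq : ∀ q : Ideal S, q.IsPrime → ¬ K ≤ q →
      ∃ (B : Type u) (_ : CommRing B) (_ : Algebra R B) (_ : Algebra.FiniteType R B)
        (y y₀ : Ideal (S ⊗[R] B)) (g : R) (θ : B →ₐ[R] Localization.Away g),
        y.IsPrime ∧ y₀.IsPrime ∧ y ≤ y₀ ∧ J.map (algebraMap S (S ⊗[R] B)) ≤ y₀ ∧
        y.comap (algebraMap S (S ⊗[R] B)) = q ∧ algebraMap R S g ∉ q ∧
        (∀ b : B, ∃ (k : ℕ) (r : R), algebraMap R B g ^ k * b = algebraMap R B r) ∧
        ∀ h ∈ H, ∀ n : ℕ, (1 : S ⊗[R] B) ⊗ₜ[S] h ∈
          J.map (algebraMap S (S ⊗[R] B)) ^ n •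
            (⊤ : Submodule (S ⊗[R] B) ((S ⊗[R] B) ⊗[S] L))) :
    ∃ N : ℕ, ∀ c ∈ K ^ N, ∀ h ∈ H, c • h = 0 := by
  have key : ∀ h ∈ H, ∀ q : Ideal S, q.IsPrime → ¬ K ≤ q → ∃ a, a ∉ q ∧ a • h = 0 := by
    intro h hh q hqp hKq
    obtain ⟨B, _, _, _, y, y₀, g, θ, hy, hy₀, hle, hJ, hcomap, hg, hB, hker⟩ := hq q hqp hKq
    have : Algebra.FiniteType S (S ⊗[R] B) := inferInstance
    have : Module.Finite (S ⊗[R] B) ((S ⊗[R] B) ⊗[S] L) := inferInstance
    let B' := S ⊗[R] B
    let J' := J.map (algebraMap S B')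
    have : IsNoetherianRing B' := Algebra.FiniteType.isNoetherianRing S B'
    let x : B' ⊗[S] L := (1 : B') ⊗ₜ[S] h
    have hx : x ∈ (⨅ n : ℕ, J' ^ n • (⊤ : Submodule B' (B' ⊗[S] L))) :=
      (Submodule.mem_iInf _).2 fun n => hker h hh n
    obtain ⟨r, hr⟩ := (Ideal.mem_iInf_smul_pow_eq_bot_iff J' x).1 hx
    have hs : (1 - r.1) • x = 0 :=
      (sub_smul (1 : B') r.1 x).trans (sub_eq_zero.2 ((one_smul B' x).trans hr.symm))
    have hsy : 1 - r.1 ∉ y := fun hm => hy₀.ne_top ((Ideal.eq_top_iff_one _).2 (by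
      have := add_mem (hle hm) (hJ r.2)
      rwa [sub_add_cancel] at this))
    have hclear : ∀ z : B', ∃ (k : ℕ) (a : S),
        algebraMap S B' (algebraMap R S g) ^ k * z = algebraMap S B' a := fun z => by
      induction z using TensorProduct.induction_on with
      | zero => exact ⟨0, 0, by simp⟩
      | tmul c b =>
        obtain ⟨k, r', hr'⟩ := hB b
        refine ⟨k, c * algebraMap R S r', ?_⟩
        rw [← map_pow, ← map_pow, Algebra.TensorProduct.algebraMap_apply,
          Algebra.TensorProduct.algebraMap_apply, Algebra.TensorProduct.tmul_mul_tmul]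
        simp only [Algebra.algebraMap_self, RingHom.id_apply, one_mul]
        rw [← Algebra.smul_def, TensorProduct.smul_tmul, Algebra.smul_def, map_pow, hr',
          mul_comm c, ← Algebra.smul_def, TensorProduct.smul_tmul, Algebra.algebraMap_eq_smul_one]
      | add z z' hz hz' =>
        obtain ⟨k, a, ha⟩ := hz
        obtain ⟨k', a', ha'⟩ := hz'
        refine ⟨k + k', algebraMap R S g ^ k' * a + algebraMap R S g ^ k * a', ?_⟩
        rw [map_add, map_mul, map_mul, map_pow, map_pow, ← ha, ← ha', pow_add]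
        ring
    obtain ⟨k, a, ha⟩ := hclear (1 - r.1)
    have haq : a ∉ q := fun hm => by
      rw [← hcomap, Ideal.mem_comap, ← ha] at hm
      rcases hy.mem_or_mem hm with h' | h'
      · exact hg (hcomap.le (Ideal.mem_comap.2 (hy.mem_of_pow_mem _ h')))
      · exact hsy h'
    have h1 : (1 : B') ⊗ₜ[S] (a • h) = 0 := by
      rw [TensorProduct.tmul_smul, ← IsScalarTower.algebraMap_smul B' a x, ← ha, mul_smul, hs,
        smul_zero]
    let gS := algebraMap R S g
    let Sg := Localization.Away gS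
    let lg : Localization.Away g →ₐ[R] Sg :=
      IsLocalization.liftAlgHom (M := Submonoid.powers g) (f := Algebra.ofId R Sg) fun z => by
        obtain ⟨_, m, rfl⟩ := z
        show IsUnit ((Algebra.ofId R Sg) (g ^ m))
        rw [map_pow]
        refine IsUnit.pow m ?_
        show IsUnit (algebraMap R Sg g)
        rw [IsScalarTower.algebraMap_apply R S Sg]
        exact IsLocalization.Away.algebraMap_isUnit gS
    let ψ : B' →ₐ[S] Sg := Algebra.TensorProduct.lift (Algebra.ofId S Sg) (lg.comp θ)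
      fun _ _ => Commute.all _ _
    have h2 := congrArg (TensorProduct.map ψ.toLinearMap (LinearMap.id (R := S) (M := L))) h1
    rw [map_zero, TensorProduct.map_tmul] at h2
    have h3 : TensorProduct.mk S Sg L 1 (a • h) = 0 := by
      rw [← h2]
      show (1 : Sg) ⊗ₜ[S] (a • h) = ψ.toLinearMap 1 ⊗ₜ[S] (LinearMap.id : L →ₗ[S] L) (a • h)
      rw [AlgHom.toLinearMap_apply, map_one]
      rfl
    obtain ⟨⟨c, m, rfl⟩, hc⟩ :=
      (IsLocalizedModule.eq_zero_iff (Submonoid.powers gS) (TensorProduct.mk S Sg L 1)).1 h3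
    refine ⟨gS ^ m * a, fun hm => ?_, by rw [mul_smul]; exact hc⟩
    rcases hqp.mem_or_mem hm with h' | h'
    · exact hg (hqp.mem_of_pow_mem _ h')
    · exact haq h'
  have hrad : ∀ h : H, ∃ N, ∀ c ∈ K ^ N, c • (h : L) = 0 := fun h => by
    have hle : K ≤ Ideal.radical (LinearMap.ker (LinearMap.toSpanSingleton S L (h : L)) : Ideal S) := by
      rw [Ideal.radical_eq_sInf]
      refine le_sInf fun q ⟨hq₁, hq₂⟩ => by_contra fun hn => ?_
      obtain ⟨a, ha, ha0⟩ := key h h.2 q hq₂ hn
      exact ha (hq₁ (LinearMap.mem_ker.2 ha0))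
    obtain ⟨N, hN⟩ := Ideal.exists_pow_le_of_le_radical_of_fg hle (IsNoetherian.noetherian K)
    exact ⟨N, fun c hc => LinearMap.mem_ker.1 (hN hc)⟩
  choose N hN using hrad
  obtain ⟨r, e, he⟩ := Submodule.fg_iff_exists_fin_generating_family.1 (IsNoetherian.noetherian H)
  have hmem : ∀ i, e i ∈ H := fun i => he.le (Submodule.subset_span ⟨i, rfl⟩)
  refine ⟨Finset.univ.sup fun i => N ⟨e i, hmem i⟩, fun c hc h hh => ?_⟩
  rw [← he] at hh
  induction hh using Submodule.span_induction with
  | mem x hx =>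
    obtain ⟨i, rfl⟩ := hx
    exact hN ⟨e i, hmem i⟩ c (Ideal.pow_le_pow_right
      (Finset.le_sup (f := fun i => N ⟨e i, hmem i⟩) (Finset.mem_univ i)) hc)
  | zero => rw [smul_zero]
  | add x y _ _ hx hy => rw [smul_add, hx, hy, add_zero]
  | smul s x _ hx => rw [smul_comm, hx, smul_zero]

end Groth.Agent.Coherent.Existence
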