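import Groth.Agent.Coherent.Existence.IsoThick
import Groth.Agent.Coherent.Existence.ClosedAlgebraize

/-!
# Algebraizing a compatible system of morphisms
-/

set_option autoImplicit false
set_option backward.isDefEq.respectTransparency false

universe u

open CategoryTheory CategoryTheory.Limits AlgebraicGeometry Opposite TopologicalSpace

namespace Groth.Agent.Coherent.Existence

theorem exists_morphism (A : Type u) [CommRing A] [IsNoetherianRing A] (I : Ideal A)
    [IsAdicComplete I A] {X Y : Scheme.{u}} (f : X ⟶ Spec (CommRingCat.of A))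
    (h : Y ⟶ Spec (CommRingCat.of A)) [IsProper f] [IsSeparated h] [LocallyOfFiniteType h]
    [QuasiCompact h] (g : (n : ℕ) → (CohB1.thick f I n ⟶ CohB1.thick h I n))
    (hg₁ : ∀ n, g n ≫ CohB1.thickToBase h I n = CohB1.thickToBase f I n)
    (hg₂ : ∀ n, CohB1.thickTrans f I n ≫ g (n + 1) = g n ≫ CohB1.thickTrans h I n) :
    ∃ φ : X ⟶ Y, φ ≫ h = f ∧ ∀ n, CohB1.thickι f I n ≫ φ = g n ≫ CohB1.thickι h I n := by
  let P := pullback f h
  let s : P ⟶ Spec (CommRingCat.of A) := pullback.fst f h ≫ f
  let _ : P.Over (Spec (CommRingCat.of A)) := ⟨s⟩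
  let _ : X.Over (Spec (CommRingCat.of A)) := ⟨f⟩
  have : IsProper (X ↘ Spec (CommRingCat.of A)) := ‹IsProper f›
  have : IsSeparated (P ↘ Spec (CommRingCat.of A)) := inferInstanceAs (IsSeparated (_ ≫ f))
  have : LocallyOfFiniteType (P ↘ Spec (CommRingCat.of A)) :=
    inferInstanceAs (LocallyOfFiniteType (_ ≫ f))
  have : QuasiCompact (P ↘ Spec (CommRingCat.of A)) := inferInstanceAs (QuasiCompact (_ ≫ f))
  have hgr : ∀ n, CohB1.thickι f I n ≫ f = (g n ≫ CohB1.thickι h I n) ≫ h := fun n => by
    rw [Category.assoc, CohB1.thickι, CohB1.thickι, pullback.condition, pullback.condition,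
      ← Category.assoc, ← CohB1.thickToBase, ← CohB1.thickToBase, hg₁]
  let z : ∀ n, CohB1.thick f I n ⟶ CohB1.thick s I n := fun n =>
    pullback.lift (pullback.lift (CohB1.thickι f I n) (g n ≫ CohB1.thickι h I n) (hgr n))
      (CohB1.thickToBase f I n) (by
        rw [← Category.assoc, pullback.lift_fst]
        exact pullback.condition)
  let m : ∀ n, CohB1.thick s I n ⟶ CohB1.thick f I n := fun n =>
    pullback.lift (CohB1.thickι s I n ≫ pullback.fst f h) (CohB1.thickToBase s I n) (by
      rw [Category.assoc]; exact pullback.condition)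
  have hzι : ∀ n, z n ≫ CohB1.thickι s I n =
      pullback.lift (CohB1.thickι f I n) (g n ≫ CohB1.thickι h I n) (hgr n) :=
    fun n => pullback.lift_fst _ _ _
  have hzb : ∀ n, z n ≫ CohB1.thickToBase s I n = CohB1.thickToBase f I n :=
    fun n => pullback.lift_snd _ _ _
  have hmι : ∀ n, m n ≫ CohB1.thickι f I n = CohB1.thickι s I n ≫ pullback.fst f h :=
    fun n => pullback.lift_fst _ _ _
  have hmb : ∀ n, m n ≫ CohB1.thickToBase f I n = CohB1.thickToBase s I n :=
    fun n => pullback.lift_snd _ _ _
  have hzm : ∀ n, z n ≫ m n = 𝟙 _ := fun n => by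
    apply pullback.hom_ext
    · show (z n ≫ m n) ≫ CohB1.thickι f I n = 𝟙 _ ≫ CohB1.thickι f I n
      rw [Category.assoc, hmι, ← Category.assoc, hzι, Category.id_comp]
      exact pullback.lift_fst _ _ _
    · show (z n ≫ m n) ≫ CohB1.thickToBase f I n = 𝟙 _ ≫ CohB1.thickToBase f I n
      rw [Category.assoc, hmb, hzb, Category.id_comp]
  have hmPB : ∀ n, IsPullback (CohB1.thickι s I n) (m n) (pullback.fst f h) (CohB1.thickι f I n) :=
    fun n => by
      refine IsPullback.of_bot ?_ (hmι n).symm (IsPullback.of_hasPullback f (CohB1.specQuot I n))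
      rw [show m n ≫ pullback.snd f (CohB1.specQuot I n) = CohB1.thickToBase s I n from hmb n]
      exact IsPullback.of_hasPullback s (CohB1.specQuot I n)
  have hzc : ∀ n, IsClosedImmersion (z n) := fun n => by
    have : IsSeparated (m n) :=
      MorphismProperty.of_isPullback (P := @IsSeparated) (hmPB n) inferInstance
    have : IsClosedImmersion (z n ≫ m n) := by rw [hzm]; infer_instance
    exact IsClosedImmersion.of_comp (z n) (m n)
  have ht : ∀ n, IsPullback (CohB1.thickTrans f I n) (z n) (z (n + 1)) (CohB1.thickTrans s I n) :=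
    fun n => by
      refine IsPullback.of_bot ?_ ?_ (isPullback_thickTrans s I n)
      · rw [hzb, hzb]; exact isPullback_thickTrans f I n
      · apply pullback.hom_ext
        · show (_ ≫ z (n + 1)) ≫ CohB1.thickι s I (n + 1) = (_ ≫ _) ≫ CohB1.thickι s I (n + 1)
          rw [Category.assoc, hzι, Category.assoc, thickTrans_thickι, hzι]
          apply pullback.hom_ext
          · rw [Category.assoc, pullback.lift_fst, pullback.lift_fst, thickTrans_thickι]
          · rw [Category.assoc, pullback.lift_snd, pullback.lift_snd, ← Category.assoc, hg₂,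
              Category.assoc, thickTrans_thickι]
        · show (_ ≫ z (n + 1)) ≫ CohB1.thickToBase s I (n + 1) =
            (_ ≫ _) ≫ CohB1.thickToBase s I (n + 1)
          rw [Category.assoc, hzb, Category.assoc, (isPullback_thickTrans s I n).w,
            (isPullback_thickTrans f I n).w, ← Category.assoc, hzb]
  have hp : IsProper (z 0 ≫ CohB1.thickToBase s I 0) := by
    rw [hzb, CohB1.thickToBase]
    exact MorphismProperty.of_isPullback (P := @IsProper)
      (IsPullback.of_hasPullback f (CohB1.specQuot I 0)) ‹IsProper f›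
  obtain ⟨W, i, w, hi, hip, -, hpb⟩ :=
    exists_closedSubscheme (A := A) (I := I) (X := P) (fun n => CohB1.thick f I n) z
      (fun n => CohB1.thickTrans f I n) hzc ht hp
  let p := i ≫ pullback.fst f h
  have hpp : IsProper p := by
    have : IsProper ((i ≫ pullback.fst f h) ≫ f) := by rw [Category.assoc]; exact hip
    exact IsProper.of_comp (i ≫ pullback.fst f h) f
  have hp' : ∀ n, IsPullback (w n) (𝟙 _) p (CohB1.thickι f I n) := fun n =>
    hzm n ▸ (hpb n).paste_vert (hmPB n)
  have := isIso_of_thickenings (A := A) (I := I) p w hp'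
  refine ⟨inv p ≫ i ≫ pullback.snd f h, ?_, fun n => ?_⟩
  · rw [Category.assoc, Category.assoc, ← pullback.condition, IsIso.inv_comp_eq]
    exact (Category.assoc _ _ _).symm
  · have e : CohB1.thickι f I n = w n ≫ p :=
      (Category.id_comp _).symm.trans (hp' n).w.symm
    have e2 : w n ≫ i ≫ pullback.snd f h = g n ≫ CohB1.thickι h I n := by
      rw [← Category.assoc, (hpb n).w, Category.assoc]
      show z n ≫ CohB1.thickι s I n ≫ pullback.snd f h = _
      rw [← Category.assoc, hzι, pullback.lift_snd]
    rw [e, Category.assoc, IsIso.hom_inv_id_assoc, e2]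

end Groth.Agent.Coherent.Existence
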