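import Groth.Agent.Coherent.Existence.HomSupport

/-!
# Completion of coherent modules is fully faithful, without separatedness
-/

set_option autoImplicit false
set_option backward.isDefEq.respectTransparency false

universe u

open CategoryTheory CategoryTheory.Limits AlgebraicGeometry Opposite TopologicalSpace
open Groth.Agent.Coherent Groth.Agent.PicLib Groth.Agent.AmpleLib Groth.Agent.Coherent.Existence

namespace Groth.Agent.Coherent.NoSep

attribute [local instance] hasFiniteBiproducts

variable {A : Type u} [CommRing A] [IsNoetherianRing A] {X : Scheme.{u}}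
  [X.Over (Spec (CommRingCat.of A))] (I : Ideal A) [IsLocallyNoetherian X]

/-- `Hom(F, N)` is supported in the support of `N` for `F` of finite presentation. -/
theorem support_internalHom_subset' (F N : X.Modules) (hN : IsClosed (CohB1.support N)) :
    CohB1.support (internalHom F N) ⊆ CohB1.support N := by
  intro z hz
  by_contra hzF
  refine hz (subsingleton_of_forall_eq 0 fun t => ?_)
  obtain ⟨V, hzV, φ, rfl⟩ := TopCat.Presheaf.exists_germ_eq (internalHom F N).presheaf t
  let W : X.Opens := V ⊓ ⟨(CohB1.support N)ᶜ, hN.isOpen_compl⟩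
  have h0 : resM (internalHom F N) (inf_le_left : W ≤ V) φ = 0 := by
    refine locHom_ext (φ := secHom (resM (internalHom F N) (inf_le_left : W ≤ V) φ)) fun W' hW a => ?_
    exact (eq_zero_of_disjoint_support N W' (fun y hy => (hW hy).2) _).trans
      (eq_zero_of_disjoint_support N W' (fun y hy => (hW hy).2) _).symm
  refine ((internalHom F N).presheaf.germ_res_apply
    (homOfLE (inf_le_left : W ≤ V)) z ⟨hzV, hzF⟩ φ).symm.trans ?_
  exact (congrArg _ h0).trans (map_zero _)

/-- Finitely many affine opens covering an intersection. -/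
theorem exists_cover_inf [CompactSpace X] (U V : X.Opens) :
    ∃ (t : Finset X.affineOpens), ∀ x : X, x ∈ U ⊓ V → ∃ w : t, x ∈ (w.1.1 : X.Opens) ∧ w.1.1 ≤ U ⊓ V := by
  have : IsNoetherian X := {}
  obtain ⟨t, ht, e⟩ := isCompact_iff_finite_and_eq_biUnion_affineOpens.1
    (NoetherianSpace.isCompact ((U ⊓ V : X.Opens) : Set X))
  refine ⟨ht.toFinset, fun x hx => ?_⟩
  have hx' := hx
  rw [← SetLike.mem_coe, e] at hx'
  obtain ⟨w, hw, hxw⟩ := Opens.mem_iSup.1 hx' |>.imp fun w h => Opens.mem_iSup.1 h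
  exact ⟨⟨w, ht.mem_toFinset.2 hw⟩, hxw, e ▸ le_iSup₂ (f := fun (i : X.affineOpens) (_ : i ∈ t) => (i.1 : X.Opens)) w hw⟩

section Main

variable [CompactSpace X] {M N : X.Modules} (hM : Coh.IsCoh M) (hN : Coh.IsCoh N)
include hM hN

/-- Artin–Rees constants for the affine opens of a finite family. -/
theorem exists_const {ι : Type*} [Finite ι] (U : ι → X.Opens) (hU : ∀ i, IsAffineOpen (U i)) :
    ∃ c : ℕ, ∀ i n, (∀ φ : Γ(internalHom M N, U i),
        (∀ m, (Formal.modPowπ I (n + c) N).app (U i) (evLin φ m) = 0) →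
        (Formal.modPowπ I n (internalHom M N)).app (U i) φ = 0) ∧
      ∀ τ : M ⟶ Formal.modPow I (n + c) N, ∃ φ : Γ(internalHom M N, U i), ∀ (m : Γ(M, U i))
        (y : Γ(N, U i)), (Formal.modPowπ I (n + c) N).app (U i) y = τ.app (U i) m →
          (Formal.modPowπ I n N).app (U i) (evLin φ m) = (Formal.modPowπ I n N).app (U i) y := by
  classical
  have := Fintype.ofFinite ι
  have := hM.1
  have := hN.1
  obtain ⟨-, hfM⟩ := (isCoh_iff_finite_sections M).1 hM
  obtain ⟨-, hfN⟩ := (isCoh_iff_finite_sections N).1 hN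
  have hH := isCoh_internalHom hM hN
  have key : ∀ i, ∃ c, ∀ n, (∀ φ : Γ(M, U i) →ₗ[Γ(X, U i)] Γ(N, U i),
      (∀ m, φ m ∈ openIdeal I (U i) ^ (n + c) • (⊤ : Submodule Γ(X, U i) Γ(N, U i))) →
        φ ∈ openIdeal I (U i) ^ n • (⊤ : Submodule Γ(X, U i) _)) ∧
      ∀ ψ : Γ(M, U i) → Γ(N, U i),
        (∀ a b, ψ (a + b) - ψ a - ψ b ∈ openIdeal I (U i) ^ (n + c) • (⊤ : Submodule Γ(X, U i) Γ(N, U i))) →
        (∀ (r : Γ(X, U i)) a, ψ (r • a) - r • ψ a ∈
          openIdeal I (U i) ^ (n + c) • (⊤ : Submodule Γ(X, U i) Γ(N, U i))) →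
        ∃ φ : Γ(M, U i) →ₗ[Γ(X, U i)] Γ(N, U i),
          ∀ m, φ m - ψ m ∈ openIdeal I (U i) ^ n • (⊤ : Submodule Γ(X, U i) Γ(N, U i)) := fun i => by
    have : IsNoetherianRing Γ(X, U i) := IsLocallyNoetherian.component_noetherian ⟨_, hU i⟩
    have := hfM _ (hU i)
    have := hfN _ (hU i)
    exact exists_hom_pro (openIdeal I (U i))
  choose c hc using key
  refine ⟨Finset.univ.sup c, fun i n => ⟨fun φ hφ => ?_, fun τ => ?_⟩⟩
  · have hle : n + c i ≤ n + Finset.univ.sup c := Nat.add_le_add_left (Finset.le_sup (Finset.mem_univ i)) n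
    have h := (hc i n).1 (secLinEquiv (hU i) φ) fun m =>
      Submodule.smul_mono_left (Ideal.pow_le_pow_right hle)
        ((modPowπ_app_eq_zero_iff I hN _ (hU i) _).1 (hφ m))
    rw [modPowπ_app_eq_zero_iff I hH n (hU i)]
    have h' := Submodule.mem_map_of_mem (f := (secLinEquiv (F := M) (N := N) (hU i)).symm.toLinearMap) h
    rw [Submodule.map_smul''] at h'
    have h'' := Submodule.smul_mono (le_refl (openIdeal I (U i) ^ n)) (le_top (a := Submodule.map
      (secLinEquiv (F := M) (N := N) (hU i)).symm.toLinearMap ⊤)) h'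
    simpa using h''
  · have hle : n + c i ≤ n + Finset.univ.sup c := Nat.add_le_add_left (Finset.le_sup (Finset.mem_univ i)) n
    have hs := modPowπ_app_surjective' I hN (n + Finset.univ.sup c) (hU i)
    choose ψ hψ using fun m : Γ(M, U i) => hs (τ.app (U i) m)
    have hmem : ∀ z, (Formal.modPowπ I (n + Finset.univ.sup c) N).app (U i) z = 0 →
        z ∈ openIdeal I (U i) ^ (n + c i) • (⊤ : Submodule Γ(X, U i) Γ(N, U i)) := fun z hz =>
      Submodule.smul_mono_left (Ideal.pow_le_pow_right hle) ((modPowπ_app_eq_zero_iff I hN _ (hU i) _).1 hz)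
    obtain ⟨φ, hφ⟩ := (hc i n).2 ψ
      (fun a b => hmem _ (by rw [map_sub, map_sub, hψ, hψ, hψ, map_add, add_sub_cancel_left, sub_self]))
      (fun r a => hmem _ (by
        rw [map_sub, Scheme.Modules.Hom.app_smul, hψ, hψ, Scheme.Modules.Hom.app_smul, sub_self]))
    refine ⟨(secLinEquiv (hU i)).symm φ, fun m y hy => ?_⟩
    rw [← sub_eq_zero, ← map_sub, modPowπ_app_eq_zero_iff I hN n (hU i)]
    show secLinEquiv (hU i) ((secLinEquiv (hU i)).symm φ) m - y ∈ _
    rw [LinearEquiv.apply_symm_apply, ← sub_add_sub_cancel (φ m) (ψ m) y]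
    refine Submodule.add_mem _ (hφ m) (Submodule.smul_mono_left (Ideal.pow_le_pow_right (by omega))
      (hmem _ (by rw [map_sub, hψ, hy, sub_self])))


set_option maxHeartbeats 800000 in
/-- Full faithfulness needs only that sections of `Hom(M, N)` are the limit of their reductions. -/
theorem existsUnique_hom_of_bijective
    (hbij : Function.Bijective (Formal.toHHlim I (internalHom M N) 0))
    (τ : Formal.completion I M ⟶ Formal.completion I N) :
    ∃! φ : M ⟶ N, ∀ n : ℕ,
      Formal.modPowπ I (n + 1) M ≫ τ.app (op n) = φ ≫ Formal.modPowπ I (n + 1) N := by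
  classical
  have := hM.1
  have := hN.1
  have hH := isCoh_internalHom hM hN
  obtain ⟨s, hs⟩ := Groth.Agent.H8Top.exists_finite_affine_cover X
  choose t ht using fun p : s × s => exists_cover_inf p.1.1.1 p.2.1.1
  let κ := s ⊕ ((p : s × s) × t p)
  let V : κ → X.Opens := Sum.elim (fun i => i.1.1) (fun p => p.2.1.1)
  have hV : ∀ k, IsAffineOpen (V k) := fun k => by
    rcases k with i | p
    · exact i.1.2
    · exact p.2.1.2
  obtain ⟨c, hc⟩ := exists_const I hM hN V hV
  have hcov : ∀ x : X, ∃ i : s, x ∈ (i.1.1 : X.Opens) := fun x => Opens.mem_iSup.1 (hs.ge (Opens.mem_top x))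
  -- the target morphisms
  let T : ∀ k, M ⟶ Formal.modPow I (k + 1) N := fun k => Formal.modPowπ I (k + 1) M ≫ τ.app (op k)
  have hT : ∀ {n k : ℕ} (h : n ≤ k), T k ≫ (Formal.completion I N).map (homOfLE h).op = T n := by
    intro n k h
    show (Formal.modPowπ I (k + 1) M ≫ τ.app (op k)) ≫ _ = _
    rw [Category.assoc]
    erw [← τ.naturality (homOfLE h).op]
    rw [← Category.assoc]
    exact congrArg (· ≫ τ.app (op n)) (modPowπ_completion_map I M h)
  -- compatibility of the projections on `N`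
  have hπ : ∀ {n k : ℕ} (h : n ≤ k) (W : X.Opens) (y : Γ(N, W)),
      ((Formal.completion I N).map (homOfLE h).op).app W ((Formal.modPowπ I (k + 1) N).app W y) =
        (Formal.modPowπ I (n + 1) N).app W y := fun h W y =>
    congrArg (fun ψ : N ⟶ Formal.modPow I (_ + 1) N => ψ.app W y) (modPowπ_completion_map I N h)
  have hTm : ∀ {n k a b : ℕ} (ha : k + 1 = a) (hb : n + 1 = b) (h : n ≤ k), ∃ π : Formal.modPow I a N ⟶ Formal.modPow I b N,
      Formal.modPowπ I a N ≫ π = Formal.modPowπ I b N ∧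
        (T k ≫ eqToHom (by rw [ha])) ≫ π = T n ≫ eqToHom (by rw [hb]) := by
    rintro n k a b rfl rfl h
    refine ⟨(Formal.completion I N).map (homOfLE h).op, modPowπ_completion_map I N h, ?_⟩
    simp only [eqToHom_refl, Category.comp_id]
    exact hT h
  -- the level of the local lifts
  let L : ℕ → ℕ := fun n => n + c
  let T₁ : ∀ n, M ⟶ Formal.modPow I (n + 1 + c) N := fun n =>
    T (n + c) ≫ eqToHom (by rw [Nat.add_right_comm])
  have hexist : ∀ (n : ℕ) (i : s), ∃ φ, Good I M N (n + 1 + c) (T₁ n) i.1.1 φ := fun n i => by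
    obtain ⟨π, hπ', hT'⟩ := hTm (n := n + c) (k := n + c + c) (a := n + 1 + c + c) (b := n + 1 + c)
      (by omega) (by omega) (Nat.le_add_right _ _)
    exact exists_good I hM hN i.1.2 ((hc (Sum.inl i) (n + 1 + c)).2) _ _ π hπ' hT'
  have hunique : ∀ (n : ℕ) (k : κ) (φ φ' : Γ(internalHom M N, V k)),
      Good I M N (n + 1 + c) (T₁ n) (V k) φ → Good I M N (n + 1 + c) (T₁ n) (V k) φ' →
      (Formal.modPowπ I (n + 1) (internalHom M N)).app (V k) φ =
        (Formal.modPowπ I (n + 1) (internalHom M N)).app (V k) φ' := fun n k φ φ' h h' =>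
    good_unique I (hc k (n + 1)).1 h h'
  have hGood_down : ∀ {n k : ℕ}, n ≤ k → ∀ {W : X.Opens} {φ : Γ(internalHom M N, W)},
      Good I M N (k + 1 + c) (T₁ k) W φ → Good I M N (n + 1 + c) (T₁ n) W φ := by
    intro n k h W φ hφ W' hW m
    obtain ⟨π, hπ', hT'⟩ := hTm (n := n + c) (k := k + c) (a := k + 1 + c) (b := n + 1 + c)
      (by omega) (by omega) (by omega)
    rw [← hπ']
    refine (congrArg (π.app W') (hφ W' hW m)).trans ?_
    exact congrArg (fun ψ : M ⟶ Formal.modPow I (n + 1 + c) N => ψ.app W' m) hT'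
  have hGood_zero : ∀ {n : ℕ} {W : X.Opens} {φ : Γ(internalHom M N, W)},
      Good I M N (n + 1 + c) (T₁ n) W φ → ∀ (W' : X.Opens) (hW : W' ≤ W) (m : Γ(M, W')),
        (Formal.modPowπ I (n + 1) N).app W' (ev (secHom φ) W' hW m) = (T n).app W' m := by
    intro n W φ hφ W' hW m
    obtain ⟨π, hπ', hT'⟩ := hTm (n := n) (k := n + c) (a := n + 1 + c) (b := n + 1)
      (by omega) rfl (Nat.le_add_right _ _)
    rw [← hπ']
    refine (congrArg (π.app W') (hφ W' hW m)).trans ?_
    have hT'' := hT'.trans (Category.comp_id _)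
    exact congrArg (fun ψ : M ⟶ Formal.modPow I (n + 1) N => ψ.app W' m) hT''
  choose φ hφ using hexist
  -- glue modulo the powers
  have hglue : ∀ n, ∃ z : Γ(Formal.modPow I (n + 1) (internalHom M N), (⊤ : X.Opens)), ∀ i : s,
      resM _ le_top z = (Formal.modPowπ I (n + 1) (internalHom M N)).app i.1.1 (φ n i) := fun n => by
    have compat : TopCat.Presheaf.IsCompatible (Coh.toAb (Formal.modPow I (n + 1) (internalHom M N))).obj
        (fun i : s => i.1.1) fun i => (Formal.modPowπ I (n + 1) (internalHom M N)).app i.1.1 (φ n i) := by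
      intro i j
      change resM _ inf_le_left ((Formal.modPowπ I (n + 1) (internalHom M N)).app i.1.1 (φ n i)) =
        resM _ inf_le_right ((Formal.modPowπ I (n + 1) (internalHom M N)).app j.1.1 (φ n j))
      refine AmpleLib.sec_ext _ _ _ fun x hx => ?_
      obtain ⟨w, hxw, hw⟩ := ht (i, j) x hx
      refine ⟨w.1.1, hw, hxw, ?_⟩
      rw [← app_resM, ← app_resM, ← app_resM, ← app_resM]
      exact hunique n (Sum.inr ⟨(i, j), w⟩) _ _
        (Good.res I hw (Good.res I inf_le_left (hφ n i))) (Good.res I hw (Good.res I inf_le_right (hφ n j)))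
    obtain ⟨z, hz, -⟩ := TopCat.Sheaf.existsUnique_gluing' (X := X.toTopCat)
      (Coh.toAb (Formal.modPow I (n + 1) (internalHom M N))) (fun i : s => i.1.1) ⊤
      (fun i => homOfLE le_top) (fun x _ => Opens.mem_iSup.2 (hcov x)) _ compat
    exact ⟨z, hz⟩
  choose z hz using hglue
  let ξ : Formal.HHlim I (internalHom M N) 0 :=
    ⟨fun n => (hSec _).symm (z n), fun n => (hSec _).injective (by
      refine (hSec_map (Formal.modPowTrans I (n + 1) (internalHom M N)) _).trans ?_
      rw [AddEquiv.apply_symm_apply, AddEquiv.apply_symm_apply]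
      refine AmpleLib.sec_ext _ _ _ fun x _ => ?_
      obtain ⟨i, hxi⟩ := hcov x
      refine ⟨i.1.1, le_top, hxi, ?_⟩
      rw [← app_resM, hz, hz]
      refine (congrArg (fun ψ : internalHom M N ⟶ Formal.modPow I (n + 1) (internalHom M N) =>
        ψ.app i.1.1 (φ (n + 1) i)) (Formal.modPowπ_trans I (n + 1) (internalHom M N))).trans ?_
      exact hunique n (Sum.inl i) _ _ (hGood_down (Nat.le_succ n) (hφ (n + 1) i)) (hφ n i))⟩
  obtain ⟨x, hx⟩ := hbij.2 ξ
  let h₀ := hSec (internalHom M N) x
  have hh₀ : ∀ n, (Formal.modPowπ I (n + 1) (internalHom M N)).app ⊤ h₀ = z n := fun n => by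
    have := congrArg (fun η : Formal.HHlim I (internalHom M N) 0 => hSec _ (η.1 n)) hx
    refine ((hSec_map (Formal.modPowπ I (n + 1) (internalHom M N)) x).symm.trans this).trans ?_
    exact AddEquiv.apply_symm_apply _ _
  refine ⟨secMor h₀, fun n => ?_, fun φ' hφ' => ?_⟩
  · refine Scheme.Modules.hom_ext _ _ fun W => ?_
    ext m
    refine AmpleLib.sec_ext _ _ _ fun x hx => ?_
    obtain ⟨i, hxi⟩ := hcov x
    refine ⟨W ⊓ i.1.1, inf_le_left, ⟨hx, hxi⟩, ?_⟩
    show resM _ _ ((T n).app W m) = resM _ _ ((Formal.modPowπ I (n + 1) N).app W ((secMor h₀).app W m))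
    rw [← app_resM, ← app_resM, ← app_resM]
    refine Eq.trans (hGood_zero (hφ n i) (W ⊓ i.1.1) inf_le_right (resM M inf_le_left m)).symm ?_
    -- the difference lies in `I^(n+1) Hom`, hence has values in `I^(n+1) N`
    have hd : (Formal.modPowπ I (n + 1) (internalHom M N)).app i.1.1
        (φ n i - resM (internalHom M N) le_top h₀) = 0 := by
      rw [map_sub, ← hz n i, app_resM, hh₀, sub_self]
    rw [modPowπ_app_eq_zero_iff I hH (n + 1) i.1.2] at hd
    rw [← sub_eq_zero, ← map_sub]
    have hval : ∀ (a : Γ(M, i.1.1)),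
        (Formal.modPowπ I (n + 1) N).app i.1.1 (evLin (φ n i - resM (internalHom M N) le_top h₀) a) = 0 := by
      intro a
      rw [modPowπ_app_eq_zero_iff I hN (n + 1) i.1.2]
      have h1 := Submodule.mem_map_of_mem
        (f := ((LinearMap.applyₗ a).comp (secLinEquiv (F := M) (N := N) i.1.2).toLinearMap)) hd
      rw [Submodule.map_smul''] at h1
      exact Submodule.smul_mono le_rfl le_top h1
    let d := φ n i - resM (internalHom M N) (le_top : i.1.1 ≤ ⊤) h₀
    have e := locHom_ext_affine (F := M) i.1.2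
      (φ := secHom ((internalHomMap M (Formal.modPowπ I (n + 1) N)).app i.1.1 d)) (ψ := 0) fun a => by
        rw [ev_internalHomMap]
        exact hval a
    have e' := congrArg (fun ψ => ev ψ (W ⊓ i.1.1) inf_le_right (resM M inf_le_left m)) e
    exact (ev_internalHomMap M (Formal.modPowπ I (n + 1) N) d (W ⊓ i.1.1) inf_le_right _).symm.trans e'
  · have hzero : ∀ n, (Formal.modPowπ I (n + 1) (internalHom M N)).app ⊤ (homSec φ') = z n := fun n => by
      refine AmpleLib.sec_ext _ _ _ fun x _ => ?_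
      obtain ⟨i, hxi⟩ := hcov x
      refine ⟨i.1.1, le_top, hxi, ?_⟩
      rw [hz, ← app_resM]
      refine hunique n (Sum.inl i) _ _ (fun W' hW m => ?_) (hφ n i)
      obtain ⟨π, hπ', hT'⟩ := hTm (n := n + c) (k := n + c) (a := n + 1 + c) (b := n + 1 + c)
        (by omega) (by omega) le_rfl
      refine Eq.trans ?_ (congrArg (fun ψ : M ⟶ Formal.modPow I (n + 1 + c) N => ψ.app W' m)
        (show φ' ≫ Formal.modPowπ I (n + 1 + c) N = T₁ n from ?_))
      · rfl
      · show _ = (Formal.modPowπ I (n + c + 1) M ≫ τ.app (op (n + c))) ≫ eqToHom _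
        rw [hφ' (n + c), Category.assoc]
        exact congrArg (φ' ≫ ·) (modPowπ_eqToHom I N (show n + c + 1 = n + 1 + c by omega)).symm
    have hx' : Formal.toHHlim I (internalHom M N) 0 ((hSec _).symm (homSec φ')) = ξ := by
      refine Subtype.ext (funext fun n => (hSec _).injective ?_)
      refine (hSec_map (Formal.modPowπ I (n + 1) (internalHom M N)) _).trans ?_
      rw [AddEquiv.apply_symm_apply, hzero]
      exact (AddEquiv.apply_symm_apply _ _).symm
    have e : homSec φ' = h₀ := by
      exact ((hSec (internalHom M N)).apply_symm_apply _).symm.trans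
        (congrArg (hSec (internalHom M N)) (hbij.1 (hx'.trans hx.symm)))
    rw [← e]
    rfl

/-- A compatible family of morphisms modulo the powers of `I` comes from a unique morphism. -/
theorem existsUnique_hom [IsAdicComplete I A] [FiniteOnSupp A (internalHom M N)]
    (τ : Formal.completion I M ⟶ Formal.completion I N) :
    ∃! φ : M ⟶ N, ∀ n : ℕ,
      Formal.modPowπ I (n + 1) M ≫ τ.app (op n) = φ ≫ Formal.modPowπ I (n + 1) N :=
  existsUnique_hom_of_bijective I hM hN (toHHlim_bijective I (isCoh_internalHom hM hN) 0) τ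

end Main

end Groth.Agent.Coherent.NoSep
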