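import Groth.Agent.Coherent.Existence.Embedding
import Groth.Agent.Coherent.Existence.EssSurj
import Groth.Agent.RelVALib.AffineProj
import Groth.Agent.S8563

/-!
# Grothendieck's existence theorem for proper schemes
-/

set_option autoImplicit false
set_option backward.isDefEq.respectTransparency false

universe u

open CategoryTheory CategoryTheory.Limits AlgebraicGeometry Opposite TopologicalSpace
open Groth.Agent.Coherent Groth.Agent.Coherent.Serre

namespace Groth.Agent.Coherent.Existence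

variable {A : Type u} [CommRing A] {I : Ideal A}

theorem algebraizable_of_isEmpty {X : Scheme.{u}} [X.Over (Spec (CommRingCat.of A))] [IsEmpty X]
    {G : ℕᵒᵖ ⥤ X.Modules} (hG : Formal.IsCohFormal I G) :
    ∃ M : X.Modules, Coh.IsCoh M ∧ Nonempty (Formal.completion I M ≅ G) := by
  have hz : ∀ M : X.Modules, IsZero M := fun M => ModStalk.isZero_of_stalks fun z => isEmptyElim z
  exact ⟨G.obj (op 0), hG.1 0,
    ⟨NatIso.ofComponents (fun n => (hz _).iso (hz _)) fun f => (hz _).eq_of_src _ _⟩⟩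

variable [IsNoetherianRing A] [IsAdicComplete I A]

/-- Every coherent formal module on a proper scheme is a completion. -/
theorem algebraizable_of_proper (X₀ : Scheme.{u}) [X₀.Over (Spec (CommRingCat.of A))]
    [IsProper (X₀ ↘ Spec (CommRingCat.of A))] (G : ℕᵒᵖ ⥤ X₀.Modules) (hG : Formal.IsCohFormal I G) :
    ∃ M : X₀.Modules, Coh.IsCoh M ∧ Nonempty (Formal.completion I M ≅ G) := by
  have : IsLocallyNoetherian X₀ :=
    LocallyOfFiniteType.isLocallyNoetherian (X₀ ↘ Spec (CommRingCat.of A))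
  have : CompactSpace X₀ := QuasiCompact.compactSpace_of_compactSpace (X₀ ↘ Spec (CommRingCat.of A))
  have : AlgebraicGeometry.IsNoetherian X₀ := {}
  have hmain : ∀ S : Closeds X₀, ∀ (Z : Scheme.{u}) [Z.Over (Spec (CommRingCat.of A))] (i : Z ⟶ X₀),
      IsClosedImmersion i → i ≫ (X₀ ↘ Spec (CommRingCat.of A)) = Z ↘ Spec (CommRingCat.of A) →
      Set.range i ⊆ (S : Set X₀) → ∀ G : ℕᵒᵖ ⥤ Z.Modules, Formal.IsCohFormal I G →
        ∃ M : Z.Modules, Coh.IsCoh M ∧ Nonempty (Formal.completion I M ≅ G) := by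
    intro S
    induction S using WellFoundedLT.induction with | ind S ih => ?_
    intro Z _ i hi hiS hrange G hG
    rcases isEmpty_or_nonempty Z with hZ | hZ
    · exact algebraizable_of_isEmpty hG
    have : IsProper (Z ↘ Spec (CommRingCat.of A)) := hiS ▸ inferInstance
    have : IsLocallyNoetherian Z := LocallyOfFiniteType.isLocallyNoetherian (Z ↘ Spec (CommRingCat.of A))
    have : CompactSpace Z := QuasiCompact.compactSpace_of_compactSpace (Z ↘ Spec (CommRingCat.of A))
    have : Z.IsSeparated := isSeparated_of_isProper (Z ↘ Spec (CommRingCat.of A))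
    obtain ⟨Z', π, hπ, hqp, V, hV, hiso⟩ := Groth.Agent.S8563.result (Z ↘ Spec (CommRingCat.of A))
    have := RelVALib.isProper_of_isProjective hπ
    let _ : Z'.Over (Spec (CommRingCat.of A)) := ⟨π ≫ (Z ↘ Spec (CommRingCat.of A))⟩
    have : IsProper (Z' ↘ Spec (CommRingCat.of A)) :=
      inferInstanceAs (IsProper (π ≫ (Z ↘ Spec (CommRingCat.of A))))
    have : IsLocallyNoetherian Z' := LocallyOfFiniteType.isLocallyNoetherian π
    obtain ⟨L, hL⟩ := hqp.2.2
    have hLa := RelVALib.isAmple_of_isRelAmple_of_isAffine _ hL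
    obtain ⟨y, hy⟩ := hV
    let S' : Closeds X₀ := ⟨i '' (V : Set Z)ᶜ, i.isClosedMap _ V.isOpen.isClosed_compl⟩
    have hlt : S' < S := by
      refine lt_of_le_not_ge (fun x ⟨z, _, hz⟩ => hrange ⟨z, hz⟩) fun h => ?_
      obtain ⟨z, hz, hzy⟩ := h (hrange ⟨y, rfl⟩)
      exact hz (i.isClosedEmbedding.injective hzy ▸ hy)
    have hemb : ∀ G : ℕᵒᵖ ⥤ Z.Modules, Formal.IsCohFormal I G → ∃ M : Z.Modules, Coh.IsCoh M ∧
        ∃ β : ∀ n, G.obj (op n) ⟶ (Formal.completion I M).obj (op n), Compat β ∧ ARMono β := by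
      intro G hG
      obtain ⟨F, hF, ⟨e⟩⟩ := exists_algebraization I hLa (isCohFormal_pullSys (p := π) rfl hG)
      obtain ⟨M, hM, -, hβ⟩ := exists_embedding π rfl V hG hF e (fun _ => True) (fun _ _ => trivial)
        trivial fun {W} _ j _ hj hjV => by
          have : IsLocallyNoetherian W := LocallyOfFiniteType.isLocallyNoetherian j
          obtain ⟨M, hM, he⟩ := ih S' hlt W (j ≫ i) inferInstance
            (by rw [Category.assoc, hiS, hj]) (by
              rintro x ⟨w, rfl⟩
              exact ⟨j w, hjV ⟨w, rfl⟩, (Scheme.Hom.comp_apply j i w).symm⟩)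
            (pullSys j G) (isCohFormal_pullSys hj hG)
          exact ⟨M, hM, trivial, he⟩
      exact ⟨M, hM, hβ⟩
    obtain ⟨M, hM, α, hαc, hα⟩ := hemb G hG
    obtain ⟨M', hM', γ, hγc, hγ⟩ :=
      hemb (cokerSys hαc) (isCohFormal_cokerSys hαc hG (isCohFormal_completion I hM))
    obtain ⟨φ, he⟩ := algebraizable_of_two_step hG hM hM'
      (fun τ => (existsUnique_hom I hM hM' τ).exists) hαc hα hγc hγ
    exact ⟨kernel φ, isCoh_kernel φ hM hM'.1, he⟩
  exact hmain ⊤ X₀ (𝟙 X₀) inferInstance (Category.id_comp _) (Set.subset_univ _) G hG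

end Groth.Agent.Coherent.Existence
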