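import Groth.Agent.Coherent.Existence.Extend
import Groth.Agent.Coherent.FormalSupport
import Groth.Agent.RelVALib.QuasiProj
import Groth.Agent.RelVALib.ChowOpen
import Groth.Agent.Coherent.DevissageMain
import Groth.Agent.RelVALib.Projective

/-!
# Grothendieck's existence theorem with proper supports
-/

set_option autoImplicit false
set_option backward.isDefEq.respectTransparency false

universe u

open CategoryTheory CategoryTheory.Limits AlgebraicGeometry Opposite TopologicalSpace
open Groth.Agent.Coherent Groth.Agent.Coherent.Serre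

namespace Groth.Agent.Coherent.Existence

variable {A : Type u} [CommRing A] [IsNoetherianRing A] {I : Ideal A}

omit [IsNoetherianRing A] in
/-- A quasi-projective scheme over an affine base is open in a proper one. -/
theorem exists_proper_openImmersion {X : Scheme.{u}} {f : X ⟶ Spec (CommRingCat.of A)}
    (hf : RelProj.IsQuasiProjective f) :
    ∃ (Xb : Scheme.{u}) (j : X ⟶ Xb) (g : Xb ⟶ Spec (CommRingCat.of A)),
      IsOpenImmersion j ∧ IsProper g ∧ j ≫ g = f := by
  obtain ⟨M, E, hft, 𝒮, j₀, Q, p, chart, O1, lam, φ₀, i, D, hi, hip, -⟩ :=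
    RelVALib.exists_hasBundleImmersion_of_isQuasiProjective (Or.inl ⟨inferInstance, inferInstance⟩) hf
  have hp : IsProper p := RelVALib.isProper_bundle D.hE hft D.hj D.hP
  have := hi
  have : QuasiCompact (i ≫ p) := by rw [hip]; exact hf.2.1
  have : QuasiCompact i := QuasiCompact.of_comp i p
  exact ⟨i.image, i.toImage, i.imageι ≫ p, inferInstance, inferInstance,
    by rw [← Category.assoc, Scheme.Hom.toImage_imageι, hip]⟩

variable [IsAdicComplete I A]

/-- Formal modules with proper support on a quasi-projective scheme are completions. -/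
theorem algebraizable_of_isQuasiProjective {X : Scheme.{u}} [X.Over (Spec (CommRingCat.of A))]
    (hf : RelProj.IsQuasiProjective (X ↘ Spec (CommRingCat.of A))) {G : ℕᵒᵖ ⥤ X.Modules}
    (hG : Formal.IsCohFormal I G)
    (hs : ClSub.IsProperOver (X ↘ Spec (CommRingCat.of A)) (CohB1.support (G.obj (op 0)))) :
    ∃ M : X.Modules, Coh.IsCoh M ∧
      ClSub.IsProperOver (X ↘ Spec (CommRingCat.of A)) (CohB1.support M) ∧
      Nonempty (Formal.completion I M ≅ G) := by
  obtain ⟨Xb, j, g, hj, hg, hjg⟩ := exists_proper_openImmersion hf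
  let _ : Xb.Over (Spec (CommRingCat.of A)) := ⟨g⟩
  have : IsProper (Xb ↘ Spec (CommRingCat.of A)) := hg
  have := hf.1
  have : IsLocallyNoetherian Xb := LocallyOfFiniteType.isLocallyNoetherian (Xb ↘ Spec (CommRingCat.of A))
  have : IsLocallyNoetherian X := LocallyOfFiniteType.isLocallyNoetherian (X ↘ Spec (CommRingCat.of A))
  exact algebraizable_of_openImmersion (A := A) (X := Xb) (j := j) hjg hG hs

/-- Coherent formal modules with proper support are completions. -/
theorem algebraizable_of_properSupport (X₀ : Scheme.{u}) [X₀.Over (Spec (CommRingCat.of A))]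
    [IsSeparated (X₀ ↘ Spec (CommRingCat.of A))] [LocallyOfFiniteType (X₀ ↘ Spec (CommRingCat.of A))]
    [QuasiCompact (X₀ ↘ Spec (CommRingCat.of A))] (G : ℕᵒᵖ ⥤ X₀.Modules) (hG : Formal.IsCohFormal I G)
    (hs : ClSub.IsProperOver (X₀ ↘ Spec (CommRingCat.of A)) (CohB1.support (G.obj (op 0)))) :
    ∃ M : X₀.Modules, Coh.IsCoh M ∧
      ClSub.IsProperOver (X₀ ↘ Spec (CommRingCat.of A)) (CohB1.support M) ∧
      Nonempty (Formal.completion I M ≅ G) := by
  have : IsLocallyNoetherian X₀ :=
    LocallyOfFiniteType.isLocallyNoetherian (X₀ ↘ Spec (CommRingCat.of A))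
  have : CompactSpace X₀ := QuasiCompact.compactSpace_of_compactSpace (X₀ ↘ Spec (CommRingCat.of A))
  have : AlgebraicGeometry.IsNoetherian X₀ := {}
  have hmain : ∀ S : Closeds X₀, ∀ (Z : Scheme.{u}) [Z.Over (Spec (CommRingCat.of A))] (i : Z ⟶ X₀),
      IsClosedImmersion i → i ≫ (X₀ ↘ Spec (CommRingCat.of A)) = Z ↘ Spec (CommRingCat.of A) →
      Set.range i ⊆ (S : Set X₀) → ∀ G : ℕᵒᵖ ⥤ Z.Modules, Formal.IsCohFormal I G →
        ClSub.IsProperOver (Z ↘ Spec (CommRingCat.of A)) (CohB1.support (G.obj (op 0))) →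
        ∃ M : Z.Modules, Coh.IsCoh M ∧
          ClSub.IsProperOver (Z ↘ Spec (CommRingCat.of A)) (CohB1.support M) ∧
          Nonempty (Formal.completion I M ≅ G) := by
    intro S
    induction S using WellFoundedLT.induction with | ind S ih => ?_
    intro Z _ i hi hiS hrange G hG hGs
    rcases isEmpty_or_nonempty Z with hZ | hZ
    · obtain ⟨M, hM, he⟩ := algebraizable_of_isEmpty hG
      exact ⟨M, hM, (Set.eq_empty_of_isEmpty (CohB1.support M)).symm ▸ Et18.isProperOver_empty _, he⟩
    let f := Z ↘ Spec (CommRingCat.of A)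
    have : IsSeparated f := by rw [show f = i ≫ _ from hiS.symm]; infer_instance
    have : LocallyOfFiniteType f := by rw [show f = i ≫ _ from hiS.symm]; infer_instance
    have : QuasiCompact f := by rw [show f = i ≫ _ from hiS.symm]; infer_instance
    have : IsLocallyNoetherian Z := LocallyOfFiniteType.isLocallyNoetherian f
    have : CompactSpace Z := QuasiCompact.compactSpace_of_compactSpace f
    have : Z.IsSeparated := Scheme.IsSeparated.mk (by
      rw [← Limits.terminal.comp_from f]; infer_instance)
    have hcl : ∀ {F : Z.Modules}, Coh.IsCoh F → IsClosed (CohB1.support F) := fun {F} hF =>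
      isClosed_support F (locallyFinGen_of_isFT F hF.2)
    obtain ⟨Z', π, hπ, hqp, V, hV, hiso⟩ := Groth.Agent.S8563.result f
    have := RelVALib.isProper_of_isProjective hπ
    let _ : Z'.Over (Spec (CommRingCat.of A)) := ⟨π ≫ f⟩
    have : LocallyOfFiniteType (Z' ↘ Spec (CommRingCat.of A)) :=
      inferInstanceAs (LocallyOfFiniteType (π ≫ f))
    have : IsLocallyNoetherian Z' := LocallyOfFiniteType.isLocallyNoetherian π
    obtain ⟨y, hy⟩ := hV
    let S' : Closeds X₀ := ⟨i '' (V : Set Z)ᶜ, i.isClosedMap _ V.isOpen.isClosed_compl⟩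
    have hlt : S' < S := by
      refine lt_of_le_not_ge (fun x ⟨z, _, hz⟩ => hrange ⟨z, hz⟩) fun h => ?_
      obtain ⟨z, hz, hzy⟩ := h (hrange ⟨y, rfl⟩)
      exact hz (i.isClosedEmbedding.injective hzy ▸ hy)
    have hemb : ∀ G : ℕᵒᵖ ⥤ Z.Modules, Formal.IsCohFormal I G →
        ClSub.IsProperOver f (CohB1.support (G.obj (op 0))) →
        ∃ M : Z.Modules, Coh.IsCoh M ∧ ClSub.IsProperOver f (CohB1.support M) ∧
        ∃ β : ∀ n, G.obj (op n) ⟶ (Formal.completion I M).obj (op n), Compat β ∧ ARMono β := by
      intro G hG hGs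
      obtain ⟨F, hF, hFs, ⟨e⟩⟩ := algebraizable_of_isQuasiProjective (X := Z') hqp
        (isCohFormal_pullSys (p := π) rfl hG) (by
          show ClSub.IsProperOver (π ≫ f) (CohB1.support ((Scheme.Modules.pullback π).obj (G.obj (op 0))))
          rw [support_pullback_qcoh π (hG.1 0).1 (hG.1 0).2]
          exact isProperOver_preimage_of_isProper (f := π ≫ f) (q := f) π rfl hGs)
      obtain ⟨M, hM, ⟨-, hMs⟩, hβ⟩ := exists_embedding π rfl V hG hF e
        (fun M => Coh.IsCoh M ∧ ClSub.IsProperOver f (CohB1.support M))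
        (fun hM hN => ⟨isCoh_biprod hM.1 hN.1, isProperOver_support_biprod hM.1 hN.1 hM.2 hN.2⟩)
        ⟨isCoh_push_of_isProper π hF, Et18.IsProperOver.of_subset
          (isProperOver_image_of_universallyClosed (f := π ≫ f) (q := f) π rfl hFs)
          (hcl (isCoh_push_of_isProper π hF))
          (support_push_subset_image π π.isClosedMap F hFs.choose)⟩
        fun {W} _ j _ hj hjV => by
          have : IsLocallyNoetherian W := LocallyOfFiniteType.isLocallyNoetherian j
          have : LocallyOfFiniteType (W ↘ Spec (CommRingCat.of A)) := hj ▸ inferInstance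
          obtain ⟨M, hM, hMs, he⟩ := ih S' hlt W (j ≫ i) inferInstance
            (by rw [Category.assoc, hiS, hj]) (by
              rintro x ⟨w, rfl⟩
              exact ⟨j w, hjV ⟨w, rfl⟩, (Scheme.Hom.comp_apply j i w).symm⟩)
            (pullSys j G) (isCohFormal_pullSys hj hG) (by
              show ClSub.IsProperOver _ (CohB1.support ((Scheme.Modules.pullback j).obj (G.obj (op 0))))
              rw [support_pullback_qcoh j (hG.1 0).1 (hG.1 0).2]
              exact isProperOver_preimage_of_isProper (f := W ↘ Spec (CommRingCat.of A)) (q := f) j hj hGs)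
          refine ⟨M, hM, ⟨isCoh_push_finite j hM, Et18.IsProperOver.of_subset
            (isProperOver_image_of_universallyClosed (f := W ↘ Spec (CommRingCat.of A)) (q := f) j hj
              hMs)
            (hcl (isCoh_push_finite j hM))
            (support_push_subset_image j j.isClosedEmbedding.isClosedMap M hMs.choose)⟩, he⟩
      exact ⟨M, hM, hMs, hβ⟩
    obtain ⟨M, hM, hMs, α, hαc, hα⟩ := hemb G hG hGs
    have hC := isCohFormal_cokerSys hαc hG (isCohFormal_completion I hM)
    obtain ⟨M', hM', hM's, γ, hγc, hγ⟩ := hemb (cokerSys hαc) hC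
      (Et18.IsProperOver.of_subset hMs (hcl (hC.1 0))
        ((support_subset_of_epi (cokernel.π (α 0))).trans
          (support_modPow_subset_support (I := I) (0 + 1) M)))
    have := finiteOnSupp_of_isProperOver (A := A) (M := internalHom M M')
      (Et18.IsProperOver.of_subset hMs (hcl (isCoh_internalHom hM hM'))
        (support_internalHom_subset M M' (hcl hM)))
    obtain ⟨φ, he⟩ := algebraizable_of_two_step hG hM hM'
      (fun τ => (existsUnique_hom I hM hM' τ).exists) hαc hα hγc hγ
    have hK := isCoh_kernel φ hM hM'.1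
    exact ⟨kernel φ, hK, Et18.IsProperOver.of_subset hMs (hcl hK)
      (support_subset_of_mono (kernel.ι φ)), he⟩
  exact hmain ⊤ X₀ (𝟙 X₀) inferInstance (Category.id_comp _) (Set.subset_univ _) G hG hs

end Groth.Agent.Coherent.Existence
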