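import Groth.Agent.Coherent.Existence.StrSystem
import Groth.Agent.Coherent.Existence.ProperSupport
import Groth.Agent.Coherent.AnnSheaf

/-!
# Algebraizing a formal closed subscheme
-/

set_option autoImplicit false
set_option backward.isDefEq.respectTransparency false

universe u

open CategoryTheory CategoryTheory.Limits AlgebraicGeometry Opposite TopologicalSpace
open Groth.Agent.Coherent Groth.Agent.Coherent.Serre

namespace Groth.Agent.Coherent.Existence

variable {A : Type u} [CommRing A]

/-- `Hom(F, N)` is supported in the support of `N`. -/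
theorem support_internalHom_subset_right {X : Scheme.{u}} (F N : X.Modules)
    (hN : IsClosed (CohB1.support N)) : CohB1.support (internalHom F N) ⊆ CohB1.support N := fun x hx => by
  by_contra hxN
  refine notMem_support_of_subsingleton _ (U := ⟨_, hN.isOpen_compl⟩) hxN (fun V _ hle => ?_) hx
  exact subsingleton_of_forall_eq 0 fun a => locHom_ext (φ := secHom a) fun W hW b =>
    eq_zero_of_disjoint_support N W (fun y hy => hle (hW hy)) _ |>.trans
      (eq_zero_of_disjoint_support N W (fun y hy => hle (hW hy)) _).symm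

/-- A coherent module with proper support which is `I` times itself on affine opens vanishes. -/
theorem subsingleton_sections_of_nakayama [IsNoetherianRing A] {I : Ideal A} [IsAdicComplete I A]
    {X : Scheme.{u}} [X.Over (Spec (CommRingCat.of A))] [IsLocallyNoetherian X] {M : X.Modules}
    (hM : Coh.IsCoh M)
    (hs : ClSub.IsProperOver (X ↘ Spec (CommRingCat.of A)) (CohB1.support M))
    (h : ∀ U : X.affineOpens, ∀ a : Γ(M, U.1),
      a ∈ openIdeal I U.1 • (⊤ : Submodule Γ(X, U.1) Γ(M, U.1))) (V : X.Opens) (a : Γ(M, V)) :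
    a = 0 := by
  refine eq_zero_of_disjoint_support M V (fun y _ hy => ?_) a
  let f := X ↘ Spec (CommRingCat.of A)
  obtain ⟨m, hm, hle⟩ := Ideal.exists_le_maximal (f y).asIdeal (f y).isPrime.ne_top
  obtain ⟨x, hxM, hxm⟩ : ∃ x ∈ CohB1.support M, f x = (⟨m, hm.isPrime⟩ : PrimeSpectrum A) :=
    ((PrimeSpectrum.le_iff_specializes (f y) ⟨m, hm.isPrime⟩).1 hle).mem_closed
      (Et18.IsProperOver.isClosed_image hs) ⟨y, hy, rfl⟩
  have hIx : f x ∈ PrimeSpectrum.zeroLocus (I : Set A) := by
    rw [hxm]
    exact (IsAdicComplete.le_jacobson_bot I).trans (sInf_le ⟨bot_le, hm⟩)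
  obtain ⟨U, hU, hxU, -⟩ := exists_isAffineOpen_mem_and_subset (x := x) (U := (⊤ : X.Opens)) trivial
  have hfg := ((isCoh_iff_finite_sections _).1 hM).2 U hU
  obtain ⟨r, hr, hr0⟩ := Submodule.exists_sub_one_mem_and_smul_eq_zero_of_fg_of_le_smul
    (openIdeal I U) (⊤ : Submodule Γ(X, U) Γ(M, U)) hfg.fg_top fun z _ => h ⟨U, hU⟩ z
  have hxr : x ∈ X.basicOpen r := by
    have h1 : (hU.primeIdealOf ⟨x, hxU⟩) ∈ PrimeSpectrum.basicOpen r := fun hmem =>
      (hU.primeIdealOf ⟨x, hxU⟩).isPrime.ne_top ((Ideal.eq_top_iff_one _).2 (by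
        have := sub_mem hmem (openIdeal_le_prime hU hxU hIx hr)
        rwa [sub_sub_cancel] at this))
    rw [← hU.fromSpec_preimage_basicOpen] at h1
    have h2 : hU.fromSpec (hU.primeIdealOf ⟨x, hxU⟩) ∈ X.basicOpen r := h1
    rwa [hU.fromSpec_primeIdealOf] at h2
  have := hM.1
  refine hxM (subsingleton_of_forall_eq 0 fun s => ?_)
  obtain ⟨g, w, hg, hw⟩ := QCohLoc.exists_smul_stalk_eq_germ M hU hxU s
  have h3 := congrArg (M.presheaf.germ U x hxU) (hr0 w trivial)
  rw [QCohLoc.germ_smul', map_zero, ← hw, ← smul_assoc, smul_eq_mul, IsUnit.smul_eq_zero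
    (((Scheme.mem_basicOpen _ _ _ hxU).1 hxr).mul ((Scheme.mem_basicOpen _ _ _ hxU).1 hg))] at h3
  exact h3

/-- The squares of the transition maps of the thickenings are cartesian. -/
theorem isPullback_thickTrans {X : Scheme.{u}} (f : X ⟶ Spec (CommRingCat.of A)) (I : Ideal A) (n : ℕ) :
    IsPullback (CohB1.thickTrans f I n) (CohB1.thickToBase f I n) (CohB1.thickToBase f I (n + 1))
      (CohB1.specQuotTrans I n) := by
  have e : CohB1.specQuotTrans I n ≫ CohB1.specQuot I (n + 1) = CohB1.specQuot I n := by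
    rw [CohB1.specQuotTrans, CohB1.specQuot, CohB1.specQuot, ← Spec.map_comp]
    rfl
  refine IsPullback.of_right ?_ (pullback.lift_snd _ _ _) (IsPullback.of_hasPullback f _)
  rw [e]
  exact (show CohB1.thickTrans f I n ≫ pullback.fst f (CohB1.specQuot I (n + 1)) =
    pullback.fst f (CohB1.specQuot I n) by
      rw [CohB1.thickTrans, pullback.lift_fst, Category.comp_id]) ▸ IsPullback.of_hasPullback f _

theorem thickTrans_thickι {X : Scheme.{u}} (f : X ⟶ Spec (CommRingCat.of A)) (I : Ideal A) (n : ℕ) :
    CohB1.thickTrans f I n ≫ CohB1.thickι f I (n + 1) = CohB1.thickι f I n := by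
  rw [CohB1.thickTrans, CohB1.thickι, CohB1.thickι, pullback.lift_fst, Category.comp_id]

theorem isClosedImmersion_thickι {X : Scheme.{u}} (f : X ⟶ Spec (CommRingCat.of A)) (I : Ideal A)
    (n : ℕ) : IsClosedImmersion (CohB1.thickι f I n) := by
  have : IsClosedImmersion (CohB1.specQuot I n) :=
    IsClosedImmersion.spec_of_surjective _ Ideal.Quotient.mk_surjective
  exact inferInstanceAs (IsClosedImmersion (pullback.fst f (CohB1.specQuot I n)))

/-- A closed immersion into a thickening is a pullback as soon as the kernels agree there. -/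
theorem isPullback_of_ker_comap {W X T P : Scheme.{u}} (i : W ⟶ X) [IsClosedImmersion i]
    (g : T ⟶ X) (z : P ⟶ T) [IsClosedImmersion z] (w : P ⟶ W) (hw : w ≫ i = z ≫ g)
    (h : z.ker = i.ker.comap g) : IsPullback w z i g := by
  let s := pullback.snd i g
  have hs : s.ker = i.ker.comap g :=
    FSchLib.ker_of_isPullback (IsPullback.of_hasPullback i g).flip
  let l := IsClosedImmersion.lift s z (hs.trans h.symm).le
  let l' := IsClosedImmersion.lift z s (h.trans hs.symm).le
  have hl : l ≫ s = z := IsClosedImmersion.lift_fac _ _ _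
  have hl' : l' ≫ z = s := IsClosedImmersion.lift_fac _ _ _
  have hiso : IsIso l := ⟨l', by rw [← cancel_mono z, Category.assoc, hl', hl, Category.id_comp],
    by rw [← cancel_mono s, Category.assoc, hl, hl', Category.id_comp]⟩
  refine IsPullback.of_iso_pullback ⟨hw⟩ (asIso l) ?_ hl
  rw [← cancel_mono i, Category.assoc, pullback.condition, ← Category.assoc, hw]
  exact congrArg (· ≫ g) hl

end Groth.Agent.Coherent.Existence
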