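import Groth.Agent.Coherent.Existence.Extend
import Groth.Agent.FSchLib.Systems
import Groth.Agent.Coherent.ProperFinite

/-!
# The formal module of structure sheaves of a compatible system of finite schemes
-/

set_option autoImplicit false
set_option backward.isDefEq.respectTransparency false

universe u

open CategoryTheory CategoryTheory.Limits AlgebraicGeometry Opposite TopologicalSpace
open Groth.Agent.Coherent Groth.Agent.Coherent.Serre

namespace Groth.Agent.Coherent.Existence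

section OverHom

variable {P Q X : Scheme.{u}}

/-- A morphism over `X` gives a morphism of the direct images of the structure sheaves. -/
noncomputable def overHom (a : P ⟶ X) (b : Q ⟶ X) (t : P ⟶ Q) (h : t ≫ b = a) :
    (Coh.push b).obj (Coh.structureModule Q) ⟶ (Coh.push a).obj (Coh.structureModule P) :=
  have hle : ∀ U : X.Opens, a ⁻¹ᵁ U ≤ t ⁻¹ᵁ (b ⁻¹ᵁ U) := fun U => le_of_eq (by rw [← h]; rfl)
  ⟨PresheafOfModules.homMk
    { app := fun U => AddCommGrpCat.ofHom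
        ((t.appLE (b ⁻¹ᵁ U.unop) (a ⁻¹ᵁ U.unop) (hle U.unop)).hom :
          Γ(Q, b ⁻¹ᵁ U.unop) →+* Γ(P, a ⁻¹ᵁ U.unop)).toAddMonoidHom
      naturality := fun U V i => by
        ext s
        show t.appLE _ _ _ (Q.presheaf.map _ s) = P.presheaf.map _ (t.appLE _ _ _ s)
        rw [← CommRingCat.comp_apply, ← CommRingCat.comp_apply, Scheme.Hom.map_appLE,
          Scheme.Hom.appLE_map]
        rfl }
    (fun U r s => by
      show t.appLE _ _ (hle U.unop) (b.app U.unop r * (show Γ(Q, b ⁻¹ᵁ U.unop) from s)) =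
        a.app U.unop r * t.appLE _ _ (hle U.unop) (show Γ(Q, b ⁻¹ᵁ U.unop) from s)
      rw [map_mul]
      congr 1
      subst h
      rw [← CommRingCat.comp_apply, Scheme.Hom.appLE, Scheme.Hom.comp_app]
      simp)⟩

end OverHom

section Base

variable {A : Type u} [CommRing A] {I : Ideal A} {n : ℕ} {P : Scheme.{u}}

theorem toGlobal_specQuot_eq_zero (q : P ⟶ Spec (CommRingCat.of (A ⧸ I ^ (n + 1)))) {c : A}
    (hc : c ∈ I ^ (n + 1)) : Coh.toGlobal (q ≫ CohB1.specQuot I n) c = 0 := by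
  show (q ≫ CohB1.specQuot I n).appTop ((Scheme.ΓSpecIso (CommRingCat.of A)).inv c) = 0
  rw [Scheme.Hom.comp_appTop, ← CommRingCat.comp_apply, CohB1.specQuot, ← Category.assoc,
    ← Scheme.ΓSpecIso_inv_naturality, CommRingCat.comp_apply, CommRingCat.comp_apply]
  show q.appTop ((Scheme.ΓSpecIso _).inv (Ideal.Quotient.mk (I ^ (n + 1)) c)) = 0
  rw [Ideal.Quotient.eq_zero_iff_mem.2 hc, map_zero, map_zero]

theorem ker_specQuotTrans_top (I : Ideal A) (n : ℕ) :
    (CohB1.specQuotTrans I n).ker.ideal ⟨⊤, isAffineOpen_top _⟩ =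
      (I ^ (n + 1)).map ((Scheme.ΓSpecIso (CommRingCat.of (A ⧸ I ^ (n + 2)))).inv.hom.comp
        (Ideal.Quotient.mk (I ^ (n + 2)))) := by
  rw [CohB1.specQuotTrans, FSchLib.ker_specMap, FSchLib.idealSpec_ideal_top, Ideal.Quotient.factor_ker,
    Ideal.map_map]

end Base

variable {A : Type u} [CommRing A] [IsNoetherianRing A] {X : Scheme.{u}}
  [X.Over (Spec (CommRingCat.of A))] {I : Ideal A} {Z : ℕ → Scheme.{u}} (ζ : ∀ n, Z n ⟶ X)
  (q : ∀ n, Z n ⟶ Spec (CommRingCat.of (A ⧸ I ^ (n + 1))))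
  (hq : ∀ n, ζ n ≫ (X ↘ Spec (CommRingCat.of A)) = q n ≫ CohB1.specQuot I n)
  (t : ∀ n, Z n ⟶ Z (n + 1)) (ht : ∀ n, t n ≫ ζ (n + 1) = ζ n)
  (hcart : ∀ n, IsPullback (t n) (q n) (q (n + 1)) (CohB1.specQuotTrans I n))

/-- The formal module `ζ_* O`. -/
noncomputable def strSys : ℕᵒᵖ ⥤ X.Modules :=
  Functor.ofOpSequence (X := fun n => (Coh.push (ζ n)).obj (Coh.structureModule (Z n)))
    fun n => overHom (ζ n) (ζ (n + 1)) (t n) (ht n)

omit [IsNoetherianRing A] [X.Over (Spec (CommRingCat.of A))] in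
theorem tr_strSys (n : ℕ) : tr (strSys ζ t ht) n = overHom (ζ n) (ζ (n + 1)) (t n) (ht n) :=
  Functor.ofOpSequence_map_homOfLE_succ _ _

omit [IsNoetherianRing A] in
include hq in
theorem killedBy_strSys (n : ℕ) :
    Formal.KilledBy (I ^ (n + 1)) ((Coh.push (ζ n)).obj (Coh.structureModule (Z n))) := fun c hc => by
  refine Scheme.Modules.hom_ext _ _ fun U => ?_
  ext (x : Γ(Z n, ζ n ⁻¹ᵁ U))
  rw [smulMod_app]
  show (ζ n).app U (X.presheaf.map (homOfLE (le_top (a := U))).op (baseHom A X c)) * x = 0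
  have h0 : (ζ n).appTop (baseHom A X c) = 0 := by
    show (ζ n).appTop (Coh.toGlobal (X ↘ Spec (CommRingCat.of A)) c) = 0
    rw [show (ζ n).appTop (Coh.toGlobal (X ↘ Spec (CommRingCat.of A)) c) =
      Coh.toGlobal (ζ n ≫ (X ↘ Spec (CommRingCat.of A))) c from rfl, hq n]
    exact toGlobal_specQuot_eq_zero (q n) hc
  rw [← CommRingCat.comp_apply, Scheme.Hom.naturality, CommRingCat.comp_apply]
  erw [h0]
  rw [map_zero, zero_mul]

variable [∀ n, IsFinite (ζ n)] [IsLocallyNoetherian X]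

include hq hcart ht in
theorem isCohFormal_strSys : Formal.IsCohFormal I (strSys ζ t ht) := by
  have hN : ∀ n, IsLocallyNoetherian (Z n) := fun n => LocallyOfFiniteType.isLocallyNoetherian (ζ n)
  have hcoh : ∀ n, Coh.IsCoh ((Coh.push (ζ n)).obj (Coh.structureModule (Z n))) := fun n =>
    isCoh_push_finite (ζ n) (isCoh_structureModule (Z n))
  refine ⟨hcoh, killedBy_strSys ζ q hq, fun n => ?_⟩
  rw [show (strSys ζ t ht).map (homOfLE (Nat.le_succ n)).op = _ from tr_strSys ζ t ht n]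
  have h : Formal.smulFamily (I ^ (n + 1)) ((Coh.push (ζ (n + 1))).obj (Coh.structureModule (Z (n + 1)))) ≫
      overHom (ζ n) (ζ (n + 1)) (t n) (ht n) = 0 :=
    Sigma.hom_ext _ _ fun c => by
      rw [comp_zero, ← Category.assoc, ι_smulFamily, smulMod_natural,
        killedBy_strSys ζ q hq n c c.2, comp_zero]
  refine ⟨h, ?_⟩
  have : IsClosedImmersion (CohB1.specQuotTrans I n) :=
    IsClosedImmersion.spec_of_surjective _ (Ideal.Quotient.factor_surjective (Ideal.pow_le_pow_right (Nat.le_succ (n + 1))))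
  have hci : IsClosedImmersion (t n) :=
    MorphismProperty.of_isPullback (P := @IsClosedImmersion) (hcart n).flip inferInstance
  refine isIso_desc_of_cover (hcoh (n + 1)) (hcoh n) _ _ (fun U : X.affineOpens => U.1) (fun U => U.2)
    (fun x => ?_) (fun U b => ?_) fun U a ha => ?_
  · obtain ⟨U, hU, hxU, -⟩ := exists_isAffineOpen_mem_and_subset (x := x) (U := (⊤ : X.Opens)) trivial
    exact ⟨⟨U, hU⟩, hxU⟩
  all_goals
    have hV : IsAffineOpen (ζ (n + 1) ⁻¹ᵁ U.1) := U.2.preimage (ζ (n + 1))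
    have e : ζ n ⁻¹ᵁ U.1 = t n ⁻¹ᵁ (ζ (n + 1) ⁻¹ᵁ U.1) := by rw [← ht n]; rfl
  · obtain ⟨a, ha⟩ := (t n).app_surjective _ hV ((Z n).presheaf.map (eqToHom e.symm).op b)
    refine ⟨a, ?_⟩
    show (t n).appLE (ζ (n + 1) ⁻¹ᵁ U.1) (ζ n ⁻¹ᵁ U.1) _ a = b
    rw [Scheme.Hom.appLE, CommRingCat.comp_apply, ha, ← CommRingCat.comp_apply, ← Functor.map_comp]
    exact ConcreteCategory.congr_hom ((Z n).presheaf.map_id _) b
  · have h0 : (t n).app (ζ (n + 1) ⁻¹ᵁ U.1) a = 0 := by
      have h1 : (t n).appLE (ζ (n + 1) ⁻¹ᵁ U.1) (ζ n ⁻¹ᵁ U.1) (le_of_eq e) a = 0 := ha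
      rw [Scheme.Hom.appLE, CommRingCat.comp_apply] at h1
      have h2 := congrArg ((Z n).presheaf.map (eqToHom e.symm).op) h1
      rw [map_zero, ← CommRingCat.comp_apply, ← Functor.map_comp] at h2
      exact (ConcreteCategory.congr_hom ((Z n).presheaf.map_id _) _).symm.trans h2
    have hk : (t n).ker.ideal ⟨ζ (n + 1) ⁻¹ᵁ U.1, hV⟩ =
        (openIdeal I U.1 ^ (n + 1)).map ((ζ (n + 1)).app U.1).hom := by
      rw [FSchLib.ker_of_isPullback (hcart n), FSchLib.ideal_comap_eq_map (q (n + 1)) _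
        ⟨ζ (n + 1) ⁻¹ᵁ U.1, hV⟩ ⟨⊤, isAffineOpen_top _⟩ le_top, ker_specQuotTrans_top, Ideal.map_map,
        openIdeal, ← Ideal.map_pow, Ideal.map_map]
      refine congrArg (fun φ => Ideal.map φ (I ^ (n + 1))) (RingHom.ext fun c => ?_)
      show (q (n + 1)).appLE ⊤ _ le_top ((Scheme.ΓSpecIso _).inv (Ideal.Quotient.mk _ c)) =
        (ζ (n + 1)).app U.1 (X.presheaf.map (homOfLE (le_top (a := U.1))).op (baseHom A X c))
      rw [← CommRingCat.comp_apply (X.presheaf.map _), Scheme.Hom.naturality, CommRingCat.comp_apply]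
      have h3 : (ζ (n + 1)).appTop (baseHom A X c) =
          (q (n + 1)).appTop ((Scheme.ΓSpecIso _).inv (Ideal.Quotient.mk (I ^ (n + 1 + 1)) c)) := by
        show Coh.toGlobal (ζ (n + 1) ≫ (X ↘ Spec (CommRingCat.of A))) c = _
        rw [hq]
        show (q (n + 1) ≫ CohB1.specQuot I (n + 1)).appTop _ = _
        rw [Scheme.Hom.comp_appTop, ← CommRingCat.comp_apply, CohB1.specQuot, ← Category.assoc,
          ← Scheme.ΓSpecIso_inv_naturality, CommRingCat.comp_apply, CommRingCat.comp_apply]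
        rfl
      erw [h3]
      rfl
    rw [Scheme.Hom.ker_apply] at hk
    have h4 : a ∈ (openIdeal I U.1 ^ (n + 1)).map ((ζ (n + 1)).app U.1).hom := hk.le h0
    refine mem_push_of_mem_map (Coh.structureModule (Z (n + 1))) (openIdeal I U.1 ^ (n + 1)) a ?_
    exact mul_one (show Γ(Z (n + 1), ζ (n + 1) ⁻¹ᵁ U.1) from a) ▸
      Submodule.smul_mem_smul (N := (⊤ : Submodule Γ(Z (n + 1), ζ (n + 1) ⁻¹ᵁ U.1)
        Γ(Coh.structureModule (Z (n + 1)), ζ (n + 1) ⁻¹ᵁ U.1)))
        (n := (show Γ(Z (n + 1), ζ (n + 1) ⁻¹ᵁ U.1) from 1)) h4 trivial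

end Groth.Agent.Coherent.Existence
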