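import Groth.Agent.Coherent.Existence.ARLift
import Groth.Agent.Coherent.Existence.EssSurj

/-!
# A formal module resolved by two completions is a completion
-/

set_option autoImplicit false
set_option backward.isDefEq.respectTransparency false

universe u

open CategoryTheory CategoryTheory.Limits AlgebraicGeometry Opposite TopologicalSpace
open Groth.Agent.Coherent Groth.Agent.Coherent.Serre

namespace Groth.Agent.Coherent.Existence

variable {X : Scheme.{u}}

/-- A morphism of quasi-coherent modules vanishing on an affine cover vanishes. -/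
theorem hom_eq_zero_of_cover {ι : Type*} (U : ι → X.Opens) (hU : ∀ i, IsAffineOpen (U i))
    (hcov : ∀ x : X, ∃ i, x ∈ U i) {M N : X.Modules} (g : M ⟶ N) [Coh.IsQCoh M] [Coh.IsQCoh N]
    (h : ∀ i (a : Γ(M, U i)), g.app (U i) a = 0) : g = 0 := by
  have : Coh.IsQCoh (kernel g) := isQCoh_kernel g
  have := epi_of_cover_surjective U hU hcov (kernel.ι g) fun i a =>
    kernel_sections_exact g a (h i a)
  rw [← cancel_epi (kernel.ι g), kernel.condition, comp_zero]

variable {A : Type u} [CommRing A] [X.Over (Spec (CommRingCat.of A))] (I : Ideal A)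

theorem modPowMap_comp (n : ℕ) {M N K : X.Modules} (f : M ⟶ N) (g : N ⟶ K) :
    modPowMap I n f ≫ modPowMap I n g = modPowMap I n (f ≫ g) := by
  rw [← cancel_epi (Formal.modPowπ I n M), ← Category.assoc, π_modPowMap, Category.assoc,
    π_modPowMap, π_modPowMap, Category.assoc]

theorem modPowMap_zero (n : ℕ) (M N : X.Modules) : modPowMap I n (0 : M ⟶ N) = 0 := by
  rw [← cancel_epi (Formal.modPowπ I n M), π_modPowMap, zero_comp, comp_zero]

theorem modPowMap_id (n : ℕ) (M : X.Modules) : modPowMap I n (𝟙 M) = 𝟙 _ := by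
  rw [← cancel_epi (Formal.modPowπ I n M), π_modPowMap, Category.id_comp, Category.comp_id]

theorem compat_modPowMap {M N : X.Modules} (f : M ⟶ N) :
    Compat (P := Formal.completion I M) (G := Formal.completion I N)
      fun n => modPowMap I (n + 1) f := fun n => by
  refine (cancel_epi (Formal.modPowπ I (n + 1 + 1) M)).1 ?_
  refine (π_tr_completion_assoc I M n _).trans ((π_modPowMap I (n + 1) f).trans ?_)
  refine Eq.trans ?_ (Category.assoc _ _ _)
  refine Eq.trans ?_ (congrArg (· ≫ tr (Formal.completion I N) n) (π_modPowMap I (n + 1 + 1) f).symm)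
  exact (congrArg (f ≫ ·) (π_tr_completion I N n).symm).trans (Category.assoc _ _ _).symm

/-- The completion of a monomorphism is AR-injective. -/
theorem armono_of_mono [IsNoetherianRing A] [IsLocallyNoetherian X] [CompactSpace X]
    {M N : X.Modules} (f : M ⟶ N) [Mono f] (hM : Coh.IsCoh M) (hN : Coh.IsCoh N) :
    ARMono (G := Formal.completion I M) (H := Formal.completion I N)
      fun n => modPowMap I (n + 1) f := by
  obtain ⟨s, hs⟩ := Groth.Agent.H8Top.exists_finite_affine_cover X
  have key : ∀ i : s, ∃ c, ∀ n (a : Γ(M, i.1.1)),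
      f.app i.1.1 a ∈ openIdeal I i.1.1 ^ (n + c) • (⊤ : Submodule Γ(X, i.1.1) Γ(N, i.1.1)) →
      a ∈ openIdeal I i.1.1 ^ n • (⊤ : Submodule Γ(X, i.1.1) Γ(M, i.1.1)) := fun i => by
    have := IsLocallyNoetherian.component_noetherian (X := X) i.1
    have := ((isCoh_iff_finite_sections N).1 hN).2 i.1.1 i.1.2
    obtain ⟨c, hc⟩ := exists_pow_inf_le (openIdeal I i.1.1) (LinearMap.range (appLin f i.1.1))
    refine ⟨c, fun n a ha => ?_⟩
    have h1 : appLin f i.1.1 a ∈ openIdeal I i.1.1 ^ n • LinearMap.range (appLin f i.1.1) :=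
      hc n ⟨ha, ⟨a, rfl⟩⟩
    rw [LinearMap.range_eq_map, ← Submodule.map_smul''] at h1
    obtain ⟨b, hb, hba⟩ := h1
    rwa [app_injective_of_mono f i.1.1 hba] at hb
  choose c hc using key
  intro n
  refine ⟨n + Finset.univ.sup c, Nat.le_add_right _ _, ?_⟩
  have hq : ∀ k, Coh.IsCoh (Formal.modPow I (k + 1) M) := fun k => isCoh_modPow I hM (k + 1)
  have := (hq n).1
  have := (isCoh_kernel (modPowMap I (n + Finset.univ.sup c + 1) f) (hq _)
    (isCoh_modPow I hN _).1).1
  have : Coh.IsQCoh ((Formal.completion I M).obj (op n)) := (hq n).1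
  refine hom_eq_zero_of_cover (fun i : s => i.1.1) (fun i => i.1.2)
    (fun x => Opens.mem_iSup.1 (hs.ge (Opens.mem_top x))) _ fun i x => ?_
  obtain ⟨a, ha⟩ := modPowπ_app_surjective' I hM (n + Finset.univ.sup c + 1) i.1.2
    ((kernel.ι (modPowMap I (n + Finset.univ.sup c + 1) f)).app i.1.1 x)
  have h0 : (Formal.modPowπ I (n + Finset.univ.sup c + 1) N).app i.1.1 (f.app i.1.1 a) = 0 := by
    refine ((comp_app_eq f _ _ a).symm.trans
      ((app_congr (π_modPowMap I (n + Finset.univ.sup c + 1) f) i.1.1 a).symm.trans ?_))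
    rw [comp_app_eq, ha]
    exact kernel_ι_app_zero _ _ _
  rw [modPowπ_app_eq_zero_iff I hN _ i.1.2] at h0
  have hle : n + 1 + c i ≤ n + Finset.univ.sup c + 1 := by
    have := Finset.le_sup (f := c) (Finset.mem_univ i); omega
  have h1 := hc i (n + 1) a (Submodule.smul_mono_left (Ideal.pow_le_pow_right hle) h0)
  rw [← modPowπ_app_eq_zero_iff I hM (n + 1) i.1.2] at h1
  refine (comp_app_eq _ _ _ x).trans ?_
  refine (congrArg _ ha.symm).trans ((comp_app_eq _ _ _ a).symm.trans ?_)
  exact (app_congr (modPowπ_completion_map I M (Nat.le_add_right n _)) i.1.1 a).trans h1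

variable {I} {P G : ℕᵒᵖ ⥤ X.Modules} {f : ∀ n, P.obj (op n) ⟶ G.obj (op n)}

/-- The system of cokernels. -/
noncomputable def cokerSys (hf : Compat f) : ℕᵒᵖ ⥤ X.Modules :=
  Functor.ofOpSequence (X := fun n => cokernel (f n))
    (fun n => cokernel.map _ _ (tr P n) (tr G n) (hf n).symm)

theorem π_cokerSys_tr (hf : Compat f) (n : ℕ) :
    cokernel.π (f (n + 1)) ≫ tr (cokerSys hf) n = tr G n ≫ cokernel.π (f n) :=
  (congrArg (cokernel.π (f (n + 1)) ≫ ·) (Functor.ofOpSequence_map_homOfLE_succ _ n)).trans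
    (cokernel.π_desc _ _ _)

theorem compat_cokerπ (hf : Compat f) :
    Compat (P := G) (G := cokerSys hf) fun n => cokernel.π (f n) :=
  fun n => (π_cokerSys_tr hf n).symm

theorem isCohFormal_cokerSys (hf : Compat f) (hP : Formal.IsCohFormal I P)
    (hG : Formal.IsCohFormal I G) : Formal.IsCohFormal I (cokerSys hf) := by
  refine ⟨fun n => isCoh_cokernel (f n) (hP.1 n).1 (hG.1 n), fun n c hc => ?_, fun n => ?_⟩
  · change Formal.smulMod A (cokernel (f n)) c = 0
    rw [← cancel_epi (cokernel.π (f n)), comp_zero, ← smulMod_natural, hG.2.1 n c hc, zero_comp]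
  · let c := cokernel.π (f (n + 1))
    have h : Formal.smulFamily (I ^ (n + 1)) (cokernel (f (n + 1))) ≫ tr (cokerSys hf) n = 0 := by
      refine Sigma.hom_ext _ _ fun a => ?_
      rw [comp_zero, ← Category.assoc, ι_smulFamily, ← cancel_epi c, comp_zero, ← Category.assoc]
      show (c ≫ Formal.smulMod A (cokernel (f (n + 1))) a) ≫ tr (cokerSys hf) n = 0
      rw [← smulMod_natural, Category.assoc, π_cokerSys_tr, ← Category.assoc]
      refine (congrArg (· ≫ cokernel.π (f n)) ?_).trans zero_comp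
      rw [← ι_smulFamily (I ^ (n + 1)) _ a, Category.assoc, smulFamily_tr hG, comp_zero]
    refine ⟨h, ?_⟩
    let p := cokernel.π (Formal.smulFamily (I ^ (n + 1)) (cokernel (f (n + 1))))
    have hp : Formal.smulFamily (I ^ (n + 1)) (G.obj (op (n + 1))) ≫ c ≫ p = 0 := by
      refine Sigma.hom_ext _ _ fun a => ?_
      rw [comp_zero, ← Category.assoc, ι_smulFamily, ← Category.assoc, smulMod_natural,
        ← ι_smulFamily (I ^ (n + 1)) _ a, Category.assoc, Category.assoc, cokernel.condition,
        comp_zero, comp_zero]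
    have hex := exact_smulFamily_tr hG n
    have := epi_tr hG n
    obtain ⟨b, hb⟩ : ∃ b, tr G n ≫ b = c ≫ p := ⟨hex.desc _ hp, hex.g_desc _ _⟩
    have hfb : f n ≫ b = 0 := by
      have := epi_tr hP n
      rw [← cancel_epi (tr P n), comp_zero, ← Category.assoc, hf n, Category.assoc, hb,
        ← Category.assoc, cokernel.condition, zero_comp]
    refine ⟨cokernel.desc (f n) b hfb, ?_, ?_⟩
    · refine (cancel_epi p).1 ((cancel_epi c).1 ?_)
      refine (congrArg (c ≫ ·) ((Category.assoc _ _ _).symm.trans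
        (congrArg (· ≫ cokernel.desc (f n) b hfb) (cokernel.π_desc _ _ h)))).trans ?_
      refine ((Category.assoc _ _ _).symm.trans
        (congrArg (· ≫ cokernel.desc (f n) b hfb) (π_cokerSys_tr hf n))).trans ?_
      refine (Category.assoc _ _ _).trans
        ((congrArg (tr G n ≫ ·) (cokernel.π_desc _ _ hfb)).trans (hb.trans ?_))
      exact congrArg (c ≫ ·) (Category.comp_id p).symm
    · refine (cancel_epi (cokernel.π (f n))).1 ?_
      refine (cancel_epi (tr G n)).1 ?_
      refine (congrArg (tr G n ≫ ·) ((Category.assoc _ _ _).symm.trans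
        (congrArg (· ≫ _) (cokernel.π_desc _ _ hfb)))).trans ?_
      refine ((Category.assoc _ _ _).symm.trans (congrArg (· ≫ _) hb)).trans ?_
      refine (Category.assoc _ _ _).trans ((congrArg (c ≫ ·) (cokernel.π_desc _ _ h)).trans ?_)
      exact (π_cokerSys_tr hf n).trans (congrArg (tr G n ≫ ·) (Category.comp_id _).symm)

/-- A formal module which embeds into a completion, with cokernel embedding into a completion, is
a completion. -/
theorem algebraizable_of_two_step [IsNoetherianRing A] [IsLocallyNoetherian X] [CompactSpace X]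
    (hG : Formal.IsCohFormal I G) {M M' : X.Modules} (hM : Coh.IsCoh M) (hM' : Coh.IsCoh M')
    (hFF : ∀ τ : Formal.completion I M ⟶ Formal.completion I M', ∃ φ : M ⟶ M',
      ∀ n, Formal.modPowπ I (n + 1) M ≫ τ.app (op n) = φ ≫ Formal.modPowπ I (n + 1) M')
    {α : ∀ n, G.obj (op n) ⟶ (Formal.completion I M).obj (op n)} (hαc : Compat α) (hα : ARMono α)
    {γ : ∀ n, (cokerSys hαc).obj (op n) ⟶ (Formal.completion I M').obj (op n)} (hγc : Compat γ)
    (hγ : ARMono γ) : ∃ φ : M ⟶ M', Nonempty (Formal.completion I (kernel φ) ≅ G) := by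
  let q : ∀ n, (Formal.completion I M).obj (op n) ⟶ (cokerSys hαc).obj (op n) :=
    fun n => cokernel.π (α n)
  let T : ∀ n, (Formal.completion I M).obj (op n) ⟶ (Formal.completion I M').obj (op n) :=
    fun n => q n ≫ γ n
  have hTc : Compat T := (compat_cokerπ hαc).comp hγc
  obtain ⟨φ, hφ⟩ := hFF (NatTrans.ofOpSequence T fun n => hTc n)
  have hT : ∀ n, T n = modPowMap I (n + 1) φ := fun n => by
    refine (cancel_epi (Formal.modPowπ I (n + 1) M)).1 ?_
    exact (hφ n).trans (π_modPowMap I (n + 1) φ).symm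
  refine ⟨φ, ?_⟩
  let K := kernel φ
  have hK : Coh.IsCoh K := isCoh_kernel φ hM hM'.1
  let Im := Abelian.image φ
  have hIm : Coh.IsCoh Im := isCoh_kernel _ hM' (isCoh_cokernel φ hM.1 hM').1
  let j : ∀ n, (Formal.completion I K).obj (op n) ⟶ (Formal.completion I M).obj (op n) :=
    fun n => modPowMap I (n + 1) (kernel.ι φ)
  let ρ : ∀ n, (Formal.completion I M).obj (op n) ⟶ (Formal.completion I Im).obj (op n) :=
    fun n => modPowMap I (n + 1) (Abelian.factorThruImage φ)
  let ι : ∀ n, (Formal.completion I Im).obj (op n) ⟶ (Formal.completion I M').obj (op n) :=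
    fun n => modPowMap I (n + 1) (Abelian.image.ι φ)
  have hρι : ∀ n, ρ n ≫ ι n = T n := fun n => by
    rw [hT]; exact (modPowMap_comp I (n + 1) _ _).trans (congrArg _ (Abelian.image.fac φ))
  have hι : ARMono ι := armono_of_mono I _ hIm hM'
  have hιc : Compat ι := compat_modPowMap I _
  have hρc : Compat ρ := compat_modPowMap I _
  have hjc : Compat j := compat_modPowMap I _
  refine nonempty_iso_of_image (isCohFormal_completion I hK) hG hαc hjc hα
    (armono_of_mono I _ hK hM) (fun n => ?_) (fun n => ?_)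
  · obtain ⟨m, h, h0⟩ := hγ n
    refine ⟨m, h, ?_⟩
    have e : (j m ≫ q m) ≫ γ m = 0 := by
      rw [Category.assoc, show q m ≫ γ m = T m from rfl, hT]
      exact (modPowMap_comp I (m + 1) _ _).trans
        ((congrArg _ (kernel.condition φ)).trans (modPowMap_zero I (m + 1) _ _))
    have e2 : (j m ≫ q m) ≫ trLE (cokerSys hαc) h = 0 := by
      rw [← kernel.lift_ι (γ m) _ e, Category.assoc, h0, comp_zero]
    rw [hjc.trLE_comp h, Category.assoc, (compat_cokerπ hαc).trLE_comp h, ← Category.assoc]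
    exact e2
  · obtain ⟨m, h, h0⟩ := hι n
    refine ⟨m, h, ?_⟩
    have e : (α m ≫ ρ m) ≫ ι m = 0 := by
      rw [Category.assoc, hρι]
      show α m ≫ cokernel.π (α m) ≫ γ m = 0
      rw [cokernel.condition_assoc, zero_comp]
    have e2 : (α m ≫ ρ m) ≫ trLE (Formal.completion I Im) h = 0 := by
      rw [← kernel.lift_ι (ι m) _ e, Category.assoc, h0, comp_zero]
    obtain ⟨d, hd⟩ : ∃ d, ρ n ≫ d = cokernel.π (j n) := by
      have e3 : kernel.ι (Abelian.factorThruImage φ) ≫ (Formal.modPowπ I (n + 1) M ≫ cokernel.π (j n)) = 0 := by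
        have e5 : kernel.ι (Abelian.factorThruImage φ) ≫ φ = 0 := by
          conv_lhs => arg 2; rw [← Abelian.image.fac φ]
          rw [kernel.condition_assoc, zero_comp]
        rw [← kernel.lift_ι φ _ e5, Category.assoc, ← Category.assoc (kernel.ι φ),
          ← π_modPowMap, Category.assoc]
        erw [cokernel.condition]
        rw [comp_zero, comp_zero]
      let d₀ := Abelian.epiDesc (Abelian.factorThruImage φ) _ e3
      have hk : Formal.KilledBy (I ^ (n + 1)) (cokernel (j n)) := fun c hc => by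
        rw [← cancel_epi (cokernel.π (j n)), comp_zero, ← smulMod_natural]
        erw [killedBy_modPow I (n + 1) M c hc]
        rw [zero_comp]
      refine ⟨modPowDesc I d₀ hk, ?_⟩
      refine (cancel_epi (Formal.modPowπ I (n + 1) M)).1 ?_
      refine (Category.assoc _ _ _).symm.trans ?_
      rw [π_modPowMap, Category.assoc, π_modPowDesc]
      exact Abelian.comp_epiDesc _ _ _
    rw [← hd, hαc.trLE_comp h, Category.assoc, ← Category.assoc (trLE _ h), hρc.trLE_comp h,
      Category.assoc, ← Category.assoc (α m), ← Category.assoc (α m ≫ ρ m), e2, zero_comp]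

/-- The sum of two coherent modules is coherent. -/
theorem isCoh_biprod [IsLocallyNoetherian X] {M N : X.Modules} (hM : Coh.IsCoh M) (hN : Coh.IsCoh N) :
    Coh.IsCoh (M ⊞ N) :=
  isCoh_X₂ (ShortComplex.Splitting.ofHasBinaryBiproduct M N).shortExact hM hN

theorem comp_eq_zero_of_split {K C A' B' S : X.Modules} {a : K ⟶ C} {u : C ⟶ A'} {v : C ⟶ B'}
    {i₁ : A' ⟶ S} {i₂ : B' ⟶ S} {p : S ⟶ A'} (h₁ : i₁ ≫ p = 𝟙 _) (h₂ : i₂ ≫ p = 0)
    (hk : a ≫ (u ≫ i₁ + v ≫ i₂) = 0) : a ≫ u = 0 := by
  have := congrArg (· ≫ p) hk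
  simpa [h₁, h₂] using this

variable (I) in
/-- Two families which are jointly AR-injective give one AR-injective family to the sum. -/
theorem exists_pair {M N : X.Modules}
    {α : ∀ n, G.obj (op n) ⟶ (Formal.completion I M).obj (op n)}
    {γ : ∀ n, G.obj (op n) ⟶ (Formal.completion I N).obj (op n)} (hαc : Compat α) (hγc : Compat γ)
    (h : ∀ n, ∃ (m : ℕ) (hm : n ≤ m), ∀ {T : X.Modules} (x : T ⟶ G.obj (op m)),
      x ≫ α m = 0 → x ≫ γ m = 0 → x ≫ trLE G hm = 0) :
    ∃ β : ∀ n, G.obj (op n) ⟶ (Formal.completion I (M ⊞ N)).obj (op n), Compat β ∧ ARMono β := by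
  let β₁ : ∀ n, G.obj (op n) ⟶ (Formal.completion I (M ⊞ N)).obj (op n) :=
    fun n => α n ≫ modPowMap I (n + 1) biprod.inl
  let β₂ : ∀ n, G.obj (op n) ⟶ (Formal.completion I (M ⊞ N)).obj (op n) :=
    fun n => γ n ≫ modPowMap I (n + 1) biprod.inr
  have hc₁ : Compat β₁ := hαc.comp (compat_modPowMap I _)
  have hc₂ : Compat β₂ := hγc.comp (compat_modPowMap I _)
  refine ⟨fun n => β₁ n + β₂ n, fun n => ?_, fun n => ?_⟩
  · rw [Preadditive.comp_add, Preadditive.add_comp, hc₁ n, hc₂ n]
  · obtain ⟨m, hm, h0⟩ := h n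
    have hk := kernel.condition (β₁ m + β₂ m)
    refine ⟨m, hm, h0 _
      (comp_eq_zero_of_split (p := modPowMap I (m + 1) (biprod.fst : M ⊞ N ⟶ M)) ?_ ?_ hk)
      (comp_eq_zero_of_split (p := modPowMap I (m + 1) (biprod.snd : M ⊞ N ⟶ N)) ?_ ?_
        ((congrArg (kernel.ι _ ≫ ·) (add_comm _ _)).trans hk))⟩
    · exact (modPowMap_comp I _ _ _).trans ((congrArg _ biprod.inl_fst).trans (modPowMap_id I _ _))
    · exact (modPowMap_comp I _ _ _).trans ((congrArg _ biprod.inr_fst).trans (modPowMap_zero I _ _ _))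
    · exact (modPowMap_comp I _ _ _).trans ((congrArg _ biprod.inr_snd).trans (modPowMap_id I _ _))
    · exact (modPowMap_comp I _ _ _).trans ((congrArg _ biprod.inl_snd).trans (modPowMap_zero I _ _ _))

end Groth.Agent.Coherent.Existence
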